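import Cfsg.Agent.Lib.TwoTimesPSL.Faithful

/-!
# Faithful transitive semilinear groups, any pair stabiliser

`Faithful.main` without the hypothesis that the pair stabiliser has odd order.  An involution fixing
two points fixes the points of a subline `W`, a subfield with `|W| ^ 2 = |K|`; two points lie on
exactly one such line, so the linear parts permute the spread `{c W}`, and a 2-group doing this has
order at most `|W| log |W|`, less than twice `|K|`.
Owner: helper67.
-/

set_option autoImplicit false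
set_option linter.unusedSectionVars false
set_option linter.style.haveILetI false

namespace Cfsg.Agent.Lib.TwoTimesPSL.FaithfulEven

variable {K : Type*} [Field K] [Finite K] [CharP K 2]

/-- The hypotheses of `Faithful.Affine` apart from the odd pair stabiliser. -/
structure Aff (Γ : Subgroup (Equiv.Perm K)) : Prop where
  aff : ∀ g ∈ Γ, ∀ x y, g (x + y) + g 0 = g x + g y
  faithful : ∀ g ∈ Γ, (∀ x, g x + g 0 = x) → g = 1
  semi : ∀ g ∈ Γ, g 0 = 0 → ∃ σ : K ≃+* K, ∀ x, g x = g 1 * σ x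
  scal : ∀ c, c ≠ 0 → ∃ g ∈ Γ, ∀ x, g x = c * x
  trans : ∀ v, ∃ g ∈ Γ, g 0 = v

variable {Γ : Subgroup (Equiv.Perm K)}

/-- The linear part. -/
def lin (g : Equiv.Perm K) (x : K) : K := g x + g 0

/-- The points of the line of an element. -/
def member (W : Subfield K) (c : K) : Set K := {x | ∃ w ∈ W, c * w = x}

theorem mem_member_self (W : Subfield K) (c : K) : c ∈ member W c := ⟨1, one_mem W, mul_one c⟩

theorem zero_mem_member (W : Subfield K) (c : K) : (0 : K) ∈ member W c :=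
  ⟨0, zero_mem W, mul_zero c⟩

theorem member_eq_of_mem {W : Subfield K} {c d : K} (hd : d ≠ 0) (h : d ∈ member W c) :
    member W d = member W c := by
  obtain ⟨v, hv, rfl⟩ := h
  have hv0 : v ≠ 0 := right_ne_zero_of_mul hd
  ext x
  constructor
  · rintro ⟨w, hw, rfl⟩; exact ⟨v * w, mul_mem hv hw, by ring⟩
  · rintro ⟨w, hw, rfl⟩
    exact ⟨v⁻¹ * w, mul_mem (inv_mem hv) hw, by field_simp⟩

theorem card_member {W : Subfield K} {c : K} (hc : c ≠ 0) :
    Nat.card (member W c) = Nat.card W :=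
  (Nat.card_eq_of_bijective (fun w : W => (⟨c * w, w, w.2, rfl⟩ : member W c))
    ⟨fun v w h => Subtype.ext (mul_left_cancel₀ hc (congrArg Subtype.val h)),
      fun ⟨_, w, hw, hx⟩ => ⟨⟨w, hw⟩, Subtype.ext hx⟩⟩).symm

namespace Aff

variable (A : Aff Γ)
include A

theorem lin_add {g : Equiv.Perm K} (hg : g ∈ Γ) (x y : K) : lin g (x + y) = lin g x + lin g y := by
  show g (x + y) + g 0 = g x + g 0 + (g y + g 0)
  rw [A.aff g hg, show g x + g 0 + (g y + g 0) = g x + g y + (g 0 + g 0) by ring,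
    CharTwo.add_self_eq_zero, add_zero]

theorem lin_mul {g h : Equiv.Perm K} (hg : g ∈ Γ) (x : K) : lin (g * h) x = lin g (lin h x) := by
  show g (h x) + g (h 0) = g (h x + h 0) + g 0
  rw [A.aff g hg]

theorem two_trans {x x' : K} (h : x ≠ x') : ∃ g ∈ Γ, g 0 = x ∧ g 1 = x' := by
  obtain ⟨g, hg, hg0⟩ := A.trans x
  have hb : g.symm x' ≠ 0 := fun e => h (by rw [← hg0, ← e, Equiv.apply_symm_apply])
  obtain ⟨s, hs, hsx⟩ := A.scal _ hb
  refine ⟨g * s, mul_mem hg hs, ?_, ?_⟩
  · show g (s 0) = x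
    rw [hsx, mul_zero, hg0]
  · show g (s 1) = x'
    rw [hsx, mul_one, Equiv.apply_symm_apply]

/-- There is at most one involution fixing `0` and `1`. -/
theorem invol_unique {g h : Equiv.Perm K} (hg : g ∈ Γ) (hh : h ∈ Γ) (hg0 : g 0 = 0) (hg1 : g 1 = 1)
    (hh0 : h 0 = 0) (hh1 : h 1 = 1) (hg2 : g * g = 1) (hh2 : h * h = 1) (hgne : g ≠ 1)
    (hhne : h ≠ 1) : g = h := by
  classical
  obtain ⟨σ, hσ⟩ := A.semi g hg hg0
  obtain ⟨τ, hτ⟩ := A.semi h hh hh0
  simp only [hg1, one_mul] at hσ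
  simp only [hh1, one_mul] at hτ
  haveI : Finite (K ≃+* K) :=
    Finite.of_injective (fun τ : K ≃+* K => (τ : K → K)) DFunLike.coe_injective
  haveI := Fintype.ofFinite (K ≃+* K)
  haveI := RingAutFacts.isCyclic_ringAut (K := K)
  have hsq : ∀ (f : Equiv.Perm K) (ρ : K ≃+* K), (∀ x, f x = ρ x) → f * f = 1 → ρ ^ 2 = 1 := by
    intro f ρ hf h2
    refine RingEquiv.ext fun x => ?_
    rw [pow_two]
    show ρ (ρ x) = x
    rw [← hf, ← hf]
    exact Equiv.congr_fun h2 x
  have hne : ∀ (f : Equiv.Perm K) (ρ : K ≃+* K), (∀ x, f x = ρ x) → f ≠ 1 → ρ ≠ 1 :=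
    fun f ρ hf h1 e => h1 (Equiv.ext fun x => by rw [hf, e]; rfl)
  by_contra hgh
  have hστ : σ ≠ τ := fun e => hgh (Equiv.ext fun x => by rw [hσ, hτ, e])
  have hle := IsCyclic.card_pow_eq_one_le (α := K ≃+* K) (n := 2) two_pos
  have hsub : ({1, σ, τ} : Finset (K ≃+* K)) ⊆
      Finset.univ.filter fun a => a ^ 2 = 1 := by
    intro a ha
    simp only [Finset.mem_insert, Finset.mem_singleton] at ha
    simp only [Finset.mem_filter, Finset.mem_univ, true_and]
    rcases ha with rfl | rfl | rfl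
    · exact one_pow 2
    · exact hsq g _ hσ hg2
    · exact hsq h _ hτ hh2
  have h3 : ({1, σ, τ} : Finset (K ≃+* K)).card = 3 :=
    Finset.card_eq_three.2 ⟨1, σ, τ, (hne g σ hσ hgne).symm, (hne h τ hτ hhne).symm, hστ, rfl⟩
  have := (Finset.card_le_card hsub).trans hle
  omega

/-- No involution fixes `0` and `1`. -/
theorem false_of_invol {y : Equiv.Perm K} (hy : y ∈ Γ) (hy0 : y 0 = 0) (hy1 : y 1 = 1)
    (hy2 : y * y = 1) (hyne : y ≠ 1) : False := by
  classical
  haveI := Fintype.ofFinite K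
  haveI : Fact (Nat.Prime 2) := ⟨Nat.prime_two⟩
  obtain ⟨σ, hσ⟩ := A.semi y hy hy0
  simp only [hy1, one_mul] at hσ
  set W : Subfield K := σ.toRingHom.eqLocusField (RingHom.id K) with hW
  have hmemW : ∀ {x : K}, x ∈ W ↔ σ x = x := Iff.rfl
  have hσσ : ∀ x, σ (σ x) = x := fun x => by
    rw [← hσ, ← hσ]; exact Equiv.congr_fun hy2 x
  obtain ⟨θ, hθ⟩ : ∃ θ, σ θ ≠ θ := by
    by_contra hall
    push Not at hall
    exact hyne (Equiv.ext fun x => by rw [hσ, hall]; rfl)
  have hd : θ + σ θ ≠ 0 := fun e => hθ (CharTwo.add_eq_zero.1 e).symm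
  -- coordinates
  have hspan : ∀ x : K, ∃ a ∈ W, ∃ b ∈ W, a + θ * b = x := by
    intro x
    have hb : (x + σ x) / (θ + σ θ) ∈ W := by
      rw [hmemW, map_div₀, map_add, map_add, hσσ, hσσ, add_comm (σ x), add_comm (σ θ)]
    have ha : x + θ * ((x + σ x) / (θ + σ θ)) ∈ W := by
      rw [hmemW, map_add, map_mul, hmemW.1 hb]
      refine CharTwo.add_eq_zero.1 ?_
      rw [show σ x + σ θ * ((x + σ x) / (θ + σ θ)) + (x + θ * ((x + σ x) / (θ + σ θ))) =
        (x + σ x) + (θ + σ θ) * ((x + σ x) / (θ + σ θ)) by ring, mul_div_cancel₀ _ hd,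
        CharTwo.add_self_eq_zero]
    exact ⟨_, ha, _, hb, by rw [add_assoc, CharTwo.add_self_eq_zero, add_zero]⟩
  have hindep : ∀ a ∈ W, ∀ b ∈ W, a + θ * b = 0 → a = 0 ∧ b = 0 := by
    intro a ha b hb e
    by_cases hb0 : b = 0
    · subst hb0; exact ⟨by simpa using e, rfl⟩
    · refine absurd (hmemW.1 (?_ : θ ∈ W)) hθ
      have hθe : θ = a / b := by
        rw [eq_div_iff hb0]; exact (CharTwo.add_eq_zero.1 e).symm
      rw [hθe]; exact div_mem ha hb
  set q₀ := Nat.card W with hq₀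
  have hq : Nat.card K = q₀ * q₀ := by
    rw [hq₀, ← Nat.card_prod]
    refine (Nat.card_eq_of_bijective (fun p : W × W => (p.1 : K) + θ * p.2) ⟨?_, ?_⟩).symm
    · rintro ⟨a, b⟩ ⟨a', b'⟩ h
      have h' := hindep _ (add_mem a.2 a'.2) _ (add_mem b.2 b'.2) (by
        show (a : K) + a' + θ * (b + b') = 0
        rw [show (a : K) + a' + θ * (b + b') = (a + θ * b) + (a' + θ * b') by ring,
          CharTwo.add_eq_zero]
        exact h)
      exact Prod.ext (Subtype.ext (CharTwo.add_eq_zero.1 h'.1))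
        (Subtype.ext (CharTwo.add_eq_zero.1 h'.2))
    · intro x
      obtain ⟨a, ha, b, hb, e⟩ := hspan x
      exact ⟨(⟨a, ha⟩, ⟨b, hb⟩), e⟩
  obtain ⟨n, -, hn⟩ := FiniteField.card K 2
  rw [← Nat.card_eq_fintype_card] at hn
  obtain ⟨m, -, hm⟩ := (Nat.dvd_prime_pow Nat.prime_two).1 (hn ▸ hq ▸ Dvd.intro q₀ rfl : q₀ ∣ 2 ^ (n : ℕ))
  have hq2 : 2 ≤ q₀ := by
    haveI : Nontrivial W := inferInstance
    exact Finite.one_lt_card
  have hm1 : 1 ≤ m := by
    rcases Nat.eq_zero_or_pos m with h | h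
    · rw [h, pow_zero] at hm; omega
    · exact h
  -- two points lie on one line
  have hline : ∀ {k : Equiv.Perm K} (z : K), z ∈ k '' (W : Set K) ↔ (k * y * k⁻¹) z = z := by
    intro k z
    show z ∈ k '' (W : Set K) ↔ k (y (k.symm z)) = z
    rw [← Equiv.eq_symm_apply, hσ]
    exact ⟨fun ⟨w, hw, e⟩ => by rw [← e, Equiv.symm_apply_apply]; exact hmemW.1 hw,
      fun e => ⟨k.symm z, hmemW.2 e, Equiv.apply_symm_apply _ _⟩⟩
  have huniq : ∀ {k k' : Equiv.Perm K}, k ∈ Γ → k' ∈ Γ → ∀ {x x' : K}, x ≠ x' →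
      x ∈ k '' (W : Set K) → x' ∈ k '' (W : Set K) → x ∈ k' '' (W : Set K) →
      x' ∈ k' '' (W : Set K) → k '' (W : Set K) = k' '' (W : Set K) := by
    intro k k' hk hk' x x' hne h1 h2 h3 h4
    obtain ⟨g, hg, hg0, hg1⟩ := A.two_trans hne
    have key : ∀ i : Equiv.Perm K, i ∈ Γ → x ∈ i '' (W : Set K) → x' ∈ i '' (W : Set K) →
        g⁻¹ * (i * y * i⁻¹) * g = y := by
      intro i hi ha hb
      refine A.invol_unique (mul_mem (mul_mem (inv_mem hg)
        (mul_mem (mul_mem hi hy) (inv_mem hi))) hg) hy ?_ ?_ hy0 hy1 ?_ hy2 ?_ hyne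
      · show g.symm ((i * y * i⁻¹) (g 0)) = 0
        rw [hg0, (hline x).1 ha, Equiv.symm_apply_eq, hg0]
      · show g.symm ((i * y * i⁻¹) (g 1)) = 1
        rw [hg1, (hline x').1 hb, Equiv.symm_apply_eq, hg1]
      · calc g⁻¹ * (i * y * i⁻¹) * g * (g⁻¹ * (i * y * i⁻¹) * g)
            = g⁻¹ * i * (y * y) * i⁻¹ * g := by group
          _ = 1 := by rw [hy2]; group
      · intro e
        refine hyne ?_
        calc y = i⁻¹ * g * (g⁻¹ * (i * y * i⁻¹) * g) * g⁻¹ * i := by group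
          _ = 1 := by rw [e]; group
    have e : k * y * k⁻¹ = k' * y * k'⁻¹ :=
      mul_left_cancel (mul_right_cancel ((key k hk h1 h2).trans (key k' hk' h3 h4).symm))
    ext z
    rw [hline, hline, e]
  have hscal : ∀ {c : K}, c ≠ 0 → ∃ s ∈ Γ, s '' (W : Set K) = member W c ∧
      ∀ x, lin s x = c * x := by
    intro c hc
    obtain ⟨s, hs, hsx⟩ := A.scal c hc
    refine ⟨s, hs, ?_, fun x => by show s x + s 0 = _; rw [hsx, hsx, mul_zero, add_zero]⟩
    ext x
    exact ⟨fun ⟨w, hw, e⟩ => ⟨w, hw, by rw [← e, hsx]⟩,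
      fun ⟨w, hw, e⟩ => ⟨w, hw, by rw [← e, hsx]⟩⟩
  -- there are `q₀ + 1` members
  have hcount : ∀ {I : Type} [Finite I] (r : I → K), (∀ i, r i ≠ 0) →
      (∀ i j, r j ∈ member W (r i) → i = j) → Nat.card I ≤ q₀ + 1 := by
    intro I _ r hr hrr
    haveI := Fintype.ofFinite I
    have hinj : Function.Injective fun p : I × {w : W // (w : K) ≠ 0} =>
        (⟨r p.1 * (p.2.1 : K), mul_ne_zero (hr _) p.2.2⟩ : {x : K // x ≠ 0}) := by
      rintro ⟨i, w, hw⟩ ⟨j, w', hw'⟩ h
      have h' : r i * (w : K) = r j * (w' : K) := congrArg Subtype.val h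
      obtain rfl : i = j := hrr i j ⟨(w : K) * (w' : K)⁻¹, mul_mem w.2 (inv_mem w'.2), by
        rw [← mul_assoc, h', mul_assoc, mul_inv_cancel₀ hw', mul_one]⟩
      exact Prod.ext rfl (Subtype.ext (Subtype.ext (mul_left_cancel₀ (hr i) h')))
    have h := Nat.card_le_card_of_injective _ hinj
    have hK0 : Nat.card {x : K // x ≠ 0} = Nat.card K - 1 := by
      rw [Nat.card_eq_fintype_card, Fintype.card_subtype_compl, Fintype.card_subtype_eq,
        Nat.card_eq_fintype_card]
    have hW0 : Nat.card {w : W // (w : K) ≠ 0} = q₀ - 1 := by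
      rw [Nat.card_congr (Equiv.subtypeEquivRight fun w : W => ZeroMemClass.coe_eq_zero.not),
        Nat.card_eq_fintype_card, Fintype.card_subtype_compl, Fintype.card_subtype_eq, hq₀,
        Nat.card_eq_fintype_card]
    rw [Nat.card_prod, hK0, hW0, hq] at h
    obtain ⟨j, hj⟩ : ∃ j, q₀ = j + 2 := ⟨q₀ - 2, by omega⟩
    rw [hj, show j + 2 - 1 = j + 1 by omega,
      show (j + 2) * (j + 2) - 1 = (j + 3) * (j + 1) by
        rw [Nat.sub_eq_iff_eq_add (by nlinarith)]; ring] at h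
    have := Nat.le_of_mul_le_mul_right h (Nat.succ_pos _)
    omega
  -- the linear parts permute the members
  have hlinline : ∀ {k : Equiv.Perm K}, k ∈ Γ →
      ∃ c : K, c ≠ 0 ∧ lin k '' (W : Set K) = member W c := by
    intro k hk
    set ℓ := k '' (W : Set K) with hℓdef
    have hU : ∀ u, u ∈ lin k '' (W : Set K) ↔ u + k 0 ∈ ℓ := by
      intro u
      constructor
      · rintro ⟨w, hw, rfl⟩
        exact ⟨w, hw, by show k w = k w + k 0 + k 0; rw [add_assoc, CharTwo.add_self_eq_zero, add_zero]⟩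
      · rintro ⟨w, hw, e⟩
        exact ⟨w, hw, by show k w + k 0 = u; rw [e, add_assoc, CharTwo.add_self_eq_zero, add_zero]⟩
    have hUinj : Function.Injective (lin k) := fun a b h => k.injective (add_right_cancel h)
    have hUcard : Nat.card (lin k '' (W : Set K)) = q₀ := Nat.card_image_of_injective hUinj _
    have hadd : ∀ u v, u ∈ lin k '' (W : Set K) → v ∈ lin k '' (W : Set K) →
        u + v ∈ lin k '' (W : Set K) := by
      rintro _ _ ⟨a, ha, rfl⟩ ⟨b, hb, rfl⟩
      exact ⟨a + b, add_mem ha hb, A.lin_add hk a b⟩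
    by_cases h0 : (0 : K) ∈ ℓ
    · obtain ⟨c, hcℓ, hc⟩ : ∃ c ∈ ℓ, c ≠ 0 := by
        by_contra hall
        push Not at hall
        have h1 : Nat.card ℓ ≤ 1 := Finite.card_le_one_iff_subsingleton.2
          ⟨fun p p' => Subtype.ext ((hall p p.2).trans (hall p' p'.2).symm)⟩
        rw [hℓdef, Nat.card_image_of_injective k.injective] at h1
        exact absurd hq2 (by rw [hq₀]; exact fun h => absurd h (not_le.2 (Nat.lt_succ_of_le h1)))
      obtain ⟨s, hs, hsW, -⟩ := hscal hc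
      have he : ℓ = member W c := by
        rw [← hsW]
        exact huniq hk hs (Ne.symm hc) h0 hcℓ (hsW ▸ zero_mem_member W c)
          (hsW ▸ mem_member_self W c)
      refine ⟨c, hc, ?_⟩
      obtain ⟨a, ha, hak⟩ : k 0 ∈ member W c := he ▸ ⟨0, zero_mem W, rfl⟩
      ext u
      rw [hU, he]
      exact ⟨fun ⟨w, hw, e⟩ => ⟨w + a, add_mem hw ha, by
          rw [mul_add, e, hak, add_assoc, CharTwo.add_self_eq_zero, add_zero]⟩,
        fun ⟨w, hw, e⟩ => ⟨w + a, add_mem hw ha, by rw [mul_add, e, hak]⟩⟩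
    · have hne : ∀ z ∈ ℓ, z ≠ 0 := fun z hz e => h0 (e ▸ hz)
      have hmeet : ∀ z ∈ ℓ, ∀ z' ∈ ℓ, z' ∈ member W z → z' = z := by
        intro z hz z' hz' hm'
        by_contra hzz
        obtain ⟨s, hs, hsW, -⟩ := hscal (hne z hz)
        have he := huniq hk hs (Ne.symm hzz) hz hz' (hsW ▸ mem_member_self W z) (hsW ▸ hm')
        rw [← hℓdef, hsW] at he
        exact h0 (he ▸ zero_mem_member W z)
      have hskip : ∀ u ∈ lin k '' (W : Set K), u ≠ 0 → ∀ z ∈ ℓ, u ∉ member W z := by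
        intro u hu hu0 z hz hm'
        have hz' : z + k 0 ∈ lin k '' (W : Set K) := by
          rw [hU, add_assoc, CharTwo.add_self_eq_zero, add_zero]; exact hz
        have hzu : z + u ∈ ℓ := by
          have := (hU _).1 (hadd _ _ hz' hu)
          rwa [show z + k 0 + u + k 0 = z + u + (k 0 + k 0) by ring, CharTwo.add_self_eq_zero,
            add_zero] at this
        have hzu' : z + u ∈ member W z := by
          obtain ⟨w, hw, e⟩ := hm'
          exact ⟨1 + w, add_mem (one_mem W) hw, by rw [mul_add, mul_one, e]⟩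
        exact hu0 (add_eq_left.1 (hmeet z hz _ hzu hzu'))
      obtain ⟨c, hcU, hc⟩ : ∃ c ∈ lin k '' (W : Set K), c ≠ 0 := by
        refine ⟨lin k 1, ⟨1, one_mem W, rfl⟩, fun e => one_ne_zero (hUinj (e.trans ?_))⟩
        show (0 : K) = k 0 + k 0
        rw [CharTwo.add_self_eq_zero]
      refine ⟨c, hc, Set.eq_of_subset_of_ncard_le (fun u hu => ?_) ?_ (Set.toFinite _)⟩
      · by_contra hu'
        have hu0 : u ≠ 0 := fun e => hu' (e ▸ zero_mem_member W c)
        let ℓ' : Type := Fin (Nat.card ℓ)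
        let e : ℓ' ≃ ℓ := (Finite.equivFin ℓ).symm
        let r : Option (Option ℓ') → K := fun o => o.elim c fun o => o.elim u fun z => (e z : K)
        have hr : ∀ i, r i ≠ 0 := by
          rintro (_ | _ | z)
          exacts [hc, hu0, hne _ (e z).2]
        have hsym : ∀ i j, r j ∈ member W (r i) → r i ∈ member W (r j) := fun i j h =>
          member_eq_of_mem (hr j) h ▸ mem_member_self W (r i)
        have hrr : ∀ i j, r j ∈ member W (r i) → i = j := by
          rintro (_ | _ | z) (_ | _ | z') h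
          · rfl
          · exact absurd h hu'
          · exact absurd (hsym none (some (some z')) h) (hskip c hcU hc _ (e z').2)
          · exact absurd (hsym (some none) none h) hu'
          · rfl
          · exact absurd (hsym (some none) (some (some z')) h) (hskip u hu hu0 _ (e z').2)
          · exact absurd h (hskip c hcU hc _ (e z).2)
          · exact absurd h (hskip u hu hu0 _ (e z).2)
          · rw [e.injective (Subtype.ext (hmeet _ (e z).2 _ (e z').2 h))]
        have := hcount r hr hrr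
        rw [Finite.card_option, Finite.card_option, Nat.card_fin, hℓdef,
          Nat.card_image_of_injective k.injective] at this
        simp only [SetLike.coe_sort_coe, ← hq₀] at this
        omega
      · rw [← Nat.card_coe_set_eq, ← Nat.card_coe_set_eq, hUcard, card_member hc]
  have hlin : ∀ {k : Equiv.Perm K}, k ∈ Γ → ∀ {c : K}, c ≠ 0 →
      ∃ d : K, d ≠ 0 ∧ lin k '' member W c = member W d := by
    intro k hk c hc
    obtain ⟨s, hs, hsW, hsx⟩ := hscal hc
    obtain ⟨d, hd, hdW⟩ := hlinline (mul_mem hk hs)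
    refine ⟨d, hd, ?_⟩
    rw [← hdW]
    ext x
    exact ⟨fun ⟨v, ⟨w, hw, e⟩, e'⟩ => ⟨w, hw, by rw [A.lin_mul hk, hsx, e, e']⟩,
      fun ⟨w, hw, e⟩ => ⟨c * w, ⟨w, hw, rfl⟩, by rw [← e, A.lin_mul hk, hsx]⟩⟩
  -- the action on the members
  let Mem := {U : Set K // ∃ c : K, c ≠ 0 ∧ U = member W c}
  have hMem : Nat.card Mem = q₀ + 1 := by
    have hθa : ∀ a ∈ W, a + θ ≠ 0 := fun a ha e =>
      one_ne_zero (hindep a ha 1 (one_mem W) (by rw [mul_one]; exact e)).2
    rw [show q₀ + 1 = Nat.card (Option W) by rw [Finite.card_option]]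
    refine (Nat.card_eq_of_bijective (fun o : Option W => (⟨o.elim (member W 1)
      fun a => member W ((a : K) + θ), by
        cases o with
        | none => exact ⟨1, one_ne_zero, rfl⟩
        | some a => exact ⟨_, hθa a a.2, rfl⟩⟩ : Mem)) ⟨?_, ?_⟩).symm
    · rintro (_ | a) (_ | b) h
      · rfl
      · exfalso
        have h' : member W 1 = member W ((b : K) + θ) := congrArg Subtype.val h
        obtain ⟨w, hw, e⟩ : (b : K) + θ ∈ member W (1 : K) := h'.symm ▸ mem_member_self W _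
        exact one_ne_zero (hindep _ (add_mem b.2 hw) 1 (one_mem W) (by
          rw [one_mul] at e
          rw [e, mul_one, show (b : K) + (↑b + θ) + θ = (↑b + ↑b) + (θ + θ) by ring,
            CharTwo.add_self_eq_zero, CharTwo.add_self_eq_zero, add_zero])).2
      · exfalso
        have h' : member W ((a : K) + θ) = member W 1 := congrArg Subtype.val h
        obtain ⟨w, hw, e⟩ : (a : K) + θ ∈ member W (1 : K) := h' ▸ mem_member_self W _
        exact one_ne_zero (hindep _ (add_mem a.2 hw) 1 (one_mem W) (by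
          rw [one_mul] at e
          rw [e, mul_one, show (a : K) + (↑a + θ) + θ = (↑a + ↑a) + (θ + θ) by ring,
            CharTwo.add_self_eq_zero, CharTwo.add_self_eq_zero, add_zero])).2
      · have hm' : member W ((a : K) + θ) = member W ((b : K) + θ) := congrArg Subtype.val h
        obtain ⟨w, hw, e⟩ : (b : K) + θ ∈ member W ((a : K) + θ) := hm'.symm ▸ mem_member_self W _
        have h' := hindep _ (add_mem (mul_mem a.2 hw) b.2) _ (add_mem hw (one_mem W)) (by
          rw [show (a : K) * w + b + θ * (w + 1) = (a + θ) * w + (b + θ) by ring, e,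
            CharTwo.add_self_eq_zero])
        have hw1 : w = 1 := CharTwo.add_eq_zero.1 h'.2
        rw [hw1, mul_one] at h'
        exact congrArg some (Subtype.ext (CharTwo.add_eq_zero.1 h'.1))
    · rintro ⟨U, c, hc, rfl⟩
      obtain ⟨a, ha, b, hb, rfl⟩ := hspan c
      by_cases hb0 : b = 0
      · subst hb0
        refine ⟨none, Subtype.ext (member_eq_of_mem hc ⟨a, ha, by ring⟩).symm⟩
      · refine ⟨some ⟨a / b, div_mem ha hb⟩, Subtype.ext (member_eq_of_mem hc ⟨b, hb, ?_⟩).symm⟩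
        show (a / b + θ) * b = a + θ * b
        rw [add_mul, div_mul_cancel₀ a hb0]
  letI : MulAction Γ Mem :=
    { smul := fun g U => ⟨lin g '' U.1, by
        obtain ⟨c, hc, e⟩ := U.2
        obtain ⟨d, hd, e'⟩ := hlin g.2 hc
        exact ⟨d, hd, by rw [e, e']⟩⟩
      one_smul := fun U => Subtype.ext (by
        show lin (1 : Equiv.Perm K) '' U.1 = U.1
        refine (Set.image_congr fun x _ => ?_).trans (Set.image_id _)
        show x + 0 = x
        rw [add_zero])
      mul_smul := fun g h U => Subtype.ext (by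
        show lin ((g : Equiv.Perm K) * (h : Equiv.Perm K)) '' U.1 = lin g '' (lin h '' U.1)
        rw [Set.image_image]
        exact Set.image_congr fun x _ => A.lin_mul g.2 x) }
  haveI : Finite Mem := Subtype.finite
  have hoddMem : ¬ 2 ∣ Nat.card Mem := by
    rw [hMem, hm]
    intro h
    have : 2 ∣ 2 ^ m := dvd_pow_self 2 (by omega)
    omega
  -- a Sylow subgroup is too large
  obtain ⟨P⟩ : Nonempty (Sylow 2 Γ) := inferInstance
  have hΓ : 2 * Nat.card K ∣ Nat.card Γ := by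
    haveI : MulAction.IsPretransitive Γ K := ⟨fun x x' => by
      obtain ⟨g, hg, hg0⟩ := A.trans x
      obtain ⟨h, hh, hh0⟩ := A.trans x'
      exact ⟨(⟨h, hh⟩ : Γ) * (⟨g, hg⟩ : Γ)⁻¹, by
        show h (g.symm x) = x'
        rw [← hh0]; congr 1; rw [Equiv.symm_apply_eq, hg0]⟩⟩
    rw [← Subgroup.index_mul_card (MulAction.stabilizer Γ (0 : K)),
      MulAction.index_stabilizer_of_transitive Γ (0 : K), mul_comm]
    refine Nat.mul_dvd_mul_left _ ?_
    have ho : orderOf (⟨⟨y, hy⟩, hy0⟩ : MulAction.stabilizer Γ (0 : K)) = 2 := by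
      rw [← Subgroup.orderOf_coe, ← Subgroup.orderOf_coe]
      exact orderOf_eq_prime (by rw [pow_two]; exact hy2) hyne
    exact ho ▸ orderOf_dvd_natCard _
  have hP : 2 * (q₀ * q₀) ≤ Nat.card P := by
    refine Nat.le_of_dvd Nat.card_pos ?_
    rw [P.card_eq_multiplicity]
    rw [hq, hm, ← pow_add, ← pow_succ'] at hΓ
    rw [hm, ← pow_add, ← pow_succ']
    exact pow_dvd_pow 2 ((Nat.prime_two.pow_dvd_iff_le_factorization Nat.card_pos.ne').1 hΓ)
  -- fixed members
  have hfp : ∀ (R : Subgroup Γ), IsPGroup 2 R →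
      Odd (Nat.card (MulAction.fixedPoints R Mem)) := by
    intro R hR
    have h1 := hR.card_modEq_card_fixedPoints Mem
    rw [Nat.odd_iff, ← h1]
    exact Nat.two_dvd_ne_zero.1 hoddMem
  obtain ⟨⟨U₁, hU₁⟩⟩ : Nonempty (MulAction.fixedPoints (P : Subgroup Γ) Mem) :=
    (Nat.card_pos_iff.1 (hfp _ P.2).pos).1
  obtain ⟨U₂, hU₂⟩ : ∃ U₂ : Mem, U₂ ≠ U₁ := by
    haveI : Nontrivial Mem := Finite.one_lt_card_iff_nontrivial.1 (by rw [hMem]; omega)
    exact exists_ne U₁
  set R : Subgroup Γ := (P : Subgroup Γ) ⊓ MulAction.stabilizer Γ U₂ with hR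
  have hRp : IsPGroup 2 R := P.2.to_le inf_le_left
  have horb : Nat.card P ≤ q₀ * Nat.card R := by
    rw [← Subgroup.index_mul_card (MulAction.stabilizer (P : Subgroup Γ) U₂)]
    refine Nat.mul_le_mul ?_ (le_of_eq (Nat.card_congr
      { toFun := fun g => ⟨g.1.1, g.1.2, g.2⟩
        invFun := fun g => ⟨⟨g.1, g.2.1⟩, g.2.2⟩
        left_inv := fun _ => rfl
        right_inv := fun _ => rfl }))
    rw [MulAction.index_stabilizer]
    calc (MulAction.orbit (P : Subgroup Γ) U₂).ncard ≤ ({U₁}ᶜ : Set Mem).ncard := by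
          refine Set.ncard_le_ncard ?_ (Set.toFinite _)
          rintro _ ⟨g, rfl⟩ hg
          refine hU₂ ?_
          have h1 := hU₁ g⁻¹
          rw [← inv_smul_smul g U₂, show g • U₂ = U₁ from hg, h1]
      _ = q₀ := by
          rw [Set.ncard_compl, Set.ncard_singleton, hMem]
          omega
  obtain ⟨U₃, hU₃, h31, h32⟩ :
      ∃ U₃ ∈ MulAction.fixedPoints R Mem, U₃ ≠ U₁ ∧ U₃ ≠ U₂ := by
    by_contra hall
    push Not at hall
    have e : MulAction.fixedPoints R Mem = {U₁, U₂} := by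
      ext U
      refine ⟨fun hU => ?_, ?_⟩
      · by_cases h : U = U₁
        · exact Or.inl h
        · exact Or.inr (hall U hU h)
      · rintro (rfl | rfl)
        · exact fun g => hU₁ ⟨g.1, g.2.1⟩
        · exact fun g => g.2.2
    have h2 := hfp R hRp
    rw [e, Nat.card_coe_set_eq, Set.ncard_pair (Ne.symm hU₂)] at h2
    exact absurd h2 (by decide)
  -- frame
  obtain ⟨c₁, hc₁, hcU₁⟩ := U₁.2
  obtain ⟨c₂, hc₂, hcU₂⟩ := U₂.2
  obtain ⟨c₃, hc₃, hcU₃⟩ := U₃.2
  have hc12 : c₂ ∉ member W c₁ := fun h => hU₂ (Subtype.ext (by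
    rw [hcU₁, hcU₂, member_eq_of_mem hc₂ h]))
  have hframe : ∀ x : K, ∃ a ∈ W, ∃ b ∈ W, c₁ * a + c₂ * b = x := by
    have hi : Function.Injective fun p : W × W => c₁ * (p.1 : K) + c₂ * p.2 := by
      rintro ⟨a, b⟩ ⟨a', b'⟩ h
      have h0 : c₁ * ((a : K) + a') + c₂ * (b + b') = 0 := by
        rw [show c₁ * ((a : K) + a') + c₂ * (b + b') = (c₁ * a + c₂ * b) + (c₁ * a' + c₂ * b') by
          ring, CharTwo.add_eq_zero]
        exact h
      have hb : (b : K) + b' = 0 := by
        by_contra hb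
        refine hc12 ⟨((a : K) + a') / (b + b'),
          div_mem (add_mem a.2 a'.2) (add_mem b.2 b'.2), ?_⟩
        rw [mul_div_assoc', div_eq_iff hb]
        exact CharTwo.add_eq_zero.1 h0
      rw [hb, mul_zero, add_zero, mul_eq_zero] at h0
      exact Prod.ext (Subtype.ext (CharTwo.add_eq_zero.1 (h0.resolve_left hc₁)))
        (Subtype.ext (CharTwo.add_eq_zero.1 hb))
    intro x
    obtain ⟨⟨a, b⟩, h⟩ := ((Fintype.bijective_iff_injective_and_card _).2 ⟨hi, by
      rw [← Nat.card_eq_fintype_card, ← Nat.card_eq_fintype_card, Nat.card_prod, ← hq₀, hq]⟩).2 x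
    exact ⟨a, a.2, b, b.2, h⟩
  obtain ⟨a₃, ha₃, b₃, hb₃, he₃⟩ := hframe c₃
  have ha₃0 : a₃ ≠ 0 := fun e => h32 (Subtype.ext (by
    rw [hcU₃, hcU₂, member_eq_of_mem hc₃ ⟨b₃, hb₃, by rw [← he₃, e, mul_zero, zero_add]⟩]))
  have hb₃0 : b₃ ≠ 0 := fun e => h31 (Subtype.ext (by
    rw [hcU₃, hcU₁, member_eq_of_mem hc₃ ⟨a₃, ha₃, by rw [← he₃, e, mul_zero, add_zero]⟩]))
  set e₁ := c₁ * a₃ with he₁
  set e₂ := c₂ * b₃ with he₂
  have he₁0 : e₁ ≠ 0 := mul_ne_zero hc₁ ha₃0
  have he₂0 : e₂ ≠ 0 := mul_ne_zero hc₂ hb₃0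
  have hE₁ : U₁.1 = member W e₁ := by rw [hcU₁, member_eq_of_mem he₁0 ⟨a₃, ha₃, rfl⟩]
  have hE₂ : U₂.1 = member W e₂ := by rw [hcU₂, member_eq_of_mem he₂0 ⟨b₃, hb₃, rfl⟩]
  have hind : ∀ a ∈ W, ∀ b ∈ W, ∀ a' ∈ W, ∀ b' ∈ W, e₁ * a + e₂ * b = e₁ * a' + e₂ * b' →
      a = a' ∧ b = b' := by
    intro a ha b hb a' ha' b' hb' h
    have h0 : e₁ * (a + a') + e₂ * (b + b') = 0 := by
      rw [show e₁ * (a + a') + e₂ * (b + b') = (e₁ * a + e₂ * b) + (e₁ * a' + e₂ * b') by ring,
        CharTwo.add_eq_zero]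
      exact h
    have hbb : b + b' = 0 := by
      by_contra hbb
      refine hc12 ?_
      rw [← hcU₁, hE₁]
      refine ⟨(a + a') / ((b + b') * b₃),
        div_mem (add_mem ha ha') (mul_mem (add_mem hb hb') hb₃), ?_⟩
      rw [mul_div_assoc', div_eq_iff (mul_ne_zero hbb hb₃0),
        show c₂ * ((b + b') * b₃) = e₂ * (b + b') by rw [he₂]; ring]
      exact CharTwo.add_eq_zero.1 h0
    rw [hbb, mul_zero, add_zero, mul_eq_zero] at h0
    exact ⟨CharTwo.add_eq_zero.1 (h0.resolve_left he₁0), CharTwo.add_eq_zero.1 hbb⟩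
  -- an element of `R` is the same semilinear map on both axes
  have hphi : ∀ g : R, ∀ w : W, ∃ v : W, lin (g : Γ) (e₁ * w) = e₁ * v ∧
      lin (g : Γ) (e₂ * w) = e₂ * v := by
    intro g w
    have him : ∀ U : Mem, (g : Γ) • U = U → ∀ x ∈ U.1, lin (g : Γ) x ∈ U.1 := fun U hU x hx =>
      (congrArg Subtype.val hU) ▸ Set.mem_image_of_mem _ hx
    obtain ⟨v, hv, ev⟩ : lin (g : Γ) (e₁ * w) ∈ member W e₁ := hE₁ ▸
      him U₁ (hU₁ ⟨g.1, g.2.1⟩) _ (hE₁ ▸ ⟨w, w.2, rfl⟩)
    obtain ⟨v', hv', ev'⟩ : lin (g : Γ) (e₂ * w) ∈ member W e₂ := hE₂ ▸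
      him U₂ g.2.2 _ (hE₂ ▸ ⟨w, w.2, rfl⟩)
    obtain ⟨t, ht, et⟩ : lin (g : Γ) (c₃ * w) ∈ member W c₃ := hcU₃ ▸
      him U₃ (hU₃ g) _ (hcU₃ ▸ ⟨w, w.2, rfl⟩)
    rw [← he₃, add_mul, add_mul e₁ e₂ (w : K), A.lin_add (g : Γ).2, ← ev, ← ev'] at et
    obtain ⟨h1, h2⟩ := hind t ht t ht v hv v' hv' et
    exact ⟨⟨v, hv⟩, ev.symm, by rw [← ev', show v' = v from h2.symm.trans h1]⟩
  choose φ hφ₁ hφ₂ using hphi
  have hφadd : ∀ g w w', φ g (w + w') = φ g w + φ g w' := fun g w w' =>
    Subtype.ext (mul_left_cancel₀ he₁0 (by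
      rw [← hφ₁]
      push_cast
      rw [mul_add, A.lin_add (g : Γ).2, hφ₁, hφ₁, ← mul_add]))
  have hφinj : ∀ g, Function.Injective (φ g) := fun g w w' h => by
    have h1 : lin (g : Γ) (e₁ * w) = lin (g : Γ) (e₁ * w') := by rw [hφ₁, hφ₁, h]
    exact Subtype.ext (mul_left_cancel₀ he₁0
      (((g : Γ) : Equiv.Perm K).injective (add_right_cancel h1)))
  have hφmul : ∀ g a w, φ g (a * w) * φ g 1 = φ g a * φ g w := by
    intro g a w
    by_cases hx : e₁ * (a : K) + e₂ = 0
    · exfalso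
      have := (hind a a.2 1 (one_mem W) 0 (zero_mem W) 0 (zero_mem W) (by simpa using hx)).2
      exact one_ne_zero this
    obtain ⟨d, hd, hdeq⟩ := hlin (g : Γ).2 hx
    obtain ⟨p, hp, ep⟩ : lin (g : Γ) (e₁ * a + e₂) ∈ member W d :=
      hdeq ▸ ⟨_, mem_member_self W _, rfl⟩
    obtain ⟨r, hr, er⟩ : lin (g : Γ) ((e₁ * a + e₂) * w) ∈ member W d :=
      hdeq ▸ ⟨_, ⟨w, w.2, rfl⟩, rfl⟩
    have e1 : d * p = e₁ * (φ g a : K) + e₂ * (φ g 1 : K) := by
      rw [ep, A.lin_add (g : Γ).2, hφ₁, show lin (g : Γ) e₂ = e₂ * (φ g 1 : K) by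
        rw [← hφ₂]; simp]
    have e2 : d * r = e₁ * (φ g (a * w) : K) + e₂ * (φ g w : K) := by
      rw [er, add_mul, mul_assoc, A.lin_add (g : Γ).2, ← hφ₂, ← hφ₁]
      push_cast
      rfl
    have h := hind _ (mul_mem (φ g a).2 hr) _ (mul_mem (φ g 1).2 hr)
      _ (mul_mem (φ g (a * w)).2 hp) _ (mul_mem (φ g w).2 hp) (by
        linear_combination p * e2 - r * e1)
    have h1 : φ g 1 ≠ 0 := fun e => one_ne_zero (hφinj g (e.trans (by
      have := hφadd g 0 0
      simp only [add_zero] at this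
      exact (left_eq_add.1 this).symm)))
    refine Subtype.ext ?_
    push_cast
    by_cases hp0 : p = 0
    · exfalso
      rw [hp0, mul_zero] at e1
      exact h1 (Subtype.ext (hind 0 (zero_mem W) 0 (zero_mem W) _ (φ g a).2 _ (φ g 1).2
        (by simpa using e1)).2.symm)
    · refine mul_left_cancel₀ hp0 ?_
      linear_combination (φ g 1 : K) * (h.1).symm - (φ g a : K) * h.2.symm
  have hone : ∀ g, φ g 1 ≠ 0 := fun g e => one_ne_zero (hφinj g (e.trans (by
    have := hφadd g 0 0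
    simp only [add_zero] at this
    exact (left_eq_add.1 this).symm)))
  haveI : Finite W := Subtype.finite
  haveI : CharP W 2 := inferInstance
  let τ : R → W ≃+* W := fun g => RingEquiv.ofBijective
    ({ toFun := fun w => φ g w / φ g 1
       map_one' := div_self (hone g)
       map_mul' := fun a w => by
        rw [div_mul_div_comm, eq_comm, div_eq_div_iff (mul_ne_zero (hone g) (hone g)) (hone g),
          ← hφmul g a w]
        ring
       map_zero' := by
        have := hφadd g 0 0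
        simp only [add_zero] at this
        rw [(left_eq_add.1 this), zero_div]
       map_add' := fun a w => by rw [hφadd, add_div] } : W →+* W)
    (Finite.injective_iff_bijective.1 (RingHom.injective _))
  have hτ : ∀ g w, φ g w = φ g 1 * τ g w := fun g w => by
    show φ g w = φ g 1 * (φ g w / φ g 1)
    rw [mul_div_cancel₀ _ (hone g)]
  have hφcomp : ∀ g g' w, φ (g * g') w = φ g (φ g' w) := fun g g' w =>
    Subtype.ext (mul_left_cancel₀ he₁0 (by
      rw [← hφ₁, ← hφ₁ g, ← hφ₁ g']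
      exact A.lin_mul (g : Γ).2 _))
  let ψ : R →* (W ≃+* W) := MonoidHom.mk' τ fun g g' => RingEquiv.ext fun w => by
    show φ (g * g') w / φ (g * g') 1 = τ g (τ g' w)
    rw [hφcomp, hφcomp, hτ g (φ g' w), hτ g (φ g' 1), hτ g' w, map_mul]
    rw [← mul_assoc, mul_div_cancel_left₀ _ (mul_ne_zero (hone g)
      fun e => hone g' ((τ g).injective (e.trans (map_zero (τ g)).symm)))]
  have hψ : Function.Injective ψ := by
    rw [injective_iff_map_eq_one]
    intro g hg
    have hs : ∀ x, lin (g : Γ) x = (φ g 1 : K) * x := by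
      intro x
      obtain ⟨a, ha, b, hb, rfl⟩ := hframe x
      have ha' : c₁ * a = e₁ * ((a / a₃ : K)) := by rw [he₁]; field_simp
      have hb' : c₂ * b = e₂ * ((b / b₃ : K)) := by rw [he₂]; field_simp
      have key : ∀ (v : K) (hv : v ∈ W), (φ g ⟨v, hv⟩ : K) = (φ g 1 : K) * v := by
        intro v hv
        rw [hτ]
        rw [show τ g = ψ g from rfl, hg]
        rfl
      rw [A.lin_add (g : Γ).2, ha', hb', hφ₁ g ⟨_, div_mem ha ha₃⟩, hφ₂ g ⟨_, div_mem hb hb₃⟩,
        key _ (div_mem ha ha₃), key _ (div_mem hb hb₃)]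
      ring
    obtain ⟨k, hk⟩ := hRp g
    have hpow : ∀ j : ℕ, ∀ x, lin ((g : Γ) ^ j : Γ) x = (φ g 1 : K) ^ j * x := by
      intro j
      induction j with
      | zero => intro x; show x + 0 = _; rw [pow_zero, one_mul, add_zero]
      | succ j ih =>
        intro x
        rw [pow_succ, Subgroup.coe_mul, A.lin_mul ((g : Γ) ^ j).2, hs, ih, pow_succ]
        ring
    have h1 := hpow (2 ^ k) 1
    rw [show ((g : Γ) ^ 2 ^ k : Γ) = 1 from congrArg Subtype.val hk, mul_one] at h1
    have h2 : (φ g 1 : K) = 1 := by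
      refine iterateFrobenius_inj K 2 k ?_
      rw [iterateFrobenius_def, iterateFrobenius_def, one_pow, ← h1]
      show (1 : K) + 0 = 1
      rw [add_zero]
    refine Subtype.ext (Subtype.ext (A.faithful _ (g : Γ).2 fun x => ?_))
    show lin (g : Γ) x = x
    rw [hs, h2, one_mul]
  haveI : Finite (W ≃+* W) :=
    Finite.of_injective (fun τ : W ≃+* W => (τ : W → W)) DFunLike.coe_injective
  have hRle : Nat.card R ≤ m :=
    (Nat.card_le_card_of_injective ψ hψ).trans (RingAutFacts.card_ringAut_le hm)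
  have hlt : m < q₀ := by rw [hm]; exact Nat.lt_two_pow_self
  have := hP.trans (horb.trans (Nat.mul_le_mul_left q₀ hRle))
  nlinarith

/-- The pair stabiliser has odd order. -/
theorem toAffine : Faithful.Affine Γ := by
  refine { A with odd := fun g hg h0 h1 => ?_ }
  by_contra hev
  rw [Nat.not_odd_iff_even] at hev
  haveI : Finite Γ := inferInstance
  have hpos : 0 < orderOf g := orderOf_pos g
  set y := g ^ (orderOf g / 2)
  have hst : ∀ x : K, g x = x → y x = x := fun x hx =>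
    (MulAction.stabilizer (Equiv.Perm K) x).pow_mem (show g ∈ _ from hx) _
  refine A.false_of_invol (pow_mem hg _) (hst 0 h0) (hst 1 h1) ?_ ?_
  · rw [← pow_add, ← two_mul, Nat.two_mul_div_two_of_even hev, pow_orderOf_eq_one]
  · obtain ⟨j, hj⟩ := hev
    exact pow_ne_one_of_lt_orderOf (by omega) (by omega)

theorem main (hq : 2 < Nat.card K) : Nat.card K = 8 ∧ Nat.card Γ = 168 :=
  Faithful.main hq Γ A.toAffine

end Aff

end Cfsg.Agent.Lib.TwoTimesPSL.FaithfulEven
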