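import Mathlib

/-!
# Automorphisms of a finite field of characteristic two, and a transfer formula
Owner: helper80.
-/

set_option autoImplicit false

namespace Cfsg.Agent.Lib.TwoTimesPSL.RingAutFacts

variable {K : Type*} [Field K] [Finite K] [CharP K 2]

theorem isCyclic_ringAut : IsCyclic (K ≃+* K) := by
  letI := ZMod.algebra K 2
  haveI : Fact (Nat.Prime 2) := ⟨Nat.prime_two⟩
  let f : (K ≃+* K) →* Gal(K/ZMod 2) :=
    { toFun := fun σ => AlgEquiv.ofRingEquiv (f := σ) fun r =>
        RingHom.congr_fun (Subsingleton.elim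
          ((σ.toRingHom).comp (algebraMap (ZMod 2) K)) (algebraMap (ZMod 2) K)) r
      map_one' := AlgEquiv.ext fun _ => rfl
      map_mul' := fun _ _ => AlgEquiv.ext fun _ => rfl }
  exact isCyclic_of_injective f fun σ τ h =>
    RingEquiv.ext fun x => congrArg (fun e : Gal(K/ZMod 2) => e x) h

theorem card_ringAut_le {n : ℕ} (hn : Nat.card K = 2 ^ n) : Nat.card (K ≃+* K) ≤ n := by
  letI := ZMod.algebra K 2
  haveI : Fact (Nat.Prime 2) := ⟨Nat.prime_two⟩
  have hfr : Module.finrank (ZMod 2) K = n := by
    have h := Module.natCard_eq_pow_finrank (K := ZMod 2) (V := K)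
    rw [hn, Nat.card_zmod] at h
    exact (Nat.pow_right_injective le_rfl h).symm
  let g : (K ≃+* K) → Gal(K/ZMod 2) := fun σ => AlgEquiv.ofRingEquiv (f := σ) fun r =>
    RingHom.congr_fun (Subsingleton.elim
      ((σ.toRingHom).comp (algebraMap (ZMod 2) K)) (algebraMap (ZMod 2) K)) r
  rw [← hfr, ← IsGalois.card_aut_eq_finrank]
  exact Nat.card_le_card_of_injective g fun σ τ h =>
    RingEquiv.ext fun x => congrArg (fun e : Gal(K/ZMod 2) => e x) h

/-- An automorphism of prime order with only two fixed points. -/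
theorem card_eq_two_pow (σ : K ≃+* K) (h : ∀ x, σ x = x → x = 0 ∨ x = 1) :
    Nat.card K = 2 ^ orderOf σ := by
  classical
  haveI : Finite (K ≃+* K) := Finite.of_injective (fun τ : K ≃+* K => (τ : K → K)) DFunLike.coe_injective
  let H : Subgroup (RingAut K) := Subgroup.zpowers σ
  haveI : Fintype H := Fintype.ofFinite _
  haveI : FaithfulSMul H K := ⟨fun {a b} hab => Subtype.ext (RingEquiv.ext fun x => hab x)⟩
  have hfix : Nat.card (FixedPoints.subfield H K) = 2 := by
    have : (FixedPoints.subfield H K : Set K) = {0, 1} := by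
      ext x
      constructor
      · intro hx
        exact h x (hx ⟨σ, Subgroup.mem_zpowers σ⟩)
      · rintro (rfl | rfl)
        · exact zero_mem _
        · exact one_mem _
    rw [← SetLike.coe_sort_coe, this, Nat.card_coe_set_eq, Set.ncard_pair zero_ne_one]
  rw [Module.natCard_eq_pow_finrank (K := FixedPoints.subfield H K) (V := K), hfix,
    FixedPoints.finrank_eq_card, ← Nat.card_eq_fintype_card, Nat.card_zpowers]

variable {G : Type*} [Group G] [Finite G]

open Classical in
/-- The transfer of an element of prime order is the product over the fixed cosets. -/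
theorem transfer_prime {A : Type*} [CommGroup A] (H : Subgroup G) (φ : H →* A) {g : G} {ℓ : ℕ}
    (hℓ : ℓ.Prime) (hg : g ^ ℓ = 1) [Fintype (G ⧸ H)] :
    MonoidHom.transfer φ g = ∏ q : G ⧸ H,
      if h : q.out⁻¹ * g * q.out ∈ H then φ ⟨_, h⟩ else 1 := by
  letI := Fintype.ofFinite (Quotient (MulAction.orbitRel (Subgroup.zpowers g) (G ⧸ H)))
  have hfix : ∀ q : G ⧸ H, g • q = q ↔ q.out⁻¹ * g * q.out ∈ H := fun q => by
    conv_lhs => rw [← QuotientGroup.out_eq' q]
    rw [MulAction.Quotient.smul_coe, smul_eq_mul, QuotientGroup.eq, mul_inv_rev]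
    have e : q.out⁻¹ * g⁻¹ * q.out = (q.out⁻¹ * g * q.out)⁻¹ := by group
    rw [e, inv_mem_iff]
  rw [MonoidHom.transfer_eq_prod_quotient_orbitRel_zpowers_quot φ g]
  set O := Quotient (MulAction.orbitRel (Subgroup.zpowers g) (G ⧸ H))
  have hper : ∀ q : G ⧸ H, Function.minimalPeriod (g • ·) q = 1 ∨
      (Function.minimalPeriod (g • ·) q = ℓ ∧ g • q ≠ q) := by
    intro q
    have h2 : Function.IsPeriodicPt (g • ·) ℓ q := by
      show (fun x : G ⧸ H => g • x)^[ℓ] q = q
      rw [smul_iterate, hg]
      exact one_smul G q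
    rcases (Nat.dvd_prime hℓ).1 h2.minimalPeriod_dvd with h | h
    · exact Or.inl h
    · refine Or.inr ⟨h, fun hq => ?_⟩
      have := (Function.minimalPeriod_eq_one_iff_isFixedPt (f := (g • ·)) (x := q)).2 hq
      rw [this] at h
      exact hℓ.one_lt.ne h
  refine Finset.prod_bij_ne_one (fun o _ _ => o.out) (fun o _ _ => Finset.mem_univ _)
    (fun _ _ _ _ _ _ h => Quotient.out_injective h) ?_ ?_
  · intro q _ hne
    by_cases hq : q.out⁻¹ * g * q.out ∈ H
    · have hq' : g • q = q := (hfix q).2 hq
      have ho : (Quotient.mk'' q : O).out = q := by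
        obtain ⟨⟨w, hw⟩, hwq⟩ : (Quotient.mk'' q : O).out ∈
            MulAction.orbit (Subgroup.zpowers g) q :=
          MulAction.orbitRel_apply.1 (Quotient.mk_out (s := MulAction.orbitRel _ _) q)
        rw [← hwq]
        obtain ⟨i, rfl⟩ := hw
        have hst : g ∈ MulAction.stabilizer G q := hq'
        exact MulAction.mem_stabilizer_iff.1 (zpow_mem hst i)
      refine ⟨Quotient.mk'' q, by simp, ?_, ho⟩
      rw [dif_pos hq] at hne
      intro h1
      refine hne ?_
      rw [← h1]
      congr 1
      refine Subtype.ext ?_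
      simp [ho, (Function.minimalPeriod_eq_one_iff_isFixedPt (f := (g • ·)) (x := q)).2 hq']
    · rw [dif_neg hq] at hne
      exact absurd rfl hne
  · intro o _ hne
    rcases hper o.out with h | ⟨h, -⟩
    · have hm := (hfix _).1 (Function.minimalPeriod_eq_one_iff_isFixedPt.1 h)
      rw [dif_pos hm]
      congr 1
      exact Subtype.ext (by simp [h])
    · refine absurd ?_ hne
      rw [← map_one φ]
      congr 1
      exact Subtype.ext (by simp [h, hg])

end Cfsg.Agent.Lib.TwoTimesPSL.RingAutFacts
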