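import Mathlib

/-!
# An involution on the cosets of a subgroup

For an involution `t` and a subgroup `H`, the number of fixed cosets is `|C(t)| * m / |H|`, where
`m` counts the conjugates of `t` in `H`.  In a non-abelian simple group the sign of `t` and every
transfer of `t` are trivial.
Owner: helper80.
-/

set_option autoImplicit false

namespace Cfsg.Agent.Lib.TwoTimesPSL.Count

variable {G : Type*} [Group G]

/-- The number of conjugates of `t` in `H`. -/
noncomputable def mT (t : G) (H : Subgroup G) : ℕ := Nat.card {x : H // IsConj t (x : G)}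

/-- The number of cosets of `H` fixed by `t`. -/
noncomputable def fixCard (t : G) (H : Subgroup G) : ℕ := Nat.card {q : G ⧸ H // t • q = q}

theorem smul_eq_iff (t : G) (H : Subgroup G) (g : G) :
    t • (g : G ⧸ H) = g ↔ g⁻¹ * t * g ∈ H := by
  rw [MulAction.Quotient.smul_coe, smul_eq_mul, QuotientGroup.eq, mul_inv_rev]
  have e : g⁻¹ * t⁻¹ * g = (g⁻¹ * t * g)⁻¹ := by group
  rw [e, inv_mem_iff]

variable [Finite G]

theorem card_fibre (t : G) (p : G → Prop) :
    Nat.card {g : G // p (g⁻¹ * t * g)} =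
      Nat.card (Subgroup.centralizer ({t} : Set G)) * Nat.card {x : G // IsConj t x ∧ p x} := by
  classical
  rw [← Nat.card_prod]
  have hk : ∀ x : {x : G // IsConj t x ∧ p x}, ∃ k : G, k⁻¹ * t * k = x := fun x => by
    obtain ⟨c, hc⟩ := isConj_iff.1 x.2.1
    exact ⟨c⁻¹, by rw [inv_inv, hc]⟩
  choose k hk using hk
  refine Nat.card_congr
    { toFun := fun g => (⟨(g : G) * (k ⟨_, isConj_iff.2 ⟨(g : G)⁻¹, by group⟩, g.2⟩)⁻¹, ?_⟩,
        ⟨_, isConj_iff.2 ⟨(g : G)⁻¹, by group⟩, g.2⟩)
      invFun := fun cx => ⟨(cx.1 : G) * k cx.2, ?_⟩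
      left_inv := fun g => Subtype.ext (inv_mul_cancel_right _ _)
      right_inv := fun cx => ?_ }
  · rw [Subgroup.mem_centralizer_singleton_iff]
    have h := hk ⟨_, isConj_iff.2 ⟨(g : G)⁻¹, by group⟩, g.2⟩
    set k' := k ⟨_, isConj_iff.2 ⟨(g : G)⁻¹, by group⟩, g.2⟩
    symm
    calc t * ((g : G) * k'⁻¹) = (g : G) * ((g : G)⁻¹ * t * g) * k'⁻¹ := by group
      _ = (g : G) * (k'⁻¹ * t * k') * k'⁻¹ := by rw [h]
      _ = (g : G) * k'⁻¹ * t := by group
  · have hc := Subgroup.mem_centralizer_singleton_iff.1 cx.1.2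
    have e : ((cx.1 : G) * k cx.2)⁻¹ * t * ((cx.1 : G) * k cx.2) = (cx.2 : G) := by
      rw [← hk cx.2]
      calc ((cx.1 : G) * k cx.2)⁻¹ * t * ((cx.1 : G) * k cx.2)
          = (k cx.2)⁻¹ * (cx.1 : G)⁻¹ * (t * cx.1) * k cx.2 := by group
        _ = (k cx.2)⁻¹ * (cx.1 : G)⁻¹ * ((cx.1 : G) * t) * k cx.2 := by rw [hc]
        _ = _ := by group
    rw [e]
    exact cx.2.2.2
  · obtain ⟨c, x⟩ := cx
    have hc := Subgroup.mem_centralizer_singleton_iff.1 c.2
    have e : ((c : G) * k x)⁻¹ * t * ((c : G) * k x) = (x : G) := by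
      rw [← hk x]
      calc ((c : G) * k x)⁻¹ * t * ((c : G) * k x)
          = (k x)⁻¹ * (c : G)⁻¹ * (t * c) * k x := by group
        _ = (k x)⁻¹ * (c : G)⁻¹ * ((c : G) * t) * k x := by rw [hc]
        _ = _ := by group
    refine Prod.ext (Subtype.ext ?_) (Subtype.ext e)
    have e' : ∀ h, (⟨((c : G) * k x)⁻¹ * t * ((c : G) * k x), h⟩ :
        {x : G // IsConj t x ∧ p x}) = x := fun _ => Subtype.ext e
    simp only [e', mul_inv_cancel_right]

theorem card_coset_fibre (H : Subgroup G) (P : G ⧸ H → Prop) :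
    Nat.card {g : G // P (g : G ⧸ H)} = Nat.card {q : G ⧸ H // P q} * Nat.card H := by
  classical
  rw [← Nat.card_prod]
  refine Nat.card_congr
    { toFun := fun g => (⟨((g : G) : G ⧸ H), g.2⟩, ⟨((g : G) : G ⧸ H).out⁻¹ * g, ?_⟩)
      invFun := fun qh => ⟨qh.1.1.out * qh.2, ?_⟩
      left_inv := fun g => Subtype.ext (mul_inv_cancel_left _ _)
      right_inv := fun qh => ?_ }
  · exact QuotientGroup.eq.1 (QuotientGroup.out_eq' _)
  · rw [QuotientGroup.mk_mul_of_mem _ qh.2.2, QuotientGroup.out_eq']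
    exact qh.1.2
  · obtain ⟨⟨q, hq⟩, h⟩ := qh
    have e : ((q.out * h : G) : G ⧸ H) = q := by
      rw [QuotientGroup.mk_mul_of_mem _ h.2, QuotientGroup.out_eq']
    refine Prod.ext (Subtype.ext e) (Subtype.ext ?_)
    simp only [e, inv_mul_cancel_left]

theorem fix_mul (t : G) (H : Subgroup G) :
    fixCard t H * Nat.card H =
      Nat.card (Subgroup.centralizer ({t} : Set G)) * mT t H := by
  rw [fixCard, ← card_coset_fibre H fun q => t • q = q]
  simp only [smul_eq_iff]
  rw [card_fibre t fun x => x ∈ H, mT]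
  congr 1
  exact Nat.card_congr
    { toFun := fun x => ⟨⟨x.1, x.2.2⟩, x.2.1⟩
      invFun := fun x => ⟨x.1.1, x.2, x.1.2⟩
      left_inv := fun _ => rfl
      right_inv := fun _ => rfl }

theorem index_mod_two {t : G} (ht : t * t = 1) (H : Subgroup G) :
    H.index % 2 = fixCard t H % 2 := by
  classical
  haveI := Fintype.ofFinite (G ⧸ H)
  haveI : Fact (Nat.Prime 2) := ⟨Nat.prime_two⟩
  let f : Function.End (G ⧸ H) := fun q => t • q
  have hf : f ^ 2 ^ 1 = 1 := by
    rw [pow_one, pow_two]
    funext q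
    show t • t • q = q
    rw [smul_smul, ht, one_smul]
  have h := Equiv.Perm.card_fixedPoints_modEq (p := 2) hf
  rw [Subgroup.index, fixCard, Nat.card_eq_fintype_card]
  rw [← Nat.card_eq_fintype_card (α := Function.fixedPoints f)] at h
  exact h

theorem map_eq_one [IsSimpleGroup G] (hG : ¬ IsMulCommutative G) {A : Type*} [CommGroup A]
    (f : G →* A) (g : G) : f g = 1 := by
  rcases IsSimpleGroup.eq_bot_or_eq_top_of_normal f.ker inferInstance with h | h
  · refine absurd ⟨⟨fun a b => ?_⟩⟩ hG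
    exact (MonoidHom.ker_eq_bot_iff f).1 h (by rw [map_mul, map_mul, mul_comm])
  · exact MonoidHom.mem_ker.1 (h ▸ Subgroup.mem_top g)

theorem index_mod_four [IsSimpleGroup G] (hG : ¬ IsMulCommutative G) {t : G} (ht : t * t = 1)
    (H : Subgroup G) : H.index % 4 = fixCard t H % 4 := by
  classical
  haveI := Fintype.ofFinite (G ⧸ H)
  have h := map_eq_one hG (Equiv.Perm.sign.comp (MulAction.toPermHom G (G ⧸ H))) t
  rw [MonoidHom.comp_apply] at h
  have hsq : (MulAction.toPermHom G (G ⧸ H) t) ^ 2 = 1 := by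
    rw [← map_pow, pow_two, ht, map_one]
  rw [Equiv.Perm.sign_of_pow_two_eq_one hsq, neg_one_pow_eq_one_iff_even (by decide)] at h
  have hfix : Fintype.card (Function.fixedPoints (MulAction.toPermHom G (G ⧸ H) t)) =
      fixCard t H := by
    rw [fixCard, ← Nat.card_eq_fintype_card]
    rfl
  have hle : fixCard t H ≤ Fintype.card (G ⧸ H) := by
    rw [← hfix]
    exact Fintype.card_subtype_le _
  have h2 := index_mod_two ht H
  rw [hfix] at h
  rw [Subgroup.index, Nat.card_eq_fintype_card] at h2 ⊢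
  obtain ⟨k, hk⟩ := h
  omega

/-- The transfer of an involution, by values. -/
theorem transfer_values [IsSimpleGroup G] (hG : ¬ IsMulCommutative G) {t : G} (ht : t * t = 1)
    (S : Subgroup G) {A : Type*} [CommGroup A] [Fintype A] (φ : S →* A) :
    ∃ f : A → ℕ, (∀ v, f v * Nat.card S = Nat.card (Subgroup.centralizer ({t} : Set G)) *
      Nat.card {x : S // IsConj t (x : G) ∧ φ x = v}) ∧ ∏ v, v ^ f v = 1 := by
  classical
  haveI := Fintype.ofFinite (G ⧸ S)
  letI := Fintype.ofFinite (Quotient (MulAction.orbitRel (Subgroup.zpowers t) (G ⧸ S)))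
  let val : G ⧸ S → A := fun q =>
    if h : q.out⁻¹ * t * q.out ∈ S then φ ⟨_, h⟩ else 1
  have hfix : ∀ q : G ⧸ S, t • q = q ↔ q.out⁻¹ * t * q.out ∈ S := fun q => by
    conv_lhs => rw [← QuotientGroup.out_eq' q]
    rw [smul_eq_iff]
  let Fx : Finset (G ⧸ S) := Finset.univ.filter fun q => t • q = q
  refine ⟨fun v => (Fx.filter fun q => val q = v).card, fun v => ?_, ?_⟩
  · have hφ : ∀ g : G, ((t • (g : G ⧸ S) = g) ∧ val (g : G ⧸ S) = v) ↔
        ∃ h : g⁻¹ * t * g ∈ S, φ ⟨_, h⟩ = v := by
      intro g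
      rw [smul_eq_iff]
      have hh : g⁻¹ * ((g : G ⧸ S).out) ∈ S :=
        QuotientGroup.eq.1 (QuotientGroup.out_eq' _).symm
      set c : S := ⟨_, hh⟩ with hc
      have hout : (g : G ⧸ S).out = g * (c : G) := by simp [hc]
      have hval : ∀ hg : g⁻¹ * t * g ∈ S, val (g : G ⧸ S) = φ ⟨_, hg⟩ := by
        intro hg
        have e : (g : G ⧸ S).out⁻¹ * t * (g : G ⧸ S).out = ((c⁻¹ * ⟨_, hg⟩ * c : S) : G) := by
          rw [hout]
          push_cast
          group
        have hm : (g : G ⧸ S).out⁻¹ * t * (g : G ⧸ S).out ∈ S := by rw [e]; exact SetLike.coe_mem _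
        simp only [val, dif_pos hm]
        rw [show (⟨_, hm⟩ : S) = c⁻¹ * ⟨_, hg⟩ * c from Subtype.ext e, map_mul, map_mul, map_inv,
          mul_comm (φ c)⁻¹, inv_mul_cancel_right]
      exact ⟨fun ⟨hg, h⟩ => ⟨hg, (hval hg) ▸ h⟩, fun ⟨hg, h⟩ => ⟨hg, (hval hg).trans h⟩⟩
    have hc := card_coset_fibre S fun q => t • q = q ∧ val q = v
    simp only [hφ] at hc
    rw [card_fibre t fun x => ∃ h : x ∈ S, φ ⟨x, h⟩ = v] at hc
    have hf : (Fx.filter fun q => val q = v).card =
        Nat.card {q : G ⧸ S // t • q = q ∧ val q = v} := by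
      rw [Nat.card_eq_fintype_card, Fintype.card_subtype, Finset.filter_filter]
    beta_reduce
    rw [hf, ← hc]
    congr 1
    exact Nat.card_congr
      { toFun := fun x => ⟨⟨x.1, x.2.2.1⟩, x.2.1, x.2.2.2⟩
        invFun := fun x => ⟨x.1.1, x.2.1, x.1.2, x.2.2⟩
        left_inv := fun _ => rfl
        right_inv := fun _ => rfl }
  · have h1 : ∏ v : A, v ^ (Fx.filter fun q => val q = v).card = ∏ q ∈ Fx, val q := by
      rw [← Finset.prod_fiberwise Fx val val]
      refine Finset.prod_congr rfl fun v _ => ?_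
      rw [Finset.prod_congr rfl fun q hq => (Finset.mem_filter.1 hq).2, Finset.prod_const]
    rw [h1]
    have htr := MonoidHom.transfer_eq_prod_quotient_orbitRel_zpowers_quot φ t
    rw [map_eq_one hG] at htr
    rw [htr]
    symm
    -- orbits of length one are the fixed cosets
    set O := Quotient (MulAction.orbitRel (Subgroup.zpowers t) (G ⧸ S))
    have hper : ∀ q : G ⧸ S, Function.minimalPeriod (t • ·) q = 1 ∨
        (Function.minimalPeriod (t • ·) q = 2 ∧ t • q ≠ q) := by
      intro q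
      have h2 : Function.IsPeriodicPt (t • ·) 2 q := by
        show t • t • q = q
        rw [smul_smul, ht, one_smul]
      rcases (Nat.dvd_prime Nat.prime_two).1 h2.minimalPeriod_dvd with h | h
      · exact Or.inl h
      · refine Or.inr ⟨h, fun hq => ?_⟩
        have := (Function.minimalPeriod_eq_one_iff_isFixedPt (f := (t • ·)) (x := q)).2 hq
        omega
    refine Finset.prod_bij_ne_one (fun o _ _ => o.out) ?_ (fun _ _ _ _ _ _ h =>
      Quotient.out_injective h) ?_ ?_
    · intro o _ hne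
      simp only [Fx, Finset.mem_filter, Finset.mem_univ, true_and]
      rcases hper o.out with h | ⟨h, -⟩
      · exact Function.minimalPeriod_eq_one_iff_isFixedPt.1 h
      · refine absurd ?_ hne
        rw [← map_one φ]
        congr 1
        exact Subtype.ext (by simp [h, pow_two, ht])
    · intro q hq hne
      have hq' : t • q = q := (Finset.mem_filter.1 hq).2
      have ho : (Quotient.mk'' q : O).out = q := by
        obtain ⟨⟨w, hw⟩, hwq⟩ : (Quotient.mk'' q : O).out ∈
            MulAction.orbit (Subgroup.zpowers t) q :=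
          MulAction.orbitRel_apply.1 (Quotient.mk_out (s := MulAction.orbitRel _ _) q)
        rw [← hwq]
        obtain ⟨i, rfl⟩ := hw
        have hst : t ∈ MulAction.stabilizer G q := hq'
        exact MulAction.mem_stabilizer_iff.1 (zpow_mem hst i)
      refine ⟨Quotient.mk'' q, by simp, ?_, ho⟩
      intro h1
      refine hne ?_
      simp only [val, dif_pos ((hfix q).1 hq')]
      rw [← h1]
      congr 1
      refine Subtype.ext ?_
      simp [ho, (Function.minimalPeriod_eq_one_iff_isFixedPt (f := (t • ·)) (x := q)).2 hq']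
    · intro o _ hne
      rcases hper o.out with h | ⟨h, -⟩
      · simp only [val, dif_pos ((hfix _).1 (Function.minimalPeriod_eq_one_iff_isFixedPt.1 h))]
        congr 1
        exact Subtype.ext (by simp [h])
      · refine absurd ?_ hne
        rw [← map_one φ]
        congr 1
        exact Subtype.ext (by simp [h, pow_two, ht])

/-- A subgroup of index twice an odd number containing no conjugate of `t` cannot exist. -/
theorem false_of_index_two [IsSimpleGroup G] (hG : ¬ IsMulCommutative G) {t : G} (ht : t * t = 1)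
    {H : Subgroup G} (hi : H.index % 4 = 2) (hm : mT t H = 0) : False := by
  have h := index_mod_four hG ht H
  have h2 := fix_mul t H
  rw [hm, mul_zero, mul_eq_zero] at h2
  rcases h2 with h2 | h2
  · omega
  · exact absurd h2 Nat.card_pos.ne'

/-- A `2`-subgroup in which the number of conjugates of `t` is odd multiple of `|H| / |C(t)|₂` is
a Sylow `2`-subgroup. -/
theorem odd_index_of_odd_fix {t : G} (ht : t * t = 1) {H : Subgroup G}
    (hf : fixCard t H % 2 = 1) : H.index % 2 = 1 := (index_mod_two ht H).trans hf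

end Cfsg.Agent.Lib.TwoTimesPSL.Count
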