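import Mathlib
import Cfsg.Agent.Lib.TwoTimesPSL.Count

/-!
# General lemmas on `2`-subgroups
Owner: helper80.
-/

set_option autoImplicit false
set_option linter.unusedSectionVars false

namespace Cfsg.Agent.Lib.TwoTimesPSL.Basics

variable {G : Type*} [Group G] [Finite G]

/-- A proper subgroup of a `2`-group is properly normalised there. -/
theorem exists_normalizing_in {P S : Subgroup G} (hS : IsPGroup 2 S) (hPS : P ≤ S) (hne : ¬ S ≤ P) :
    ∃ n ∈ S, n ∉ P ∧ ∀ x ∈ P, n * x * n⁻¹ ∈ P := by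
  haveI : Fact (Nat.Prime 2) := ⟨Nat.prime_two⟩
  haveI := hS.isNilpotent
  have hlt : P.subgroupOf S < ⊤ := lt_top_iff_ne_top.2 fun e => hne (Subgroup.subgroupOf_eq_top.1 e)
  obtain ⟨n, hn, hnP⟩ := SetLike.exists_of_lt (Group.normalizerCondition_of_isNilpotent _ hlt)
  exact ⟨n, n.2, hnP, fun x hx => (Subgroup.mem_normalizer_iff.1 hn ⟨x, hPS hx⟩).1 hx⟩

/-- A `2`-subgroup of even index is properly normalised by a `2`-element. -/
theorem exists_normalizing {P : Subgroup G} (hP : IsPGroup 2 P) (h : P.index % 2 = 0) :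
    ∃ (S : Subgroup G) (n : G), IsPGroup 2 S ∧ P ≤ S ∧ n ∈ S ∧ n ∉ P ∧
      ∀ x ∈ P, n * x * n⁻¹ ∈ P := by
  haveI : Fact (Nat.Prime 2) := ⟨Nat.prime_two⟩
  obtain ⟨S, hS⟩ := hP.exists_le_sylow
  have hne : ¬ (S : Subgroup G) ≤ P := fun hle => by
    have := S.not_dvd_index
    rw [le_antisymm hle hS] at this
    omega
  haveI := S.isPGroup'.isNilpotent
  have hlt : P.subgroupOf (S : Subgroup G) < ⊤ := lt_top_iff_ne_top.2 fun e => hne (Subgroup.subgroupOf_eq_top.1 e)
  obtain ⟨n, hn, hnP⟩ := SetLike.exists_of_lt (Group.normalizerCondition_of_isNilpotent _ hlt)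
  refine ⟨S, n, S.isPGroup', hS, n.2, hnP, fun x hx => ?_⟩
  exact (Subgroup.mem_normalizer_iff.1 hn ⟨x, hS hx⟩).1 hx

/-- In a Sylow `2`-subgroup, `P` is proper as soon as something normalises it from outside. -/
theorem even_index_of_lt {P S : Subgroup G} (hS : IsPGroup 2 S) (hPS : P ≤ S) {n : G} (hn : n ∈ S)
    (hnP : n ∉ P) : P.index % 2 = 0 := by
  haveI : Fact (Nat.Prime 2) := ⟨Nat.prime_two⟩
  obtain ⟨k, hk⟩ := IsPGroup.iff_card.1 hS
  have h1 := Subgroup.relIndex_mul_index hPS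
  have h2 := Subgroup.card_mul_index (P.subgroupOf S)
  rw [hk] at h2
  obtain ⟨j, -, hj⟩ := (Nat.dvd_prime_pow Nat.prime_two).1 (Dvd.intro_left _ h2)
  change P.relIndex S = 2 ^ j at hj
  rcases j with _ | j
  · exact absurd (Subgroup.relIndex_eq_one.1 (hj.trans (pow_zero 2)) hn) hnP
  · rw [← h1, hj, pow_succ', mul_assoc]
    exact Nat.mul_mod_right 2 _

/-- A subgroup of index two in a subgroup of odd index. -/
theorem index_mod_four_of_half {M P : Subgroup G} (hMP : M ≤ P)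
    (hc : Nat.card P = 2 * Nat.card M) (hP : P.index % 2 = 1) : M.index % 4 = 2 := by
  have h1 := Subgroup.card_mul_index M
  have h2 := Subgroup.card_mul_index P
  rw [hc, ← h1, mul_assoc, mul_left_comm] at h2
  have := Nat.eq_of_mul_eq_mul_left Nat.card_pos h2
  omega

/-- The index two criterion by covering. -/
theorem card_of_cover {M P : Subgroup G} {t : G} (ht : t * t = 1) (hMP : M ≤ P) (htP : t ∈ P)
    (htM : t ∉ M) (hcov : ∀ x ∈ P, x ∈ M ∨ x * t ∈ M) : Nat.card P = 2 * Nat.card M := by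
  have hi : (M.subgroupOf P).index = 2 := by
    rw [Subgroup.index_eq_two_iff]
    refine ⟨⟨t, htP⟩, fun b => ?_⟩
    simp only [Subgroup.mem_subgroupOf, Subgroup.coe_mul]
    rcases hcov _ b.2 with hb | hb
    · exact Or.inr ⟨hb, fun h => htM (by simpa using mul_mem (inv_mem hb) h)⟩
    · exact Or.inl ⟨hb, fun h => htM (by simpa using mul_mem (inv_mem h) hb)⟩
  have h := Subgroup.card_mul_index (M.subgroupOf P)
  rw [hi, Nat.card_congr (Subgroup.subgroupOfEquivOfLe hMP).toEquiv] at h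
  omega

/-- A subgroup containing all squares of `P` avoiding `t` extends to a complement of `t`. -/
theorem exists_complement {P : Subgroup G} {t : G} (ht : t * t = 1) (htP : t ∈ P)
    (H0 : Subgroup G) (hH0 : H0 ≤ P) (hsq : ∀ x ∈ P, x * x ∈ H0) (htH : t ∉ H0) :
    ∃ M : Subgroup G, H0 ≤ M ∧ M ≤ P ∧ t ∉ M ∧ (∀ x ∈ P, x ∈ M ∨ x * t ∈ M) ∧
      ∀ x ∈ P, ∀ m ∈ M, x * m * x⁻¹ ∈ M := by
  classical
  have := Fintype.ofFinite (Subgroup G)
  obtain ⟨M, hM, hmax⟩ :=
    Finset.exists_maximal (s := Finset.univ.filter fun H : Subgroup G => H0 ≤ H ∧ H ≤ P ∧ t ∉ H)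
      ⟨H0, by simp [hH0, htH]⟩
  simp only [Finset.mem_filter, Finset.mem_univ, true_and] at hM hmax
  obtain ⟨h0, hle, htM⟩ := hM
  have hnorm : ∀ x ∈ P, ∀ m ∈ M, x * m * x⁻¹ ∈ M := by
    intro x hx m hm
    have e : x * m * x⁻¹ = x * x * (x⁻¹ * m * (x⁻¹ * m)) * m⁻¹ := by group
    rw [e]
    exact mul_mem (mul_mem (h0 (hsq x hx))
      (h0 (hsq _ (mul_mem (inv_mem hx) (hle hm))))) (inv_mem hm)
  refine ⟨M, h0, hle, htM, fun x hx => ?_, hnorm⟩
  by_cases hxM : x ∈ M
  · exact Or.inl hxM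
  right
  let M' : Subgroup G :=
    { carrier := {y | y ∈ P ∧ (y ∈ M ∨ y * x⁻¹ ∈ M)}
      one_mem' := ⟨one_mem _, Or.inl (one_mem _)⟩
      mul_mem' := by
        rintro a b ⟨ha, ha'⟩ ⟨hb, hb'⟩
        refine ⟨mul_mem ha hb, ?_⟩
        rcases ha' with ha' | ha' <;> rcases hb' with hb' | hb'
        · exact Or.inl (mul_mem ha' hb')
        · exact Or.inr (by rw [mul_assoc]; exact mul_mem ha' hb')
        · refine Or.inr ?_
          rw [show a * b * x⁻¹ = a * x⁻¹ * (x * b * x⁻¹) by group]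
          exact mul_mem ha' (hnorm x hx b hb')
        · refine Or.inl ?_
          rw [show a * b = a * x⁻¹ * (x * (b * x⁻¹) * x⁻¹) * (x * x) by group]
          exact mul_mem (mul_mem ha' (hnorm x hx _ hb')) (h0 (hsq x hx))
      inv_mem' := by
        rintro a ⟨ha, ha' | ha'⟩
        · exact ⟨inv_mem ha, Or.inl (inv_mem ha')⟩
        · refine ⟨inv_mem ha, Or.inr ?_⟩
          rw [show a⁻¹ * x⁻¹ = x⁻¹ * (a * x⁻¹)⁻¹ * x * (x * x)⁻¹ by group]
          exact mul_mem (by simpa using hnorm _ (inv_mem hx) _ (inv_mem ha'))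
            (inv_mem (h0 (hsq x hx))) }
  have hMM' : M ≤ M' := fun y hy => ⟨hle hy, Or.inl hy⟩
  have htM' : t ∈ M' := by
    by_contra h
    exact hxM (hmax ⟨h0.trans hMM', fun y hy => hy.1, h⟩ hMM' ⟨hx, Or.inr (by simp)⟩)
  rcases htM'.2 with h | h
  · exact absurd h htM
  · have h1 := inv_mem h
    rwa [mul_inv_rev, inv_inv, inv_eq_of_mul_eq_one_right ht] at h1

/-- Orbit sizes. -/
theorem dvd_card_of_stabilizer {H X : Type*} [Group H] [Finite H] [MulAction H X] [Finite X]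
    {b m : ℕ} (hH : Nat.card H = b * m) (hb : 0 < b)
    (hs : ∀ x : X, Nat.card (MulAction.stabilizer H x) ∣ b) : m ∣ Nat.card X := by
  classical
  haveI := Fintype.ofFinite (Quotient (MulAction.orbitRel H X))
  rw [Nat.card_congr (MulAction.selfEquivSigmaOrbitsQuotientStabilizer H X), Nat.card_sigma]
  refine Finset.dvd_sum fun o _ => ?_
  obtain ⟨c, hc⟩ := hs o.out
  refine ⟨c, ?_⟩
  have h := Subgroup.card_mul_index (MulAction.stabilizer H o.out)
  rw [hH, hc, mul_assoc] at h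
  show (MulAction.stabilizer H o.out).index = m * c
  rw [mul_comm m c]
  exact Nat.eq_of_mul_eq_mul_left Nat.card_pos h

/-- The conjugates of `t` in a normal piece, away from a set `X`, come in large classes. -/
theorem dvd_card_conj_classes {t : G} {S : Subgroup G} {b m : ℕ} (hS : Nat.card S = b * m)
    (hb : 0 < b) (p : G → Prop) (hp : ∀ s ∈ S, ∀ x, p x → p (s * x * s⁻¹))
    (hc : ∀ x, IsConj t x → p x → Nat.card ↥(S ⊓ Subgroup.centralizer ({x} : Set G)) ∣ b) :
    m ∣ Nat.card {x : G // IsConj t x ∧ p x} := by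
  letI : MulAction S {x : G // IsConj t x ∧ p x} :=
    { smul := fun s x => ⟨(s : G) * x * (s : G)⁻¹,
        x.2.1.trans (isConj_iff.2 ⟨s, rfl⟩), hp s s.2 x x.2.2⟩
      one_smul := fun x => Subtype.ext (by show ((1 : S) : G) * x * ((1 : S) : G)⁻¹ = x; simp)
      mul_smul := fun a b x => Subtype.ext (by
        show ((a * b : S) : G) * x * ((a * b : S) : G)⁻¹ = (a : G) * ((b : G) * x * (b : G)⁻¹) * (a : G)⁻¹
        push_cast; group) }
  refine dvd_card_of_stabilizer (H := S) hS hb fun x => ?_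
  refine (dvd_of_eq ?_).trans (hc x x.2.1 x.2.2)
  refine Nat.card_congr
    { toFun := fun s => ⟨(s.1 : G), s.1.2, Subgroup.mem_centralizer_singleton_iff.2
        (mul_inv_eq_iff_eq_mul.1 (congrArg Subtype.val (s.2 : s.1 • x = x)))⟩
      invFun := fun s => ⟨⟨s.1, s.2.1⟩, Subtype.ext (mul_inv_eq_iff_eq_mul.2
        (Subgroup.mem_centralizer_singleton_iff.1 s.2.2))⟩
      left_inv := fun _ => rfl
      right_inv := fun _ => rfl }

end Cfsg.Agent.Lib.TwoTimesPSL.Basics
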