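import Mathlib

/-!
# Two facts over finite fields of characteristic two

An alternating biadditive form that is semilinear of weight one in both variables is zero; a
tournament given by linear functionals on a space of dimension `d` has at most `2 d + 1` points.
Owner: helper80.
-/

set_option autoImplicit false

namespace Cfsg.Agent.Lib.TwoTimesPSL.Field2

variable {K : Type*} [Field K] [Finite K] [CharP K 2]

theorem form_eq_zero (B : K → K → K) (hl : ∀ u v w, B (u + v) w = B u w + B v w)
    (hr : ∀ u v w, B u (v + w) = B u v + B u w) (hd : ∀ v, B v v = 0)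
    (hs : ∀ a v w : K, a ≠ 0 → B (a * v) (a * w) = a * B v w) (v w : K) : B v w = 0 := by
  have hsym : ∀ u x, B u x = B x u := fun u x => by
    have h := hd (u + x)
    rw [hl, hr, hr, hd, hd, zero_add, add_zero] at h
    exact CharTwo.add_eq_zero.1 h
  set f : K → K := fun x => B 1 x with hf
  have fadd : ∀ x y, f (x + y) = f x + f y := fun x y => hr 1 x y
  have f0 : f 0 = 0 := by
    have h := fadd 0 0
    rw [add_zero] at h
    exact left_eq_add.1 h
  have finv : ∀ x : K, x ≠ 0 → f x = x * f x⁻¹ := fun x hx => by
    have h := hs x 1 x⁻¹ hx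
    rw [mul_one, mul_inv_cancel₀ hx, hsym] at h
    exact h
  have fsq : ∀ y : K, f (y ^ 2) = 0 := by
    intro y
    by_cases h0 : y = 0
    · rw [h0, zero_pow two_ne_zero, f0]
    by_cases h1 : y = 1
    · rw [h1, one_pow]
      exact hd 1
    have h2 : (1 + y) ≠ 0 := fun h => h1 (CharTwo.add_eq_zero.1 h).symm
    have hz : y * (1 + y) ≠ 0 := mul_ne_zero h0 h2
    have e : (y * (1 + y))⁻¹ = y⁻¹ + (1 + y)⁻¹ := by
      have h3 : y + (1 + y) = 1 := by rw [add_left_comm, CharTwo.add_self_eq_zero, add_zero]
      field_simp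
      linear_combination -h3
    have h4 : f (1 + y) = f y := by rw [fadd, show f 1 = 0 from hd 1, zero_add]
    have h5 : f (y * (1 + y)) = f y := by
      rw [finv _ hz, e, fadd, mul_add]
      have a1 := finv y h0
      have a2 := finv (1 + y) h2
      rw [h4] at a2
      have : y * (1 + y) * f y⁻¹ + y * (1 + y) * f (1 + y)⁻¹ = (1 + y) * f y + y * f y := by
        rw [mul_comm y (1 + y), mul_assoc, ← a1, mul_comm (1 + y) y, mul_assoc, ← a2]
      rw [this, ← add_mul, add_assoc, CharTwo.add_self_eq_zero, add_zero, one_mul]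
    rw [mul_add, mul_one, ← pow_two, fadd] at h5
    exact add_eq_left.1 h5
  have fall : ∀ x, f x = 0 := fun x => by
    haveI : Fact (Nat.Prime 2) := ⟨Nat.prime_two⟩
    obtain ⟨y, rfl⟩ := (Finite.injective_iff_surjective.1 (frobenius_inj K 2)) x
    exact fsq y
  by_cases hv : v = 0
  · have h := hl 0 0 w
    rw [add_zero] at h
    rw [hv]
    exact left_eq_add.1 h
  · have h := hs v 1 (v⁻¹ * w) hv
    rw [mul_one, mul_inv_cancel_left₀ hv] at h
    rw [h, show B 1 (v⁻¹ * w) = 0 from fall _, mul_zero]

/-- A tournament given by functionals has few points. -/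
theorem tournament {ι V : Type*} [Finite ι] [AddCommGroup V] [Module (ZMod 2) V] [Finite V]
    (x : ι → V) (L : ι → Module.Dual (ZMod 2) V) (hdiag : ∀ a, L a (x a) = 1)
    (hanti : ∀ a b, a ≠ b → L a (x b) + L b (x a) = 1) :
    Nat.card ι ≤ 2 * Module.finrank (ZMod 2) V + 1 := by
  classical
  haveI := Fintype.ofFinite ι
  haveI : Fact (Nat.Prime 2) := ⟨Nat.prime_two⟩
  set T : (ι → ZMod 2) →ₗ[ZMod 2] V × Module.Dual (ZMod 2) V :=
    (Fintype.linearCombination (ZMod 2) x).prod (Fintype.linearCombination (ZMod 2) L) with hT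
  have hker : LinearMap.ker T ≤ Submodule.span (ZMod 2) {fun _ : ι => (1 : ZMod 2)} := by
    intro c hc
    simp only [LinearMap.mem_ker, hT, LinearMap.prod_apply, Prod.ext_iff, Prod.fst_zero, Prod.snd_zero,
      Function.prod, Fintype.linearCombination_apply] at hc
    set s := ∑ b, c b
    have key : ∀ a, c a = s := fun a => by
      have h1 := congrArg (L a) hc.1
      have h2 := congrArg (fun φ : Module.Dual (ZMod 2) V => φ (x a)) hc.2
      simp only [map_sum, map_smul, map_zero, smul_eq_mul, LinearMap.coe_sum, Finset.sum_apply,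
        LinearMap.smul_apply, LinearMap.zero_apply] at h1 h2
      have h3 : ∑ b, c b * (L a (x b) + L b (x a)) = 0 := by
        simp only [mul_add, Finset.sum_add_distrib, h1, h2, add_zero]
      have h4 : ∑ b, c b * (L a (x b) + L b (x a)) = s - c a := by
        rw [← Finset.sum_erase_add _ _ (Finset.mem_univ a), hdiag, CharTwo.add_self_eq_zero,
          mul_zero, add_zero, eq_sub_iff_add_eq,
          show s = ∑ b, c b from rfl,
          ← Finset.sum_erase_add Finset.univ c (Finset.mem_univ a)]
        congr 1
        exact Finset.sum_congr rfl fun b hb => by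
          rw [hanti a b (Finset.ne_of_mem_erase hb).symm, mul_one]
      rw [h4] at h3
      exact (sub_eq_zero.1 h3).symm
    refine Submodule.mem_span_singleton.2 ⟨s, ?_⟩
    funext a
    simp [key a]
  have h1 := Submodule.finrank_mono hker
  have h2 : Module.finrank (ZMod 2)
      (Submodule.span (ZMod 2) {fun _ : ι => (1 : ZMod 2)}) ≤ 1 :=
    (finrank_span_le_card _).trans (by simp)
  have h3 := LinearMap.finrank_range_add_finrank_ker T
  have h4 := Submodule.finrank_le (LinearMap.range T)
  rw [Module.finrank_prod, Subspace.dual_finrank_eq] at h4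
  rw [Module.finrank_fintype_fun_eq_card, ← Nat.card_eq_fintype_card] at h3
  omega

end Cfsg.Agent.Lib.TwoTimesPSL.Field2
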