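import Mathlib
import Cfsg.Agent.Lib.TwoTimesPSL.Field2

/-!
# Levels: abelian `2`-groups inverted by an involution `t`

`Frame`: a coordinatised elementary group `U` centralised by `t` on which scalars act through
`C(t)`.  `Level`: an abelian `2`-group containing `U`, inverted by `t`, with `U` as fixed points.
Owner: helper80.
-/

set_option autoImplicit false
set_option linter.unusedSectionVars false

namespace Cfsg.Agent.Lib.TwoTimesPSL

variable {G : Type*} [Group G]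

/-- The coordinates. -/
structure Frame (t : G) (K : Type*) [Field K] where
  ι : K → G
  ι_inj : Function.Injective ι
  ι_add : ∀ a b, ι (a + b) = ι a * ι b
  ι_comm : ∀ a, t * ι a = ι a * t
  sc : K → G
  sc_comm : ∀ a, a ≠ 0 → t * sc a = sc a * t
  sc_act : ∀ a x, a ≠ 0 → sc a * ι x * (sc a)⁻¹ = ι (a * x)
  t_inv : t * t = 1
  t_not : ∀ a, t ≠ ι a
  cent : ∀ x : G, (∃ k : ℕ, x ^ 2 ^ k = 1) → t * x = x * t → (∀ a, x * ι a = ι a * x) →
    ∃ a, x = ι a ∨ x = t * ι a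

/-- An inverted abelian group over the frame. -/
structure Level {t : G} {K : Type*} [Field K] (Fr : Frame t K) where
  A : Subgroup G
  comm : ∀ a ∈ A, ∀ b ∈ A, a * b = b * a
  pgroup : IsPGroup 2 A
  ι_mem : ∀ a, Fr.ι a ∈ A
  inv : ∀ a ∈ A, t * a * t = a⁻¹
  t_not_mem : t ∉ A
  fixed : ∀ a ∈ A, t * a = a * t → ∃ v, a = Fr.ι v
  scal : ∀ c, c ≠ 0 → ∃ g, t * g = g * t ∧ (∀ x ∈ A, g * x * g⁻¹ ∈ A) ∧
    ∀ v, g * Fr.ι v * g⁻¹ = Fr.ι (c * v)

variable {t : G} {K : Type*} [Field K] [Finite K] [CharP K 2] {Fr : Frame t K}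

namespace Frame

variable (Fr)

theorem ι_zero : Fr.ι 0 = 1 := by
  have h := Fr.ι_add 0 0
  rw [add_zero] at h
  exact left_eq_mul.1 h

theorem ι_mul_self (a : K) : Fr.ι a * Fr.ι a = 1 := by
  rw [← Fr.ι_add, CharTwo.add_self_eq_zero, Fr.ι_zero]

theorem ι_inv (a : K) : (Fr.ι a)⁻¹ = Fr.ι a := inv_eq_of_mul_eq_one_right (Fr.ι_mul_self a)

theorem ι_eq_one {a : K} (h : Fr.ι a = 1) : a = 0 := Fr.ι_inj (h.trans Fr.ι_zero.symm)

include Fr in
theorem t_inv' : t⁻¹ = t := inv_eq_of_mul_eq_one_right Fr.t_inv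

/-- The group `U`. -/
def U : Subgroup G where
  carrier := Set.range Fr.ι
  one_mem' := ⟨0, Fr.ι_zero⟩
  mul_mem' := fun ⟨a, ha⟩ ⟨b, hb⟩ => ⟨a + b, by rw [Fr.ι_add, ha, hb]⟩
  inv_mem' := fun {x} ⟨a, ha⟩ => ⟨a, by rw [← ha, Fr.ι_inv]⟩

theorem mem_U {x : G} : x ∈ Fr.U ↔ ∃ a, Fr.ι a = x := Iff.rfl

theorem card_U : Nat.card Fr.U = Nat.card K :=
  (Nat.card_congr (Equiv.ofInjective Fr.ι Fr.ι_inj)).symm

/-- The bottom level. -/
def base : Level Fr where
  A := Fr.U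
  comm := by
    rintro _ ⟨a, rfl⟩ _ ⟨b, rfl⟩
    rw [← Fr.ι_add, ← Fr.ι_add, add_comm]
  pgroup := fun ⟨x, a, ha⟩ => ⟨1, Subtype.ext (by simp [← ha, pow_two, Fr.ι_mul_self])⟩
  ι_mem := fun a => ⟨a, rfl⟩
  inv := by
    rintro _ ⟨a, rfl⟩
    rw [Fr.ι_comm, mul_assoc, Fr.t_inv, mul_one, Fr.ι_inv]
  t_not_mem := fun ⟨a, ha⟩ => Fr.t_not a ha.symm
  fixed := by
    rintro _ ⟨a, rfl⟩ _
    exact ⟨a, rfl⟩
  scal := fun a ha => ⟨Fr.sc a, Fr.sc_comm a ha, by
    rintro _ ⟨x, rfl⟩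
    exact ⟨a * x, (Fr.sc_act a x ha).symm⟩, fun v => Fr.sc_act a v ha⟩

end Frame

namespace Level

variable (L : Level Fr) [Finite G]

theorem exists_pow : ∃ e, ∀ a ∈ L.A, a ^ 2 ^ e = 1 := by
  obtain ⟨n, hn⟩ := IsPGroup.iff_card.1 L.pgroup
  refine ⟨n, fun a ha => ?_⟩
  have := pow_card_eq_one' (x := (⟨a, ha⟩ : L.A))
  rw [hn] at this
  exact congrArg Subtype.val this

open Classical in
/-- The logarithm of the exponent. -/
noncomputable def expLog : ℕ := Nat.find L.exists_pow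

theorem pow_expLog {a : G} (ha : a ∈ L.A) : a ^ 2 ^ L.expLog = 1 := by
  classical
  exact Nat.find_spec L.exists_pow a ha

theorem expLog_pos : 1 ≤ L.expLog := by
  by_contra h
  have h0 : L.expLog = 0 := by omega
  have := L.pow_expLog (L.ι_mem 1)
  rw [h0, pow_zero, pow_one] at this
  exact one_ne_zero (Fr.ι_eq_one this)

theorem sq_eq_one {a : G} (ha : a ∈ L.A) (h : a * a = 1) : ∃ v, a = Fr.ι v := by
  refine L.fixed a ha ?_
  have h1 := L.inv a ha
  rw [inv_eq_of_mul_eq_one_right h] at h1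
  calc t * a = t * a * (t * t) := by rw [Fr.t_inv, mul_one]
    _ = (t * a * t) * t := by group
    _ = a * t := by rw [h1]

/-- The top coordinate. -/
noncomputable def top (a : G) : K := Function.invFun Fr.ι (a ^ 2 ^ (L.expLog - 1))

theorem ι_top {a : G} (ha : a ∈ L.A) : Fr.ι (L.top a) = a ^ 2 ^ (L.expLog - 1) := by
  refine Function.invFun_eq ?_
  have h : a ^ 2 ^ (L.expLog - 1) * a ^ 2 ^ (L.expLog - 1) = 1 := by
    rw [← pow_add, ← two_mul, ← pow_succ', Nat.sub_add_cancel L.expLog_pos, L.pow_expLog ha]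
  obtain ⟨v, hv⟩ := L.sq_eq_one (pow_mem ha _) h
  exact ⟨v, hv.symm⟩

theorem top_mul {a b : G} (ha : a ∈ L.A) (hb : b ∈ L.A) :
    L.top (a * b) = L.top a + L.top b := by
  refine Fr.ι_inj ?_
  rw [Fr.ι_add, L.ι_top ha, L.ι_top hb, L.ι_top (mul_mem ha hb),
    (show Commute a b from L.comm a ha b hb).mul_pow]

theorem top_one : L.top 1 = 0 :=
  Fr.ι_inj (by rw [L.ι_top (one_mem _), one_pow, Fr.ι_zero])

theorem top_inv {a : G} (ha : a ∈ L.A) : L.top a⁻¹ = L.top a := by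
  have h := L.top_mul (inv_mem ha) ha
  rw [inv_mul_cancel, L.top_one] at h
  exact CharTwo.add_eq_zero.1 h.symm

theorem top_sq {a : G} (ha : a ∈ L.A) : L.top (a * a) = 0 := by
  rw [L.top_mul ha ha, CharTwo.add_self_eq_zero]

theorem top_eq_zero_of_pow {a : G} (ha : a ∈ L.A) {i : ℕ} (hi : i < L.expLog)
    (h : a ^ 2 ^ i = 1) : L.top a = 0 := by
  refine Fr.ι_inj ?_
  rw [L.ι_top ha, show 2 ^ (L.expLog - 1) = 2 ^ i * 2 ^ (L.expLog - 1 - i) by
    rw [← pow_add]; congr 1; omega, pow_mul, h, one_pow, Fr.ι_zero]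

theorem conj_pow' (g a : G) (n : ℕ) : (g * a * g⁻¹) ^ n = g * a ^ n * g⁻¹ :=
  (map_pow (MulAut.conj g).toMonoidHom a n).symm

theorem top_conj {a g : G} (ha : a ∈ L.A) (hga : g * a * g⁻¹ ∈ L.A)
    (hg : ∀ v, g * Fr.ι v = Fr.ι v * g) : L.top (g * a * g⁻¹) = L.top a := by
  refine Fr.ι_inj ?_
  rw [L.ι_top hga, conj_pow', ← L.ι_top ha, hg, mul_inv_cancel_right]

theorem top_scale {a g : G} {c : K} (ha : a ∈ L.A) (hga : g * a * g⁻¹ ∈ L.A)
    (hg : ∀ v, g * Fr.ι v * g⁻¹ = Fr.ι (c * v)) : L.top (g * a * g⁻¹) = c * L.top a := by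
  refine Fr.ι_inj ?_
  rw [L.ι_top hga, conj_pow', ← L.ι_top ha, hg]

theorem exists_top_ne : ∃ a ∈ L.A, L.top a ≠ 0 := by
  classical
  by_contra h
  push Not at h
  have : ∀ a ∈ L.A, a ^ 2 ^ (L.expLog - 1) = 1 := fun a ha => by
    rw [← L.ι_top ha, h a ha, Fr.ι_zero]
  have hle : L.expLog ≤ L.expLog - 1 := Nat.find_le (h := L.exists_pow) this
  have := L.expLog_pos
  omega

theorem top_surj (v : K) : ∃ a ∈ L.A, L.top a = v := by
  obtain ⟨a, ha, hne⟩ := L.exists_top_ne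
  by_cases hv : v = 0
  · exact ⟨1, one_mem _, L.top_one.trans hv.symm⟩
  have hc : v * (L.top a)⁻¹ ≠ 0 := mul_ne_zero hv (inv_ne_zero hne)
  obtain ⟨g, -, hgA, hgU⟩ := L.scal _ hc
  refine ⟨_, hgA a ha, ?_⟩
  rw [L.top_scale ha (hgA a ha) hgU,
    mul_assoc, inv_mul_cancel₀ hne, mul_one]

theorem exists_sqrt {a : G} (ha : a ∈ L.A) (h : L.top a = 0) : ∃ b ∈ L.A, b * b = a := by
  classical
  let f : L.A →* Multiplicative K :=
    { toFun := fun x => Multiplicative.ofAdd (L.top (x : G))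
      map_one' := by simp [L.top_one]
      map_mul' := fun x y => by simp [L.top_mul x.2 y.2, ofAdd_add] }
  let s : L.A →* L.A :=
    { toFun := fun x => x * x
      map_one' := mul_one 1
      map_mul' := fun x y => Subtype.ext (by
        push_cast
        rw [mul_assoc, ← mul_assoc (y : G) x y, L.comm y y.2 x x.2]
        group) }
  have hf : Function.Surjective f := fun v => by
    obtain ⟨b, hb, hv⟩ := L.top_surj (Multiplicative.toAdd v)
    exact ⟨⟨b, hb⟩, by simp [f, hv]⟩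
  have hle : s.range ≤ f.ker := by
    rintro _ ⟨x, rfl⟩
    simp [f, s, MonoidHom.mem_ker, L.top_sq x.2]
  have hsk : Nat.card s.ker = Nat.card K := by
    symm
    refine Nat.card_congr (Equiv.ofBijective
      (fun v => (⟨⟨Fr.ι v, L.ι_mem v⟩, Subtype.ext (Fr.ι_mul_self v)⟩ : s.ker)) ⟨?_, ?_⟩)
    · exact fun v w h => Fr.ι_inj (congrArg (fun x : s.ker => ((x : L.A) : G)) h)
    · rintro ⟨⟨x, hx⟩, hk⟩
      obtain ⟨v, hv⟩ := L.sq_eq_one hx (congrArg Subtype.val (MonoidHom.mem_ker.1 hk))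
      exact ⟨v, Subtype.ext (Subtype.ext hv.symm)⟩
  have h1 := Subgroup.card_mul_index s.ker
  have h2 := Subgroup.card_mul_index f.ker
  rw [Subgroup.index_ker, hsk] at h1
  rw [Subgroup.index_ker, MonoidHom.range_eq_top.2 hf, Subgroup.card_top,
    Nat.card_congr (Multiplicative.toAdd (α := K))] at h2
  have hq : 0 < Nat.card K := Nat.card_pos
  have hcard : Nat.card f.ker ≤ Nat.card s.range :=
    (Nat.eq_of_mul_eq_mul_right hq (h2.trans (by rw [← h1, mul_comm]))).le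
  have heq := Subgroup.eq_of_le_of_card_ge hle hcard
  have hmem : (⟨a, ha⟩ : L.A) ∈ s.range := by
    rw [heq, MonoidHom.mem_ker]
    simp [f, h]
  obtain ⟨b, hb⟩ := hmem
  exact ⟨b, b.2, congrArg Subtype.val hb⟩

theorem card_A_ge (h : ∃ a ∈ L.A, ∀ v, a ≠ Fr.ι v) :
    Nat.card K * Nat.card K ≤ Nat.card L.A := by
  classical
  obtain ⟨a, ha, hne⟩ := h
  have he : 2 ≤ L.expLog := by
    by_contra hlt
    have h1 : L.expLog = 1 := by
      have := L.expLog_pos
      omega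
    have := L.pow_expLog ha
    rw [h1, pow_one, pow_two] at this
    obtain ⟨v, hv⟩ := L.sq_eq_one ha this
    exact hne v hv
  have hz : ∀ v, L.top (Fr.ι v) = 0 := fun v => by
    refine L.top_eq_zero_of_pow (L.ι_mem v) (i := 1) he ?_
    rw [pow_one, pow_two, Fr.ι_mul_self]
  choose b hb hbv using L.top_surj
  rw [← Nat.card_prod]
  refine Nat.card_le_card_of_injective
    (fun p : K × K => (⟨b p.1 * Fr.ι p.2, mul_mem (hb _) (L.ι_mem _)⟩ : L.A)) ?_
  rintro ⟨v, u⟩ ⟨v', u'⟩ h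
  have h' : b v * Fr.ι u = b v' * Fr.ι u' := congrArg Subtype.val h
  have h1 := congrArg L.top h'
  rw [L.top_mul (hb _) (L.ι_mem _), L.top_mul (hb _) (L.ι_mem _), hz, hz, hbv, hbv, add_zero,
    add_zero] at h1
  subst h1
  rw [Fr.ι_inj (mul_left_cancel h')]

/-- `A⟨t⟩`. -/
def R : Subgroup G where
  carrier := {x | x ∈ L.A ∨ x * t ∈ L.A}
  one_mem' := Or.inl (one_mem _)
  mul_mem' := by
    rintro x y hx hy
    have key : ∀ a ∈ L.A, ∀ b ∈ L.A, a * t * b * t = a * b⁻¹ := fun a _ b hb => by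
      rw [← L.inv b hb]; group
    rcases hx with hx | hx <;> rcases hy with hy | hy
    · exact Or.inl (mul_mem hx hy)
    · exact Or.inr (by rw [mul_assoc]; exact mul_mem hx hy)
    · refine Or.inr ?_
      have e : x * y * t = (x * t) * t⁻¹ * y * t := by group
      rw [e, Fr.t_inv', key _ hx _ hy]
      exact mul_mem hx (inv_mem hy)
    · refine Or.inl ?_
      have e : x * y = (x * t) * t⁻¹ * (y * t) * t⁻¹ := by group
      rw [e, Fr.t_inv', key _ hx _ hy]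
      exact mul_mem hx (inv_mem hy)
  inv_mem' := by
    rintro x (hx | hx)
    · exact Or.inl (inv_mem hx)
    · refine Or.inr ?_
      have e : x⁻¹ * t = t * (x * t)⁻¹ * t := by group
      rw [e, L.inv _ (inv_mem hx), inv_inv]
      exact hx

theorem mem_R {x : G} : x ∈ L.R ↔ x ∈ L.A ∨ x * t ∈ L.A := Iff.rfl

theorem A_le_R : L.A ≤ L.R := fun _ hx => Or.inl hx

theorem t_mem_R : t ∈ L.R := Or.inr (by rw [Fr.t_inv]; exact one_mem _)

theorem card_R : Nat.card L.R = 2 * Nat.card L.A := by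
  classical
  have hi : (L.A.subgroupOf L.R).index = 2 := by
    rw [Subgroup.index_eq_two_iff]
    refine ⟨⟨t, L.t_mem_R⟩, fun b => ?_⟩
    simp only [Subgroup.mem_subgroupOf, Subgroup.coe_mul]
    rcases b.2 with hb | hb
    · exact Or.inr ⟨hb, fun h => L.t_not_mem (by simpa using mul_mem (inv_mem hb) h)⟩
    · refine Or.inl ⟨hb, fun h => L.t_not_mem (by simpa using mul_mem (inv_mem h) hb)⟩
  have := Subgroup.card_mul_index (L.A.subgroupOf L.R)
  rw [hi, Nat.card_congr (Subgroup.subgroupOfEquivOfLe L.A_le_R).toEquiv] at this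
  omega

theorem isPGroup_R : IsPGroup 2 L.R := by
  obtain ⟨n, hn⟩ := IsPGroup.iff_card.1 L.pgroup
  exact IsPGroup.of_card (n := n + 1) (by rw [L.card_R, hn, pow_succ'])

theorem mul_t_sq {a : G} (ha : a ∈ L.A) : a * t * (a * t) = 1 := by
  rw [show a * t * (a * t) = a * (t * a * t) by group, L.inv a ha, mul_inv_cancel]

theorem conj_t {b : G} (hb : b ∈ L.A) : b * t * b⁻¹ = b * b * t := by
  have h := L.inv b hb
  calc b * t * b⁻¹ = b * t * (t * b * t) := by rw [h]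
    _ = b * (t * t) * b * t := by group
    _ = b * b * t := by rw [Fr.t_inv, mul_one]

end Level

end Cfsg.Agent.Lib.TwoTimesPSL
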