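import Mathlib
import Cfsg.Agent.Lib.TwoTimesPSL.Level
import Cfsg.Agent.Lib.TwoTimesPSL.Basics

/-!
# An involution whose centraliser has an elementary abelian Sylow `2`-subgroup `⟨t⟩ × U`
Owner: helper80.
-/

set_option autoImplicit false
set_option linter.unusedSectionVars false

namespace Cfsg.Agent.Lib.TwoTimesPSL

variable {G : Type*} [Group G] [Finite G] {t : G} {K : Type*} [Field K] [Finite K] [CharP K 2]

/-- The facts used about `C(t)`. -/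
structure Elem (Fr : Frame t K) : Prop where
  big : 2 < Nat.card K
  card_cent : ∃ o, o % 2 = 1 ∧
    Nat.card (Subgroup.centralizer ({t} : Set G)) = 2 * Nat.card K * o
  semilin : ∀ g, t * g = g * t → (∀ v, ∃ w, g * Fr.ι v * g⁻¹ = Fr.ι w) →
    ∃ (c : K) (σ : K ≃+* K), ∀ v, g * Fr.ι v * g⁻¹ = Fr.ι (c * σ v)
  U_inv : ∀ g, t * g = g * t → ∀ v, g * Fr.ι v * g⁻¹ ∈ Fr.base.R →
    ∃ w, g * Fr.ι v * g⁻¹ = Fr.ι w

namespace Elem

variable {Fr : Frame t K} (D : Elem Fr)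

theorem mem_E {x : G} : x ∈ Fr.base.R ↔ ∃ a, x = Fr.ι a ∨ x = t * Fr.ι a := by
  constructor
  · rintro (⟨a, ha⟩ | ⟨a, ha⟩)
    · exact ⟨a, Or.inl ha.symm⟩
    · refine ⟨a, Or.inr ?_⟩
      rw [Fr.ι_comm, ha, mul_assoc, Fr.t_inv, mul_one]
  · rintro ⟨a, rfl | rfl⟩
    · exact Or.inl ⟨a, rfl⟩
    · refine Or.inr ⟨a, ?_⟩
      rw [Fr.ι_comm, mul_assoc, Fr.t_inv, mul_one]

theorem card_E : Nat.card (Fr.base.R : Subgroup G) = 2 * Nat.card K := by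
  rw [Level.card_R]
  show 2 * Nat.card Fr.U = _
  rw [Fr.card_U]

theorem E_comm {x : G} (hx : x ∈ Fr.base.R) : t * x = x * t := by
  obtain ⟨a, rfl | rfl⟩ := mem_E.1 hx
  · exact Fr.ι_comm a
  · rw [mul_assoc t (Fr.ι a) t, ← Fr.ι_comm a]

theorem E_sq {x : G} (hx : x ∈ Fr.base.R) : x * x = 1 := by
  obtain ⟨a, rfl | rfl⟩ := mem_E.1 hx
  · exact Fr.ι_mul_self a
  · calc t * Fr.ι a * (t * Fr.ι a) = t * (Fr.ι a * t) * Fr.ι a := by group
      _ = t * (t * Fr.ι a) * Fr.ι a := by rw [Fr.ι_comm]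
      _ = 1 := by rw [← mul_assoc t, Fr.t_inv, one_mul, Fr.ι_mul_self]

include D in
theorem card_dvd {Q : Subgroup G} (hQ : IsPGroup 2 Q) (hc : ∀ a ∈ Q, a * t = t * a) :
    Nat.card Q ∣ 2 * Nat.card K := by
  haveI : Fact (Nat.Prime 2) := ⟨Nat.prime_two⟩
  obtain ⟨o, ho, hC⟩ := D.card_cent
  obtain ⟨k, hk⟩ := IsPGroup.iff_card.1 hQ
  have h := Subgroup.card_dvd_of_le
    (fun a ha => Subgroup.mem_centralizer_singleton_iff.2 (hc a ha) :
      Q ≤ Subgroup.centralizer ({t} : Set G))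
  rw [hk, hC] at h
  rw [hk]
  exact (Nat.Coprime.pow_left k ((Nat.prime_two.coprime_iff_not_dvd).2 (by omega))).dvd_of_dvd_mul_right h

include D in
theorem eq_E {Q : Subgroup G} (hQ : IsPGroup 2 Q) (hE : Fr.base.R ≤ Q)
    (hc : ∀ a ∈ Q, a * t = t * a) : Q = Fr.base.R :=
  (Subgroup.eq_of_le_of_card_ge hE (by
    rw [card_E]; exact Nat.le_of_dvd (Nat.mul_pos two_pos Nat.card_pos) (D.card_dvd hQ hc))).symm

include D in
theorem exists_conj_E {Q : Subgroup G} (hQ : IsPGroup 2 Q) (hc : ∀ a ∈ Q, a * t = t * a) :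
    ∃ c, t * c = c * t ∧ ∀ a ∈ Q, c * a * c⁻¹ ∈ Fr.base.R := by
  haveI : Fact (Nat.Prime 2) := ⟨Nat.prime_two⟩
  set C := Subgroup.centralizer ({t} : Set G)
  have hQC : Q ≤ C := fun a ha => Subgroup.mem_centralizer_singleton_iff.2 (hc a ha)
  have hEC : Fr.base.R ≤ C := fun a ha => Subgroup.mem_centralizer_singleton_iff.2 (E_comm ha).symm
  obtain ⟨S, hS⟩ := (Fr.base.isPGroup_R.comap_subtype (K := C)).exists_le_sylow
  obtain ⟨T, hT⟩ := (hQ.comap_subtype (K := C)).exists_le_sylow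
  obtain ⟨c, hc'⟩ := MulAction.exists_smul_eq C T S
  have hSE : (S : Subgroup C).map C.subtype = Fr.base.R :=
    D.eq_E (S.isPGroup'.map _) (fun x hx => ⟨⟨x, hEC hx⟩, hS hx, rfl⟩) (by
      rintro _ ⟨a, -, rfl⟩
      exact Subgroup.mem_centralizer_singleton_iff.1 a.2)
  refine ⟨c, (Subgroup.mem_centralizer_singleton_iff.1 c.2).symm, fun a ha => ?_⟩
  rw [← hSE]
  refine ⟨MulAut.conj c ⟨a, hQC ha⟩, ?_, by simp⟩
  rw [← hc', Sylow.coe_subgroup_smul]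
  exact Subgroup.smul_mem_pointwise_smul _ _ _ (hT ha)

include D in
theorem sq_of_cent_t {a : G} (hc : a * t = t * a) {k : ℕ} (hk : a ^ 2 ^ k = 1) : a * a = 1 := by
  have hQ : IsPGroup 2 (Subgroup.zpowers a) := fun ⟨x, i, hi⟩ => ⟨k, Subtype.ext (by
    push_cast
    rw [← hi, ← zpow_natCast, ← zpow_mul, mul_comm, zpow_mul, zpow_natCast, hk, one_zpow])⟩
  obtain ⟨c, -, hcQ⟩ := D.exists_conj_E hQ (by
    rintro _ ⟨i, rfl⟩
    exact (Commute.zpow_left hc i).eq)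
  have h := E_sq (hcQ a (Subgroup.mem_zpowers a))
  rw [show c * a * c⁻¹ * (c * a * c⁻¹) = c * (a * a) * c⁻¹ by group] at h
  exact conj_eq_one_iff.1 h

include D in
theorem sq_of_cent {x a : G} (hx : IsConj t x) (hc : a * x = x * a) {k : ℕ}
    (hk : a ^ 2 ^ k = 1) : a * a = 1 := by
  obtain ⟨g, rfl⟩ := isConj_iff.1 hx
  have h1 : (g⁻¹ * a * g) ^ 2 ^ k = 1 := by
    rw [show g⁻¹ * a * g = MulAut.conj g⁻¹ a by simp, ← map_pow, hk, map_one]
  have h := D.sq_of_cent_t (a := g⁻¹ * a * g) (by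
    calc g⁻¹ * a * g * t = g⁻¹ * (a * (g * t * g⁻¹)) * g := by group
      _ = g⁻¹ * (g * t * g⁻¹ * a) * g := by rw [hc]
      _ = _ := by group) h1
  rw [show g⁻¹ * a * g * (g⁻¹ * a * g) = g⁻¹ * (a * a) * g⁻¹⁻¹ by group] at h
  exact conj_eq_one_iff.1 h

include D in
theorem sq_of_mem {x : G} (hx : IsConj t x) {Q : Subgroup G} (hQ : IsPGroup 2 Q) {a : G}
    (ha : a ∈ Q) (hc : a * x = x * a) : a * a = 1 := by
  obtain ⟨k, hk⟩ := hQ ⟨a, ha⟩
  exact D.sq_of_cent hx hc (k := k) (congrArg Subtype.val hk)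

include D in
theorem comm_of_cent {x : G} (hx : IsConj t x) {Q : Subgroup G} (hQ : IsPGroup 2 Q) {a b : G}
    (ha : a ∈ Q) (hb : b ∈ Q) (hac : a * x = x * a) (hbc : b * x = x * b) : a * b = b * a := by
  have h1 := D.sq_of_mem hx hQ ha hac
  have h2 := D.sq_of_mem hx hQ hb hbc
  have h3 := D.sq_of_mem hx hQ (mul_mem ha hb) (Commute.mul_left hac hbc)
  calc a * b = a⁻¹ * b⁻¹ := by rw [inv_eq_of_mul_eq_one_right h1, inv_eq_of_mul_eq_one_right h2]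
    _ = (b * a)⁻¹ := (mul_inv_rev b a).symm
    _ = b * a := by
      refine inv_eq_of_mul_eq_one_right ?_
      calc b * a * (b * a) = a⁻¹ * (a * b * (a * b)) * a := by group
        _ = 1 := by rw [h3, mul_one, inv_mul_cancel]

include D in
theorem card_dvd_conj {x : G} (hx : IsConj t x) {Q : Subgroup G} (hQ : IsPGroup 2 Q)
    (hc : ∀ a ∈ Q, a * x = x * a) : Nat.card Q ∣ 2 * Nat.card K := by
  obtain ⟨g, rfl⟩ := isConj_iff.1 hx
  rw [← Nat.card_congr (Subgroup.equivMapOfInjective Q (MulAut.conj g⁻¹).toMonoidHom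
    (MulAut.conj g⁻¹).injective).toEquiv.symm]
  refine D.card_dvd (hQ.map _) ?_
  rintro _ ⟨a, ha, rfl⟩
  show g⁻¹ * a * g⁻¹⁻¹ * t = t * (g⁻¹ * a * g⁻¹⁻¹)
  calc g⁻¹ * a * g⁻¹⁻¹ * t = g⁻¹ * (a * (g * t * g⁻¹)) * g := by group
    _ = g⁻¹ * (g * t * g⁻¹ * a) * g := by rw [hc a ha]
    _ = _ := by group

include D in
theorem card_cent_inf {x : G} (hx : IsConj t x) {P : Subgroup G} (hP : IsPGroup 2 P) :
    Nat.card ↥(P ⊓ Subgroup.centralizer ({x} : Set G)) ∣ 2 * Nat.card K :=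
  D.card_dvd_conj hx (hP.to_le inf_le_left) fun _ ha => Subgroup.mem_centralizer_singleton_iff.1 ha.2

include D in
theorem cent_t_eq_E {P : Subgroup G} (hP : IsPGroup 2 P) (hE : Fr.base.R ≤ P) :
    P ⊓ Subgroup.centralizer ({t} : Set G) = Fr.base.R :=
  D.eq_E (hP.to_le inf_le_left)
    (le_inf hE fun _ hx => Subgroup.mem_centralizer_singleton_iff.2 (E_comm hx).symm)
    fun _ ha => Subgroup.mem_centralizer_singleton_iff.1 ha.2

include D in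
theorem conj_E {x : G} (hx : IsConj t x) {Q : Subgroup G} (hQ : IsPGroup 2 Q)
    (hc : ∀ a ∈ Q, a * x = x * a) (hcard : Nat.card Q = 2 * Nat.card K) :
    ∃ h, h * t * h⁻¹ = x ∧ Fr.base.R.map (MulAut.conj h).toMonoidHom = Q := by
  obtain ⟨g, rfl⟩ := isConj_iff.1 hx
  obtain ⟨c, hct, hcE⟩ := D.exists_conj_E (Q := Q.map (MulAut.conj g⁻¹).toMonoidHom) (hQ.map _) (by
    rintro _ ⟨a, ha, rfl⟩
    show g⁻¹ * a * g⁻¹⁻¹ * t = t * (g⁻¹ * a * g⁻¹⁻¹)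
    calc g⁻¹ * a * g⁻¹⁻¹ * t = g⁻¹ * (a * (g * t * g⁻¹)) * g := by group
      _ = g⁻¹ * (g * t * g⁻¹ * a) * g := by rw [hc a ha]
      _ = _ := by group)
  refine ⟨g * c⁻¹, ?_, ?_⟩
  · rw [show g * c⁻¹ * t * (g * c⁻¹)⁻¹ = g * (c⁻¹ * (t * c)) * g⁻¹ by group, hct,
      inv_mul_cancel_left]
  · have hle : Q.map (MulAut.conj (g * c⁻¹)⁻¹).toMonoidHom ≤ Fr.base.R := by
      rintro _ ⟨a, ha, rfl⟩
      simpa [mul_assoc] using hcE _ ⟨a, ha, rfl⟩
    have heq := Subgroup.eq_of_le_of_card_ge hle (by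
      rw [card_E, Subgroup.card_map_of_injective (MulAut.conj (g * c⁻¹)⁻¹).injective, hcard])
    refine SetLike.ext fun y => ?_
    rw [← heq]
    constructor
    · rintro ⟨_, ⟨a, ha, rfl⟩, rfl⟩
      simpa [mul_assoc] using ha
    · exact fun hy => ⟨_, ⟨y, hy, rfl⟩, by simp [mul_assoc]⟩

end Elem

end Cfsg.Agent.Lib.TwoTimesPSL
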