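import Mathlib
import Cfsg.Agent.Lib.TwoTimesPSL.Level

/-!
# The translations of a level

`W` is the group of elements normalising `A`, centralising `U` and mapping `t` into `A t`.  A Sylow
`2`-subgroup `P` of `W` containing `A⟨t⟩` has `P / A⟨t⟩` isomorphic to `U` as soon as one element of
`W` moves the class of `t`, and `P` has an invariant subgroup `A'` complementing `t` modulo `A`.
Owner: helper80.
-/

set_option autoImplicit false
set_option linter.unusedSectionVars false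

namespace Cfsg.Agent.Lib.TwoTimesPSL

variable {G : Type*} [Group G] [Finite G] {t : G} {K : Type*} [Field K] [Finite K] [CharP K 2]
  {Fr : Frame t K}

theorem conj_mem_of_forall {H : Subgroup G} {g : G} (hg : ∀ x ∈ H, g * x * g⁻¹ ∈ H) {x : G}
    (hx : x ∈ H) : g⁻¹ * x * g ∈ H := by
  classical
  have hs : Function.Surjective
      (fun y : H => (⟨g * y * g⁻¹, hg y y.2⟩ : H)) := by
    refine Finite.injective_iff_surjective.1 fun a b h => Subtype.ext ?_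
    simpa using congrArg Subtype.val h
  obtain ⟨y, hy⟩ := hs ⟨x, hx⟩
  have hy' : g * (y : G) * g⁻¹ = x := congrArg Subtype.val hy
  rw [← hy', show g⁻¹ * (g * (y : G) * g⁻¹) * g = y by group]
  exact y.2

namespace Level

variable (L : Level Fr)

/-- The elements normalising `A`, centralising `U` and keeping `t` in `A t`. -/
def W : Subgroup G where
  carrier := {w | (∀ a ∈ L.A, w * a * w⁻¹ ∈ L.A) ∧ (∀ v, w * Fr.ι v = Fr.ι v * w) ∧
    w * t * w⁻¹ * t ∈ L.A}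
  one_mem' := ⟨fun a ha => by simpa using ha, fun v => by simp, by
    simp [Fr.t_inv, one_mem]⟩
  mul_mem' := by
    rintro x y ⟨hx1, hx2, hx3⟩ ⟨hy1, hy2, hy3⟩
    refine ⟨fun a ha => ?_, fun v => ?_, ?_⟩
    · rw [show x * y * a * (x * y)⁻¹ = x * (y * a * y⁻¹) * x⁻¹ by group]
      exact hx1 _ (hy1 a ha)
    · rw [mul_assoc, hy2, ← mul_assoc, hx2, mul_assoc]
    · have e : x * y * t * (x * y)⁻¹ * t =
          (x * (y * t * y⁻¹ * t) * x⁻¹) * (x * t⁻¹ * x⁻¹ * t) := by group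
      rw [e, Fr.t_inv']
      exact mul_mem (hx1 _ hy3) hx3
  inv_mem' := by
    rintro x ⟨hx1, hx2, hx3⟩
    refine ⟨fun a ha => by rw [inv_inv]; exact conj_mem_of_forall hx1 ha,
      fun v => (show Commute x (Fr.ι v) from hx2 v).inv_left.eq, ?_⟩
    have h := conj_mem_of_forall hx1 (inv_mem hx3)
    have e : x⁻¹ * (x * t * x⁻¹ * t)⁻¹ * x = x⁻¹ * t⁻¹ * x * t⁻¹ := by group
    rw [e, Fr.t_inv'] at h
    rwa [inv_inv]

theorem mem_W {w : G} : w ∈ L.W ↔ (∀ a ∈ L.A, w * a * w⁻¹ ∈ L.A) ∧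
    (∀ v, w * Fr.ι v = Fr.ι v * w) ∧ w * t * w⁻¹ * t ∈ L.A := Iff.rfl

/-- The class moved to. -/
noncomputable def d (w : G) : K := L.top (w * t * w⁻¹ * t)

theorem d_mul {x y : G} (hx : x ∈ L.W) (hy : y ∈ L.W) : L.d (x * y) = L.d x + L.d y := by
  have e : x * y * t * (x * y)⁻¹ * t = (x * (y * t * y⁻¹ * t) * x⁻¹) * (x * t * x⁻¹ * t) := by
    calc x * y * t * (x * y)⁻¹ * t
        = (x * (y * t * y⁻¹ * t) * x⁻¹) * (x * t⁻¹ * x⁻¹ * t) := by group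
      _ = _ := by rw [Fr.t_inv']
  rw [d, e, L.top_mul (hx.1 _ hy.2.2) hx.2.2, L.top_conj hy.2.2 (hx.1 _ hy.2.2) hx.2.1, add_comm]
  rfl

theorem A_le_W : L.A ≤ L.W := fun a ha =>
  ⟨fun b hb => by
      rw [L.comm a ha b hb, mul_inv_cancel_right]
      exact hb,
    fun v => L.comm a ha _ (L.ι_mem v), by
      rw [L.conj_t ha, mul_assoc, Fr.t_inv, mul_one]
      exact mul_mem ha ha⟩

theorem d_of_mem_A {a : G} (ha : a ∈ L.A) : L.d a = 0 := by
  rw [d, L.conj_t ha, mul_assoc, Fr.t_inv, mul_one, L.top_sq ha]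

theorem t_mem_W : t ∈ L.W := by
  refine ⟨fun a ha => ?_, fun v => Fr.ι_comm v, ?_⟩
  · rw [Fr.t_inv', L.inv a ha]
    exact inv_mem ha
  · rw [mul_inv_cancel_right, Fr.t_inv]
    exact one_mem _

theorem d_t : L.d t = 0 := by rw [d, mul_inv_cancel_right, Fr.t_inv, L.top_one]

theorem R_le_W : L.R ≤ L.W := by
  rintro x (hx | hx)
  · exact L.A_le_W hx
  · have := mul_mem (L.A_le_W hx) L.t_mem_W
    rwa [mul_assoc, Fr.t_inv, mul_one] at this

theorem d_of_mem_R {x : G} (hx : x ∈ L.R) : L.d x = 0 := by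
  rcases hx with hx | hx
  · exact L.d_of_mem_A hx
  · have := L.d_mul (L.A_le_W hx) L.t_mem_W
    rwa [mul_assoc, Fr.t_inv, mul_one, L.d_of_mem_A hx, L.d_t, add_zero] at this

theorem ker_d {w : G} (hw : w ∈ L.W) (h : L.d w = 0) :
    ∃ b ∈ L.A, t * (b⁻¹ * w) = b⁻¹ * w * t := by
  obtain ⟨b, hb, hbb⟩ := L.exists_sqrt hw.2.2 h
  refine ⟨b, hb, ?_⟩
  have h1 : w * t * w⁻¹ = b * t * b⁻¹ := by
    rw [L.conj_t hb, hbb, mul_assoc (w * t * w⁻¹), Fr.t_inv, mul_one]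
  calc t * (b⁻¹ * w) = b⁻¹ * (b * t * b⁻¹) * w := by group
    _ = b⁻¹ * (w * t * w⁻¹) * w := by rw [h1]
    _ = b⁻¹ * w * t := by group

/-- An element commuting with `t`, normalising `A`, acting on `U` as the scalar `c`. -/
def IsScaler (g : G) (c : K) : Prop :=
  t * g = g * t ∧ (∀ a ∈ L.A, g * a * g⁻¹ ∈ L.A) ∧ ∀ v, g * Fr.ι v * g⁻¹ = Fr.ι (c * v)

theorem IsScaler.conj_W {g : G} {c : K} (hc : c ≠ 0) (hg : L.IsScaler g c) {w : G}
    (hw : w ∈ L.W) : g * w * g⁻¹ ∈ L.W ∧ L.d (g * w * g⁻¹) = c * L.d w := by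
  obtain ⟨g1, g2, g3⟩ := hg
  have e : g * w * g⁻¹ * t * (g * w * g⁻¹)⁻¹ * t = g * (w * t * w⁻¹ * t) * g⁻¹ := by
    calc g * w * g⁻¹ * t * (g * w * g⁻¹)⁻¹ * t
        = g * w * g⁻¹ * (t * g) * w⁻¹ * g⁻¹ * t := by group
      _ = g * w * g⁻¹ * (g * t) * w⁻¹ * g⁻¹ * t := by rw [g1]
      _ = g * (w * t * w⁻¹) * (g⁻¹ * t) := by group
      _ = g * (w * t * w⁻¹) * (t * g⁻¹) := by rw [(show Commute t g from g1).inv_right.eq]
      _ = _ := by group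
  refine ⟨⟨fun a ha => ?_, fun v => ?_, by rw [e]; exact g2 _ hw.2.2⟩, ?_⟩
  · rw [show g * w * g⁻¹ * a * (g * w * g⁻¹)⁻¹ = g * (w * (g⁻¹ * a * g) * w⁻¹) * g⁻¹ by group]
    exact g2 _ (hw.1 _ (conj_mem_of_forall g2 ha))
  · have h := g3 (c⁻¹ * v)
    rw [mul_inv_cancel_left₀ hc] at h
    rw [← h, show g * w * g⁻¹ * (g * Fr.ι (c⁻¹ * v) * g⁻¹) = g * (w * Fr.ι (c⁻¹ * v)) * g⁻¹ by
      group, hw.2.1]
    group
  · rw [d, e, L.top_scale hw.2.2 (g2 _ hw.2.2) g3]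
    rfl

theorem exists_isScaler {c : K} (hc : c ≠ 0) : ∃ g, L.IsScaler g c := L.scal c hc

/-- A Sylow `2`-subgroup of `W` above `A⟨t⟩`. -/
noncomputable def sylowP : Sylow 2 L.W :=
  Classical.choose (L.isPGroup_R.comap_subtype (K := L.W)).exists_le_sylow

/-- The same as a subgroup of `G`. -/
noncomputable def P : Subgroup G := (L.sylowP : Subgroup L.W).map L.W.subtype

theorem R_le_P : L.R ≤ L.P := fun x hx =>
  ⟨⟨x, L.R_le_W hx⟩, Classical.choose_spec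
    (L.isPGroup_R.comap_subtype (K := L.W)).exists_le_sylow hx, rfl⟩

theorem P_le_W : L.P ≤ L.W := by
  rintro _ ⟨y, -, rfl⟩
  exact y.2

theorem isPGroup_P : IsPGroup 2 L.P := L.sylowP.isPGroup'.map _

theorem A_le_P : L.A ≤ L.P := L.A_le_R.trans L.R_le_P

theorem t_mem_P : t ∈ L.P := L.R_le_P L.t_mem_R

theorem P_max {Q : Subgroup G} (hQ : IsPGroup 2 Q) (hPQ : L.P ≤ Q) (hQW : Q ≤ L.W) : Q = L.P := by
  have h := L.sylowP.is_maximal' (hQ.comap_subtype (K := L.W)) fun y hy => hPQ ⟨y, hy, rfl⟩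
  refine le_antisymm (fun x hx => ?_) hPQ
  exact ⟨⟨x, hQW hx⟩, show (⟨x, hQW hx⟩ : L.W) ∈ (L.sylowP : Subgroup L.W) by rw [← h]; exact hx, rfl⟩

theorem cent_P {x : G} (hx : x ∈ L.P) (hc : t * x = x * t) :
    ∃ a, x = Fr.ι a ∨ x = t * Fr.ι a := by
  refine Fr.cent x ?_ hc (L.P_le_W hx).2.1
  obtain ⟨k, hk⟩ := L.isPGroup_P ⟨x, hx⟩
  exact ⟨k, congrArg Subtype.val hk⟩

theorem frame_mem_R {x : G} (h : ∃ a, x = Fr.ι a ∨ x = t * Fr.ι a) : x ∈ L.R := by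
  obtain ⟨a, rfl | rfl⟩ := h
  · exact L.A_le_R (L.ι_mem a)
  · exact mul_mem L.t_mem_R (L.A_le_R (L.ι_mem a))

theorem P_ker {x : G} (hx : x ∈ L.P) (h : L.d x = 0) : x ∈ L.R := by
  obtain ⟨b, hb, hc⟩ := L.ker_d (L.P_le_W hx) h
  have h1 : b⁻¹ * x ∈ L.R :=
    L.frame_mem_R (L.cent_P (mul_mem (inv_mem (L.A_le_P hb)) hx) hc)
  simpa using mul_mem (L.A_le_R hb) h1

theorem sq_mem {p : G} (hp : p ∈ L.P) : p * p ∈ L.A := by
  have hd : L.d (p * p) = 0 := by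
    rw [L.d_mul (L.P_le_W hp) (L.P_le_W hp), CharTwo.add_self_eq_zero]
  rcases L.P_ker (mul_mem hp hp) hd with h | h
  · exact h
  set a := p * p * t with ha
  have e : p * (a * t) * p⁻¹ = a * t := by
    rw [ha, mul_assoc (p * p), Fr.t_inv, mul_one]
    group
  have h1 : p * a * p⁻¹ * (p * t * p⁻¹ * t) = a := by
    calc p * a * p⁻¹ * (p * t * p⁻¹ * t) = p * (a * t) * p⁻¹ * t := by group
      _ = a := by rw [e, mul_assoc, Fr.t_inv, mul_one]
  have hpW := L.P_le_W hp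
  have h2 := congrArg L.top h1
  rw [L.top_mul (hpW.1 a h) hpW.2.2, L.top_conj h (hpW.1 a h) hpW.2.1, add_eq_left] at h2
  have h3 := L.P_ker hp h2
  rcases h3 with h3 | h3
  · exact mul_mem h3 h3
  · have := L.mul_t_sq h3
    rw [mul_assoc p t t, Fr.t_inv, mul_one] at this
    rw [this]
    exact one_mem _

theorem comm_mem {x y : G} (hx : x ∈ L.P) (hy : y ∈ L.P) : x * y * x⁻¹ * y⁻¹ ∈ L.A := by
  have h1 := L.sq_mem (mul_mem hx hy)
  have h2 := conj_mem_of_forall (L.P_le_W hy).1 (L.sq_mem (inv_mem hx))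
  have h3 := L.sq_mem (inv_mem hy)
  have e : x * y * x⁻¹ * y⁻¹ = x * y * (x * y) * (y⁻¹ * (x⁻¹ * x⁻¹) * y) * (y⁻¹ * y⁻¹) := by
    group
  rw [e]
  exact mul_mem (mul_mem h1 h2) h3

variable (hmove : ∃ w ∈ L.W, L.d w ≠ 0)
include hmove

theorem P_d_surj (v : K) : ∃ p ∈ L.P, L.d p = v := by
  classical
  have hd1 : L.d 1 = 0 := L.d_of_mem_A (one_mem _)
  let D : L.W →* Multiplicative K :=
    { toFun := fun w => Multiplicative.ofAdd (L.d (w : G))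
      map_one' := by simp [hd1]
      map_mul' := fun x y => by simp [L.d_mul x.2 y.2, ofAdd_add] }
  have hsurj : Function.Surjective D := by
    intro u
    obtain ⟨w, hw, hne⟩ := hmove
    by_cases hu : Multiplicative.toAdd u = 0
    · refine ⟨1, ?_⟩
      rw [map_one]
      exact (toAdd_eq_zero.1 hu).symm
    · have hc : Multiplicative.toAdd u * (L.d w)⁻¹ ≠ 0 := mul_ne_zero hu (inv_ne_zero hne)
      obtain ⟨g, hg⟩ := L.exists_isScaler hc
      obtain ⟨h1, h2⟩ := hg.conj_W L hc hw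
      exact ⟨⟨_, h1⟩, by
        show Multiplicative.ofAdd (L.d _) = u
        rw [h2, mul_assoc, inv_mul_cancel₀ hne, mul_one, ofAdd_toAdd]⟩
  have hdvd := Subgroup.index_map_dvd (f := D) (L.sylowP : Subgroup L.W) hsurj
  have hdvd2 := ((L.sylowP : Subgroup L.W).map D).index_dvd_card
  haveI : Fact (Nat.Prime 2) := ⟨Nat.prime_two⟩
  haveI := Fintype.ofFinite K
  obtain ⟨n, -, hn⟩ := FiniteField.card K 2
  rw [Nat.card_congr (Multiplicative.toAdd (α := K)), Nat.card_eq_fintype_card, hn] at hdvd2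
  have hcop : Nat.Coprime (L.sylowP : Subgroup L.W).index (2 ^ (n : ℕ)) :=
    Nat.Coprime.pow_right _ ((Nat.prime_two.coprime_iff_not_dvd.2
      (Sylow.not_dvd_index L.sylowP)).symm)
  have htop := Subgroup.index_eq_one.1 (Nat.eq_one_of_dvd_coprimes hcop hdvd hdvd2)
  have hm : Multiplicative.ofAdd v ∈ (L.sylowP : Subgroup L.W).map D := htop ▸ Subgroup.mem_top _
  obtain ⟨y, hy, hyv⟩ := hm
  exact ⟨y, ⟨y, hy, rfl⟩, Multiplicative.ofAdd.injective hyv⟩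

/-- Scalers can be chosen to normalise `P`. -/
theorem exists_scaler {c : K} (hc : c ≠ 0) :
    ∃ g, L.IsScaler g c ∧ ∀ x ∈ L.P, g * x * g⁻¹ ∈ L.P := by
  classical
  obtain ⟨g0, hg0⟩ := L.exists_isScaler hc
  set Q : Subgroup G := L.P.map (MulAut.conj g0).toMonoidHom
  have hQW : Q ≤ L.W := by
    rintro _ ⟨x, hx, rfl⟩
    exact (hg0.conj_W L hc (L.P_le_W hx)).1
  have hQp : IsPGroup 2 Q := L.isPGroup_P.map _
  obtain ⟨T, hT⟩ := (hQp.comap_subtype (K := L.W)).exists_le_sylow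
  obtain ⟨w, hw⟩ := MulAction.exists_smul_eq L.W T L.sylowP
  have hconj : ∀ x ∈ Q, (w : G) * x * (w : G)⁻¹ ∈ L.P := by
    intro x hx
    have h1 : (⟨x, hQW hx⟩ : L.W) ∈ (T : Subgroup L.W) := hT hx
    refine ⟨MulAut.conj w ⟨x, hQW hx⟩, ?_, by simp⟩
    rw [← hw, Sylow.coe_subgroup_smul]
    exact Subgroup.smul_mem_pointwise_smul _ _ _ h1
  have hw2 : (w : G) * t * (w : G)⁻¹ * t ∈ L.A := w.2.2.2
  obtain ⟨p, hp, hpd⟩ := L.P_d_surj hmove (L.d (w : G))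
  have hd : L.d (p * (w : G)) = 0 := by
    rw [L.d_mul (L.P_le_W hp) w.2, hpd, CharTwo.add_self_eq_zero]
  obtain ⟨b, hb, hbc⟩ := L.ker_d (mul_mem (L.P_le_W hp) w.2) hd
  set u := b⁻¹ * (p * (w : G))
  have huW : u ∈ L.W := mul_mem (inv_mem (L.A_le_W hb)) (mul_mem (L.P_le_W hp) w.2)
  refine ⟨u * g0, ⟨?_, fun a ha => ?_, fun v => ?_⟩, fun x hx => ?_⟩
  · rw [← mul_assoc, hbc, mul_assoc u t g0, hg0.1, ← mul_assoc]
  · rw [show u * g0 * a * (u * g0)⁻¹ = u * (g0 * a * g0⁻¹) * u⁻¹ by group]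
    exact huW.1 _ (hg0.2.1 a ha)
  · rw [show u * g0 * Fr.ι v * (u * g0)⁻¹ = u * (g0 * Fr.ι v * g0⁻¹) * u⁻¹ by group, hg0.2.2 v,
      huW.2.1, mul_inv_cancel_right]
  · rw [show u * g0 * x * (u * g0)⁻¹ =
      b⁻¹ * (p * ((w : G) * (g0 * x * g0⁻¹) * (w : G)⁻¹) * p⁻¹) * b by simp only [u]; group]
    exact mul_mem (mul_mem (inv_mem (L.A_le_P hb))
      (mul_mem (mul_mem hp (hconj _ ⟨x, hx, rfl⟩)) (inv_mem hp))) (L.A_le_P hb)

end Level

end Cfsg.Agent.Lib.TwoTimesPSL
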