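import Mathlib
import Cfsg.Agent.Lib.TwoTimesPSL.Trans
import Cfsg.Agent.Lib.TwoTimesPSL.Data

/-!
# The affine action of the normaliser of a level
Owner: helper80.
-/

set_option autoImplicit false
set_option linter.unusedSectionVars false

namespace Cfsg.Agent.Lib.TwoTimesPSL

variable {G : Type*} [Group G] [Finite G] {t : G} {K : Type*} [Field K] [Finite K] [CharP K 2]
  {Fr : Frame t K}

namespace Level

variable (L : Level Fr)

/-- The elements normalising `A` and `A t`. -/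
def N : Subgroup G where
  carrier := {g | (∀ a ∈ L.A, g * a * g⁻¹ ∈ L.A) ∧ g * t * g⁻¹ * t ∈ L.A}
  one_mem' := ⟨fun a ha => by simpa using ha, by simp [Fr.t_inv, one_mem]⟩
  mul_mem' := by
    rintro x y ⟨hx1, hx2⟩ ⟨hy1, hy2⟩
    refine ⟨fun a ha => ?_, ?_⟩
    · rw [show x * y * a * (x * y)⁻¹ = x * (y * a * y⁻¹) * x⁻¹ by group]
      exact hx1 _ (hy1 a ha)
    · have e : x * y * t * (x * y)⁻¹ * t =
          (x * (y * t * y⁻¹ * t) * x⁻¹) * (x * t⁻¹ * x⁻¹ * t) := by group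
      rw [e, Fr.t_inv']
      exact mul_mem (hx1 _ hy2) hx2
  inv_mem' := by
    rintro x ⟨hx1, hx2⟩
    refine ⟨fun a ha => by rw [inv_inv]; exact conj_mem_of_forall hx1 ha, ?_⟩
    have h := conj_mem_of_forall hx1 (inv_mem hx2)
    have e : x⁻¹ * (x * t * x⁻¹ * t)⁻¹ * x = x⁻¹ * t⁻¹ * x * t⁻¹ := by group
    rw [e, Fr.t_inv'] at h
    rwa [inv_inv]

theorem mem_N {g : G} : g ∈ L.N ↔
    (∀ a ∈ L.A, g * a * g⁻¹ ∈ L.A) ∧ g * t * g⁻¹ * t ∈ L.A := Iff.rfl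

theorem W_le_N : L.W ≤ L.N := fun _ hg => ⟨hg.1, hg.2.2⟩

theorem R_le_N : L.R ≤ L.N := L.R_le_W.trans L.W_le_N

theorem scaler_mem_N {g : G} {c : K} (hg : L.IsScaler g c) : g ∈ L.N :=
  ⟨hg.2.1, by rw [← hg.1, mul_inv_cancel_right, Fr.t_inv]; exact one_mem _⟩

theorem conj_mem_R {g : G} (hg : g ∈ L.N) {x : G} (hx : x ∈ L.R) : g * x * g⁻¹ ∈ L.R := by
  rcases hx with hx | hx
  · exact Or.inl (hg.1 x hx)
  · refine Or.inr ?_
    have e : g * x * g⁻¹ * t = g * (x * t) * g⁻¹ * (g * t⁻¹ * g⁻¹ * t) := by group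
    rw [e, Fr.t_inv']
    exact mul_mem (hg.1 _ hx) hg.2

theorem mem_A_iff_mul {x : G} (hx : x ∈ L.R) : x ∉ L.A → x * t ∈ L.A := fun h => hx.resolve_left h

variable (hconj : ∀ x ∈ L.R, x ∉ L.A → IsConj t x) (hnc : ∀ a ∈ L.A, ¬ IsConj t a)

include hconj hnc in
/-- A normaliser of `A⟨t⟩` normalises `A`. -/
theorem mem_N_of_normalizes {g : G} (hg : ∀ x ∈ L.R, g * x * g⁻¹ ∈ L.R) : g ∈ L.N := by
  have hA : ∀ a ∈ L.A, g * a * g⁻¹ ∈ L.A := by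
    intro a ha
    by_contra h
    have h1 := hconj _ (hg a (L.A_le_R ha)) h
    exact hnc a ha (h1.trans (isConj_iff.2 ⟨g⁻¹, by group⟩))
  refine ⟨hA, ?_⟩
  rcases hg t L.t_mem_R with h | h
  · exact absurd (isConj_iff.2 ⟨g, rfl⟩) (hnc _ h)
  · exact h

theorem exists_ρ {g : G} (hg : g ∈ L.N) (v : K) : ∃ w, g * Fr.ι v * g⁻¹ = Fr.ι w :=
  L.sq_eq_one (hg.1 _ (L.ι_mem v)) (by
    rw [show g * Fr.ι v * g⁻¹ * (g * Fr.ι v * g⁻¹) = g * (Fr.ι v * Fr.ι v) * g⁻¹ by group,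
      Fr.ι_mul_self, mul_one, mul_inv_cancel])

/-- The linear part. -/
noncomputable def ρ (_L : Level Fr) (g : G) (v : K) : K := Function.invFun Fr.ι (g * Fr.ι v * g⁻¹)

theorem ι_ρ {g : G} (hg : g ∈ L.N) (v : K) : Fr.ι (L.ρ g v) = g * Fr.ι v * g⁻¹ := by
  obtain ⟨w, hw⟩ := L.exists_ρ hg v
  exact Function.invFun_eq ⟨w, hw.symm⟩

theorem ρ_add {g : G} (hg : g ∈ L.N) (v w : K) : L.ρ g (v + w) = L.ρ g v + L.ρ g w := by
  refine Fr.ι_inj ?_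
  rw [Fr.ι_add, L.ι_ρ hg, L.ι_ρ hg, L.ι_ρ hg, Fr.ι_add]
  group

theorem ρ_zero {g : G} (hg : g ∈ L.N) : L.ρ g 0 = 0 := by
  refine Fr.ι_inj ?_
  rw [L.ι_ρ hg, Fr.ι_zero, mul_one, mul_inv_cancel]

theorem ρ_mul {g h : G} (hg : g ∈ L.N) (hh : h ∈ L.N) (v : K) :
    L.ρ (g * h) v = L.ρ g (L.ρ h v) := by
  refine Fr.ι_inj ?_
  rw [L.ι_ρ (mul_mem hg hh), L.ι_ρ hg, L.ι_ρ hh]
  group

theorem ρ_injective {g : G} (hg : g ∈ L.N) : Function.Injective (L.ρ g) := fun v w h => by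
  have h' := congrArg Fr.ι h
  rw [L.ι_ρ hg, L.ι_ρ hg] at h'
  exact Fr.ι_inj (mul_left_cancel (mul_right_cancel h'))

theorem ρ_of_comm {g : G} (hg : g ∈ L.N) {v : K} (h : g * Fr.ι v = Fr.ι v * g) :
    L.ρ g v = v := by
  refine Fr.ι_inj ?_
  rw [L.ι_ρ hg, h, mul_inv_cancel_right]

theorem comm_of_ρ {g : G} (hg : g ∈ L.N) {v : K} (h : L.ρ g v = v) :
    g * Fr.ι v = Fr.ι v * g := by
  have h' := L.ι_ρ hg v
  rw [h] at h'
  exact mul_inv_eq_iff_eq_mul.1 h'.symm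

theorem top_ρ {g a : G} (hg : g ∈ L.N) (ha : a ∈ L.A) :
    L.top (g * a * g⁻¹) = L.ρ g (L.top a) := by
  refine Fr.ι_inj ?_
  rw [L.ι_top (hg.1 a ha), conj_pow', L.ι_ρ hg, L.ι_top ha]

theorem d_mul_N {x y : G} (hx : x ∈ L.N) (hy : y ∈ L.N) :
    L.d (x * y) = L.ρ x (L.d y) + L.d x := by
  have e : x * y * t * (x * y)⁻¹ * t = (x * (y * t * y⁻¹ * t) * x⁻¹) * (x * t * x⁻¹ * t) := by
    calc x * y * t * (x * y)⁻¹ * t
        = (x * (y * t * y⁻¹ * t) * x⁻¹) * (x * t⁻¹ * x⁻¹ * t) := by group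
      _ = _ := by rw [Fr.t_inv']
  rw [d, e, L.top_mul (hx.1 _ hy.2) hx.2, L.top_ρ hx hy.2]
  rfl

theorem ker_d_N {g : G} (hg : g ∈ L.N) (h : L.d g = 0) :
    ∃ b ∈ L.A, t * (b⁻¹ * g) = b⁻¹ * g * t := by
  obtain ⟨b, hb, hbb⟩ := L.exists_sqrt hg.2 h
  refine ⟨b, hb, ?_⟩
  have h1 : g * t * g⁻¹ = b * t * b⁻¹ := by
    rw [L.conj_t hb, hbb, mul_assoc (g * t * g⁻¹), Fr.t_inv, mul_one]
  calc t * (b⁻¹ * g) = b⁻¹ * (b * t * b⁻¹) * g := by group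
    _ = b⁻¹ * (g * t * g⁻¹) * g := by rw [h1]
    _ = b⁻¹ * g * t := by group

/-- The affine action of the normaliser. -/
noncomputable def affAct : MulAction L.N K where
  smul g v := L.ρ g v + L.d g
  one_smul v := by
    show L.ρ (1 : G) v + L.d 1 = v
    rw [L.ρ_of_comm (one_mem _) (by simp), L.d_of_mem_A (one_mem _), add_zero]
  mul_smul g h v := by
    show L.ρ ((g : G) * h) v + L.d ((g : G) * h) = L.ρ g (L.ρ h v + L.d h) + L.d g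
    rw [L.ρ_mul g.2 h.2, L.d_mul_N g.2 h.2, L.ρ_add g.2, add_assoc]

/-- The permutation representation. -/
noncomputable def Φ : L.N →* Equiv.Perm K := @MulAction.toPermHom L.N K _ L.affAct

theorem Φ_apply (g : L.N) (v : K) : L.Φ g v = L.ρ g v + L.d g := rfl

theorem Φ_zero (g : L.N) : L.Φ g 0 = L.d g := by rw [L.Φ_apply, L.ρ_zero g.2, zero_add]

/-- When the translations are trivial, the action is linearly faithful. -/
theorem Φ_eq_one (hfaith : ∀ g ∈ L.N, (∀ v, L.ρ g v = v) → L.d g = 0) (g : L.N)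
    (h : ∀ v, L.ρ g v = v) : L.Φ g = 1 :=
  Equiv.ext fun v => by
    rw [L.Φ_apply, h, hfaith g g.2 h, add_zero, Equiv.Perm.one_apply]

end Level

end Cfsg.Agent.Lib.TwoTimesPSL
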