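import Mathlib
import Cfsg.Agent.Lib.TwoTimesPSL.Basics

/-!
# The group `⟨t⟩ × D` with `D` dihedral of order at least eight
Owner: helper80.
-/

set_option autoImplicit false
set_option linter.unusedSectionVars false

namespace Cfsg.Agent.Lib.TwoTimesPSL

variable {G : Type*} [Group G] [Finite G] {t : G}

/-- A Sylow `2`-subgroup `⟨t⟩ × D` of `C(t)` with the fusion of its involutions. -/
structure Dih (t : G) where
  S0 : Subgroup G
  r : G
  s : G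
  h : ℕ
  h_pos : 0 < h
  ord : orderOf r = 4 * h
  t_inv : t * t = 1
  s_sq : s * s = 1
  s_inv : s * r * s⁻¹ = r⁻¹
  s_not : s ∉ Subgroup.zpowers r
  tr : t * r = r * t
  ts : t * s = s * t
  t_not : ∀ i : ℤ, t ≠ r ^ i ∧ t ≠ r ^ i * s
  mem_S0 : ∀ x, x ∈ S0 ↔ ∃ i : ℤ, x = r ^ i ∨ x = r ^ i * s ∨ x = t * r ^ i ∨ x = t * (r ^ i * s)
  pgroup : IsPGroup 2 S0
  card_cent : ∃ o, o % 2 = 1 ∧
    Nat.card (Subgroup.centralizer ({t} : Set G)) = Nat.card S0 * o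
  fuse : ∀ i : ℤ, ∃ c, t * c = c * t ∧ c * r ^ (2 * (h : ℤ)) * c⁻¹ = r ^ i * s
  cycle : ∃ g, t * g = g * t ∧ g * r ^ (2 * (h : ℤ)) * g⁻¹ = s ∧
    g * s * g⁻¹ = r ^ (2 * (h : ℤ)) * s

namespace Dih

variable (d : Dih t)

/-- The central involution of `D`. -/
def z : G := d.r ^ (2 * (d.h : ℤ))

theorem s_inv_self : d.s⁻¹ = d.s := inv_eq_of_mul_eq_one_right d.s_sq

theorem t_inv_self (d : Dih t) : t⁻¹ = t := inv_eq_of_mul_eq_one_right d.t_inv

theorem s_mul_pow (i : ℤ) : d.s * d.r ^ i = d.r ^ (-i) * d.s := by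
  have h := conj_zpow (a := d.s) (b := d.r) (i := i)
  rw [d.s_inv, inv_zpow'] at h
  rw [h, inv_mul_cancel_right]

theorem t_comm_pow (i : ℤ) : t * d.r ^ i = d.r ^ i * t := (Commute.zpow_right d.tr i).eq

theorem t_comm_ref (i : ℤ) : t * (d.r ^ i * d.s) = d.r ^ i * d.s * t := by
  rw [← mul_assoc, d.t_comm_pow, mul_assoc, d.ts, ← mul_assoc]

theorem ref_mul_ref (i j : ℤ) : d.r ^ i * d.s * (d.r ^ j * d.s) = d.r ^ (i - j) := by
  rw [mul_assoc, ← mul_assoc d.s, d.s_mul_pow, mul_assoc, d.s_sq, mul_one, ← zpow_add, sub_eq_add_neg]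

theorem ref_sq (i : ℤ) : d.r ^ i * d.s * (d.r ^ i * d.s) = 1 := by
  rw [d.ref_mul_ref, sub_self, zpow_zero]

theorem pow_eq_one_iff {i : ℤ} : d.r ^ i = 1 ↔ (4 * (d.h : ℤ)) ∣ i := by
  rw [← orderOf_dvd_iff_zpow_eq_one, d.ord]
  push_cast
  rfl

theorem pow_two_eq_one {i : ℤ} (h : d.r ^ (2 * i) = 1) : d.r ^ i = 1 ∨ d.r ^ i = d.z := by
  obtain ⟨c, hc⟩ := d.pow_eq_one_iff.1 h
  rcases Int.even_or_odd' c with ⟨e, he | he⟩
  · refine Or.inl (d.pow_eq_one_iff.2 ⟨e, ?_⟩)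
    rw [he] at hc
    linarith
  · refine Or.inr ?_
    have hi : i = 2 * (d.h : ℤ) + 4 * d.h * e := by rw [he] at hc; linarith
    rw [hi, zpow_add, d.pow_eq_one_iff.2 (dvd_mul_right _ _), mul_one, z]

theorem ref_ne_pow (i j : ℤ) : d.r ^ i * d.s ≠ d.r ^ j := fun h =>
  d.s_not ⟨-i + j, by
    show d.r ^ (-i + j) = d.s
    rw [zpow_add, ← h, ← mul_assoc, ← zpow_add, neg_add_cancel, zpow_zero, one_mul]⟩

theorem t_mul_pow_ne (i j : ℤ) : t * d.r ^ i ≠ d.r ^ j := fun h =>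
  (d.t_not (j - i)).1 (by rw [zpow_sub, ← h, mul_inv_cancel_right])

theorem t_mul_pow_ne_ref (i j : ℤ) : t * d.r ^ i ≠ d.r ^ j * d.s := fun h =>
  (d.t_not (j + i)).2 (by
    calc t = t * d.r ^ i * d.r ^ (-i) := by rw [mul_assoc, ← zpow_add, add_neg_cancel, zpow_zero, mul_one]
      _ = d.r ^ j * (d.s * d.r ^ (-i)) := by rw [h, mul_assoc]
      _ = _ := by rw [d.s_mul_pow, neg_neg, ← mul_assoc, ← zpow_add])

theorem z_ne_one : d.z ≠ 1 := fun h => by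
  obtain ⟨c, hc⟩ := d.pow_eq_one_iff.1 h
  have hp : (0 : ℤ) < d.h := by exact_mod_cast d.h_pos
  rcases le_or_gt c 0 with h0 | h0
  · nlinarith
  · nlinarith

theorem z_sq : d.z * d.z = 1 := by
  rw [z, ← zpow_add]
  exact d.pow_eq_one_iff.2 ⟨1, by ring⟩

theorem z_inv_self : d.z⁻¹ = d.z := inv_eq_of_mul_eq_one_right d.z_sq

theorem t_comm_z : t * d.z = d.z * t := d.t_comm_pow _

theorem z_comm_s : d.z * d.s = d.s * d.z := by
  have h := d.s_mul_pow (2 * (d.h : ℤ))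
  rw [zpow_neg, ← z, d.z_inv_self] at h
  exact h.symm

theorem t_mem : t ∈ d.S0 := (d.mem_S0 t).2 ⟨0, Or.inr (Or.inr (Or.inl (by simp)))⟩

theorem pow_mem (i : ℤ) : d.r ^ i ∈ d.S0 := (d.mem_S0 _).2 ⟨i, Or.inl rfl⟩

theorem ref_mem (i : ℤ) : d.r ^ i * d.s ∈ d.S0 := (d.mem_S0 _).2 ⟨i, Or.inr (Or.inl rfl)⟩

theorem s_mem : d.s ∈ d.S0 := by simpa using d.ref_mem 0

theorem z_mem : d.z ∈ d.S0 := d.pow_mem _

theorem comm_t {x : G} (hx : x ∈ d.S0) : t * x = x * t := by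
  obtain ⟨i, rfl | rfl | rfl | rfl⟩ := (d.mem_S0 x).1 hx
  · exact d.t_comm_pow i
  · exact d.t_comm_ref i
  · rw [mul_assoc t (d.r ^ i) t, ← d.t_comm_pow]
  · rw [mul_assoc t (d.r ^ i * d.s) t, ← d.t_comm_ref]

theorem t_ne_one (d : Dih t) : t ≠ 1 := fun h => (d.t_not 0).1 (by rw [zpow_zero]; exact h)

theorem t_ne_z : t ≠ d.z := (d.t_not _).1

theorem tz_ne_t : t * d.z ≠ t := fun h => d.z_ne_one (mul_eq_left.1 h)

/-- The involutions of `S₀`. -/
theorem sq_one_cases {x : G} (hx : x ∈ d.S0) (h : x * x = 1) :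
    x = 1 ∨ x = t ∨ x = d.z ∨ x = t * d.z ∨
      ∃ i : ℤ, x = d.r ^ i * d.s ∨ x = t * (d.r ^ i * d.s) := by
  obtain ⟨i, rfl | rfl | rfl | rfl⟩ := (d.mem_S0 x).1 hx
  · rw [← zpow_add, ← two_mul] at h
    rcases d.pow_two_eq_one h with e | e
    · exact Or.inl e
    · exact Or.inr (Or.inr (Or.inl e))
  · exact Or.inr (Or.inr (Or.inr (Or.inr ⟨i, Or.inl rfl⟩)))
  · rw [show t * d.r ^ i * (t * d.r ^ i) = t * (d.r ^ i * t) * d.r ^ i by group, ← d.t_comm_pow,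
      ← mul_assoc, d.t_inv, one_mul, ← zpow_add, ← two_mul] at h
    rcases d.pow_two_eq_one h with e | e
    · exact Or.inr (Or.inl (by rw [e, mul_one]))
    · exact Or.inr (Or.inr (Or.inr (Or.inl (by rw [e]))))
  · exact Or.inr (Or.inr (Or.inr (Or.inr ⟨i, Or.inr rfl⟩)))

theorem sq_eq_z {x : G} (hx : x ∈ d.S0) (h : x * x * (x * x) = 1) (h1 : x * x ≠ 1) :
    x * x = d.z := by
  have key : ∀ i : ℤ, d.r ^ i * d.r ^ i * (d.r ^ i * d.r ^ i) = 1 → d.r ^ i * d.r ^ i ≠ 1 →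
      d.r ^ i * d.r ^ i = d.z := fun i h h1 => by
    rw [← zpow_add] at h h1 ⊢
    rw [← zpow_add, ← two_mul] at h
    exact (d.pow_two_eq_one h).resolve_left h1
  obtain ⟨i, rfl | rfl | rfl | rfl⟩ := (d.mem_S0 x).1 hx
  · exact key i h h1
  · exact absurd (d.ref_sq i) h1
  · have e : t * d.r ^ i * (t * d.r ^ i) = d.r ^ i * d.r ^ i := by
      rw [show t * d.r ^ i * (t * d.r ^ i) = t * (d.r ^ i * t) * d.r ^ i by group, ← d.t_comm_pow,
        ← mul_assoc, d.t_inv, one_mul]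
    rw [e] at h h1 ⊢
    exact key i h h1
  · refine absurd ?_ h1
    rw [show t * (d.r ^ i * d.s) * (t * (d.r ^ i * d.s)) =
        t * ((d.r ^ i * d.s) * t) * (d.r ^ i * d.s) by group, ← d.t_comm_ref, ← mul_assoc t t,
      d.t_inv, one_mul, d.ref_sq]

/-- The centre of `S₀`. -/
theorem center_cases {x : G} (hx : x ∈ d.S0) (hc : ∀ y ∈ d.S0, x * y = y * x) :
    x = 1 ∨ x = t ∨ x = d.z ∨ x = t * d.z := by
  have hr : d.r ∈ d.S0 := by simpa using d.pow_mem 1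
  have nref : ∀ i : ℤ, ¬ (d.r ^ i * d.s * d.r = d.r * (d.r ^ i * d.s)) := fun i h => by
    have h1 : d.r ^ (i - 1) * d.s = d.r ^ (i + 1) * d.s := by
      calc d.r ^ (i - 1) * d.s = d.r ^ i * (d.r ^ (-1 : ℤ) * d.s) := by
            rw [sub_eq_add_neg, zpow_add, mul_assoc]
        _ = d.r ^ i * d.s * d.r := by rw [← d.s_mul_pow, zpow_one, mul_assoc]
        _ = d.r * (d.r ^ i * d.s) := h
        _ = _ := by rw [← mul_assoc, ← zpow_one_add, add_comm]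
    have h2 : d.r ^ (2 : ℤ) = 1 := by
      rw [show (2 : ℤ) = (i + 1) - (i - 1) by ring, zpow_sub, ← mul_right_cancel h1, mul_inv_cancel]
    obtain ⟨c, hc⟩ := d.pow_eq_one_iff.1 h2
    have hp : (0 : ℤ) < d.h := by exact_mod_cast d.h_pos
    rcases le_or_gt c 0 with h0 | h0
    · nlinarith
    · nlinarith
  have npow : ∀ i : ℤ, d.r ^ i * d.s = d.s * d.r ^ i → d.r ^ i = 1 ∨ d.r ^ i = d.z := fun i h => by
    rw [d.s_mul_pow] at h
    refine d.pow_two_eq_one ?_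
    rw [two_mul, zpow_add, mul_eq_one_iff_eq_inv, ← zpow_neg]
    exact mul_right_cancel h
  obtain ⟨i, rfl | rfl | rfl | rfl⟩ := (d.mem_S0 x).1 hx
  · rcases npow i (hc _ d.s_mem) with e | e
    · exact Or.inl e
    · exact Or.inr (Or.inr (Or.inl e))
  · exact absurd (hc _ hr) (nref i)
  · have h := hc _ d.s_mem
    rw [mul_assoc, ← mul_assoc d.s, ← d.ts, mul_assoc] at h
    rcases npow i (mul_left_cancel h) with e | e
    · exact Or.inr (Or.inl (by rw [e, mul_one]))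
    · exact Or.inr (Or.inr (Or.inr (by rw [e])))
  · have h := hc _ hr
    rw [mul_assoc, ← mul_assoc d.r, ← d.tr, mul_assoc t d.r] at h
    exact absurd (mul_left_cancel h) (nref i)

/-- The subgroup `D`. -/
def T : Subgroup G where
  carrier := {x | ∃ i : ℤ, x = d.r ^ i ∨ x = d.r ^ i * d.s}
  one_mem' := ⟨0, Or.inl (zpow_zero _).symm⟩
  mul_mem' := by
    rintro a b ⟨i, rfl | rfl⟩ ⟨j, rfl | rfl⟩
    · exact ⟨i + j, Or.inl (zpow_add _ _ _).symm⟩
    · exact ⟨i + j, Or.inr (by rw [zpow_add, mul_assoc])⟩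
    · exact ⟨i - j, Or.inr (by rw [mul_assoc, d.s_mul_pow, ← mul_assoc, ← zpow_add, sub_eq_add_neg])⟩
    · exact ⟨i - j, Or.inl (d.ref_mul_ref i j)⟩
  inv_mem' := by
    rintro a ⟨i, rfl | rfl⟩
    · exact ⟨-i, Or.inl (zpow_neg _ _).symm⟩
    · exact ⟨i, Or.inr (inv_eq_of_mul_eq_one_right (d.ref_sq i))⟩

theorem T_le : d.T ≤ d.S0 := by
  rintro x ⟨i, rfl | rfl⟩
  · exact d.pow_mem i
  · exact d.ref_mem i

theorem t_not_T : t ∉ d.T := fun ⟨i, h⟩ => h.elim (d.t_not i).1 (d.t_not i).2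

theorem cover {x : G} (hx : x ∈ d.S0) : x ∈ d.T ∨ x * t ∈ d.T := by
  obtain ⟨i, rfl | rfl | rfl | rfl⟩ := (d.mem_S0 x).1 hx
  · exact Or.inl ⟨i, Or.inl rfl⟩
  · exact Or.inl ⟨i, Or.inr rfl⟩
  · refine Or.inr ⟨i, Or.inl ?_⟩
    rw [d.t_comm_pow, mul_assoc, d.t_inv, mul_one]
  · refine Or.inr ⟨i, Or.inr ?_⟩
    rw [d.t_comm_ref, mul_assoc, d.t_inv, mul_one]

theorem card_S0 : Nat.card d.S0 = 2 * Nat.card d.T :=
  Basics.card_of_cover d.t_inv d.T_le d.t_mem d.t_not_T fun _ hx => d.cover hx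

theorem T_normal {x : G} (hx : x ∈ d.S0) {y : G} (hy : y ∈ d.T) : x * y * x⁻¹ ∈ d.T := by
  rcases d.cover hx with h | h
  · exact mul_mem (mul_mem h hy) (inv_mem h)
  · have e : x * y * x⁻¹ = x * t * (t⁻¹ * y * t) * (x * t)⁻¹ := by group
    rw [e, mul_assoc (t⁻¹), ← d.comm_t (d.T_le hy), inv_mul_cancel_left]
    exact mul_mem (mul_mem h hy) (inv_mem h)

open Classical in
/-- The elements commuting with a reflection. -/
noncomputable def refSet (i : ℤ) : Finset G :=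
  {1, t, d.z, t * d.z, d.r ^ i * d.s, t * (d.r ^ i * d.s), d.z * (d.r ^ i * d.s),
    t * (d.z * (d.r ^ i * d.s))}

theorem card_refSet (i : ℤ) : (d.refSet i).card ≤ 8 := by
  classical
  unfold refSet
  repeat refine (Finset.card_insert_le _ _).trans (Nat.succ_le_succ ?_)
  simp

theorem ref_cent {i : ℤ} {x : G} (hx : x ∈ d.S0)
    (hc : x * (d.r ^ i * d.s) = d.r ^ i * d.s * x) : x ∈ d.refSet i := by
  classical
  have npow : ∀ j : ℤ, d.r ^ j * (d.r ^ i * d.s) = d.r ^ i * d.s * d.r ^ j →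
      d.r ^ j = 1 ∨ d.r ^ j = d.z := fun j h => by
    rw [mul_assoc (d.r ^ i), d.s_mul_pow, ← mul_assoc, ← mul_assoc] at h
    have h' := mul_right_cancel h
    rw [← zpow_add, ← zpow_add] at h'
    refine d.pow_two_eq_one ?_
    rw [show 2 * j = (j + i) - (i + -j) by ring, zpow_sub, h', mul_inv_cancel]
  have nref : ∀ j : ℤ, d.r ^ j * d.s * (d.r ^ i * d.s) = d.r ^ i * d.s * (d.r ^ j * d.s) →
      d.r ^ j * d.s = d.r ^ i * d.s ∨ d.r ^ j * d.s = d.z * (d.r ^ i * d.s) := fun j h => by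
    rw [d.ref_mul_ref, d.ref_mul_ref] at h
    have h2 : d.r ^ (2 * (j - i)) = 1 := by
      rw [show 2 * (j - i) = (j - i) - (i - j) by ring, zpow_sub, h, mul_inv_cancel]
    rcases d.pow_two_eq_one h2 with e | e
    · refine Or.inl ?_
      rw [show j = (j - i) + i by ring, zpow_add, e, one_mul]
    · refine Or.inr ?_
      rw [show j = (j - i) + i by ring, zpow_add, e, mul_assoc]
  have ht : ∀ w : G, w ∈ d.S0 → t * w * (d.r ^ i * d.s) = d.r ^ i * d.s * (t * w) →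
      w * (d.r ^ i * d.s) = d.r ^ i * d.s * w := fun w _ h => by
    rw [mul_assoc, ← mul_assoc (d.r ^ i * d.s) t, ← d.t_comm_ref, mul_assoc t (d.r ^ i * d.s)] at h
    exact mul_left_cancel h
  simp only [refSet, Finset.mem_insert, Finset.mem_singleton]
  obtain ⟨j, rfl | rfl | rfl | rfl⟩ := (d.mem_S0 x).1 hx
  · rcases npow j hc with e | e <;> simp [e]
  · rcases nref j hc with e | e <;> simp [e]
  · rcases npow j (ht _ (d.pow_mem j) hc) with e | e <;> simp [e]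
  · rcases nref j (ht _ (d.ref_mem j) hc) with e | e <;> simp [e]

/-- An abelian subgroup of exponent at most four. -/
theorem abelian_cases {Q : Subgroup G} (hQ : Q ≤ d.S0) (hcomm : ∀ a ∈ Q, ∀ b ∈ Q, a * b = b * a)
    (h4 : ∀ a ∈ Q, a * a * (a * a) = 1) :
    ∃ F : Finset G, t ∈ F ∧ F.card ≤ 8 ∧ ∀ a ∈ Q, a ∈ F := by
  classical
  by_cases href : ∃ a ∈ Q, ∃ i : ℤ, a = d.r ^ i * d.s ∨ a = t * (d.r ^ i * d.s)
  · obtain ⟨a, ha, i, hai⟩ := href
    refine ⟨d.refSet i, by simp [refSet], d.card_refSet i, fun x hx => d.ref_cent (hQ hx) ?_⟩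
    have h := hcomm x hx a ha
    rcases hai with rfl | rfl
    · exact h
    · rw [← mul_assoc, ← d.comm_t (hQ hx), mul_assoc, mul_assoc] at h
      exact mul_left_cancel h
  push Not at href
  let e : Fin 4 × Bool → G := fun q => (if q.2 then t else 1) * d.r ^ ((d.h : ℤ) * q.1.val)
  refine ⟨Finset.univ.image e, Finset.mem_image.2 ⟨(0, true), Finset.mem_univ _, by simp [e]⟩,
    Finset.card_image_le.trans (by simp), fun a ha => ?_⟩
  have key : ∀ j : ℤ, d.r ^ j * d.r ^ j * (d.r ^ j * d.r ^ j) = 1 →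
      ∃ k : Fin 4, d.r ^ j = d.r ^ ((d.h : ℤ) * k.val) := by
    intro j h
    rw [← zpow_add, ← zpow_add] at h
    obtain ⟨c, hc⟩ := d.pow_eq_one_iff.1 h
    have hj : j = (d.h : ℤ) * c := by linarith
    refine ⟨⟨(c % 4).toNat, by omega⟩, ?_⟩
    have e1 : (((c % 4).toNat : ℕ) : ℤ) = c % 4 := by omega
    simp only [e1]
    rw [hj, show (d.h : ℤ) * c = d.h * (c % 4) + 4 * d.h * (c / 4) by
        linear_combination (-(d.h : ℤ)) * Int.emod_add_mul_ediv c 4,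
      zpow_add, d.pow_eq_one_iff.2 (dvd_mul_right _ _), mul_one]
  have h := h4 a ha
  have hne := href a ha
  obtain ⟨j, rfl | rfl | rfl | rfl⟩ := (d.mem_S0 a).1 (hQ ha)
  · obtain ⟨k, hk⟩ := key j h
    exact Finset.mem_image.2 ⟨(k, false), Finset.mem_univ _, by simp [e, hk]⟩
  · exact absurd rfl (hne j).1
  · have e1 : t * d.r ^ j * (t * d.r ^ j) = d.r ^ j * d.r ^ j := by
      rw [show t * d.r ^ j * (t * d.r ^ j) = t * (d.r ^ j * t) * d.r ^ j by group, ← d.t_comm_pow,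
        ← mul_assoc, d.t_inv, one_mul]
    rw [e1] at h
    obtain ⟨k, hk⟩ := key j h
    exact Finset.mem_image.2 ⟨(k, true), Finset.mem_univ _, by simp [e, hk]⟩
  · exact absurd rfl (hne j).2

end Dih

end Cfsg.Agent.Lib.TwoTimesPSL
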