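import Mathlib
import Cfsg.Agent.Lib.TwoTimesPSL.DihBasic
import Cfsg.Agent.Lib.TwoTimesPSL.Level

/-!
# A frame over the field with four elements inside `⟨t⟩ × D`
Owner: helper80.
-/

set_option autoImplicit false
set_option linter.unusedSectionVars false

namespace Cfsg.Agent.Lib.TwoTimesPSL

/-- A field with four elements and a generator. -/
structure Four (K : Type) [Field K] where
  ω : K
  ne0 : ω ≠ 0
  ne1 : ω ≠ 1
  sq : ω * ω = ω + 1
  cases : ∀ x : K, x = 0 ∨ x = 1 ∨ x = ω ∨ x = ω + 1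

theorem exists_four {K : Type} [Field K] [Finite K] [CharP K 2] (hK : Nat.card K = 4) :
    Nonempty (Four K) := by
  classical
  haveI := Fintype.ofFinite K
  obtain ⟨w, -, hw⟩ := Finset.exists_mem_notMem_of_card_lt_card
    (t := (Finset.univ : Finset K)) (s := {0, 1}) (by
      have h2 := Finset.card_le_two (a := (0 : K)) (b := 1)
      rw [Nat.card_eq_fintype_card] at hK
      rw [Finset.card_univ]
      omega)
  simp only [Finset.mem_insert, Finset.mem_singleton, not_or] at hw
  have h3 : w ^ 3 = 1 := by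
    have h := FiniteField.pow_card_sub_one_eq_one w hw.1
    rwa [← Nat.card_eq_fintype_card, hK] at h
  have hz : (w + 1) * (w * w + w + 1) = 0 := by
    have h2 : (2 : K) = 0 := CharTwo.two_eq_zero
    linear_combination h3 + (w ^ 2 + w + 1) * h2
  have hsq : w * w = w + 1 := by
    rcases mul_eq_zero.1 hz with e | e
    · exact absurd (CharTwo.add_eq_zero.1 e) hw.2
    · rw [add_assoc] at e
      exact CharTwo.add_eq_zero.1 e
  refine ⟨⟨w, hw.1, hw.2, hsq, fun x => ?_⟩⟩
  have hcard : ({0, 1, w, w + 1} : Finset K).card = 4 := by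
    have h01 : (0 : K) ≠ 1 := zero_ne_one
    have a : w + 1 ≠ 0 := fun e => hw.2 (CharTwo.add_eq_zero.1 e)
    have b : w + 1 ≠ 1 := fun e => hw.1 (by simpa using e)
    have c : w + 1 ≠ w := fun e => one_ne_zero (α := K) (by simpa using e)
    rw [Finset.card_insert_of_notMem (by simp [h01, Ne.symm hw.1, Ne.symm a]),
      Finset.card_insert_of_notMem (by simp [Ne.symm hw.2, hw.1]),
      Finset.card_insert_of_notMem (by simp [Ne.symm c]), Finset.card_singleton]
  have hu := Finset.eq_univ_of_card _ (hcard.trans (by rw [← hK, Nat.card_eq_fintype_card]))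
  have := hu ▸ Finset.mem_univ x
  simpa using this

variable {G : Type*} [Group G] [Finite G] {t : G}

namespace Dih

variable (d : Dih t) {K : Type} [Field K] [Finite K] [CharP K 2] (f : Four K)

open Classical in
/-- The coordinates of the Klein group. -/
noncomputable def ι4 (x : K) : G :=
  if x = 0 then 1 else if x = 1 then d.z else if x = f.ω then d.s else d.z * d.s

theorem ι4_zero : d.ι4 f 0 = 1 := if_pos rfl

theorem ι4_one : d.ι4 f 1 = d.z := by rw [ι4, if_neg one_ne_zero, if_pos rfl]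

theorem ι4_ω : d.ι4 f f.ω = d.s := by rw [ι4, if_neg f.ne0, if_neg f.ne1, if_pos rfl]

theorem ι4_ω1 : d.ι4 f (f.ω + 1) = d.z * d.s := by
  rw [ι4, if_neg (fun e => f.ne1 (CharTwo.add_eq_zero.1 e)), if_neg (fun e => f.ne0 (by simpa using e)),
    if_neg (fun e => one_ne_zero (α := K) (by simpa using e))]

theorem t_comm_ι4 (x : K) : t * d.ι4 f x = d.ι4 f x * t := by
  rcases f.cases x with rfl | rfl | rfl | rfl
  · rw [ι4_zero, mul_one, one_mul]
  · rw [ι4_one, d.t_comm_z]
  · rw [ι4_ω, d.ts]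
  · rw [ι4_ω1, ← mul_assoc, d.t_comm_z, mul_assoc, d.ts, mul_assoc]

theorem ι4_mem_T (x : K) : d.ι4 f x ∈ d.T := by
  rcases f.cases x with rfl | rfl | rfl | rfl
  · rw [ι4_zero]; exact one_mem _
  · rw [ι4_one]; exact ⟨_, Or.inl rfl⟩
  · rw [ι4_ω]; exact ⟨0, Or.inr (by simp)⟩
  · rw [ι4_ω1]; exact ⟨_, Or.inr rfl⟩

theorem ι4_add (a b : K) : d.ι4 f (a + b) = d.ι4 f a * d.ι4 f b := by
  have vv : ∀ x : K, x + x = 0 := CharTwo.add_self_eq_zero
  have e1 : (1 : K) + f.ω = f.ω + 1 := add_comm _ _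
  have e2 : (1 : K) + (f.ω + 1) = f.ω := by rw [add_left_comm, vv, add_zero]
  have e3 : f.ω + (f.ω + 1) = 1 := by rw [← add_assoc, vv, zero_add]
  have e4 : f.ω + 1 + 1 = f.ω := by rw [add_assoc, vv, add_zero]
  have e5 : f.ω + 1 + f.ω = 1 := by rw [add_comm, ← add_assoc, vv, zero_add]
  have g1 : d.s * d.z = d.z * d.s := d.z_comm_s.symm
  have g2 : d.z * (d.z * d.s) = d.s := by rw [← mul_assoc, d.z_sq, one_mul]
  have g3 : d.s * (d.z * d.s) = d.z := by rw [← mul_assoc, g1, mul_assoc, d.s_sq, mul_one]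
  have g4 : d.z * d.s * d.z = d.s := by rw [mul_assoc, g1, g2]
  have g5 : d.z * d.s * d.s = d.z := by rw [mul_assoc, d.s_sq, mul_one]
  have g6 : d.z * d.s * (d.z * d.s) = 1 := by rw [mul_assoc, g3, d.z_sq]
  rcases f.cases a with rfl | rfl | rfl | rfl <;> rcases f.cases b with rfl | rfl | rfl | rfl <;>
    simp only [zero_add, add_zero, vv, e1, e2, e3, e4, e5, ι4_zero, ι4_one, ι4_ω, ι4_ω1, one_mul,
      mul_one, d.z_sq, d.s_sq, g1, g2, g3, g4, g5, g6]

theorem t_ne_ι4 (x : K) : t ≠ d.ι4 f x := fun h => by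
  have := d.ι4_mem_T f x
  exact d.t_not_T (by rwa [← h] at this)

theorem ι4_inj : Function.Injective (d.ι4 f) := by
  have hs : d.s ≠ 1 := fun h => d.s_not (h ▸ one_mem _)
  have key : ∀ x, d.ι4 f x = 1 → x = 0 := by
    intro x h
    rcases f.cases x with rfl | rfl | rfl | rfl
    · rfl
    · rw [ι4_one] at h; exact absurd h d.z_ne_one
    · rw [ι4_ω] at h; exact absurd h hs
    · rw [ι4_ω1] at h
      refine absurd ?_ d.s_not
      have e : d.s = d.z⁻¹ := eq_inv_of_mul_eq_one_right h
      rw [e]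
      exact inv_mem (Subgroup.mem_zpowers_iff.2 ⟨_, rfl⟩)
  intro a b h
  have h1 := d.ι4_add f a b
  rw [h, ← d.ι4_add f b b, CharTwo.add_self_eq_zero, d.ι4_zero] at h1
  exact CharTwo.add_eq_zero.1 (key _ h1)

open Classical in
/-- Scalars. -/
noncomputable def sc4 (g : G) (c : K) : G := if c = 1 then 1 else if c = f.ω then g else g * g

include d in
theorem sc4_comm {g : G} (hg : t * g = g * t) (c : K) : t * sc4 f g c = sc4 f g c * t := by
  unfold sc4
  split_ifs
  · simp
  · exact hg
  · exact (Commute.mul_right hg hg).eq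

theorem sc4_act {g : G} (hz : g * d.z * g⁻¹ = d.s) (hs : g * d.s * g⁻¹ = d.z * d.s) (c x : K)
    (hc : c ≠ 0) : sc4 f g c * d.ι4 f x * (sc4 f g c)⁻¹ = d.ι4 f (c * x) := by
  have hzs : g * (d.z * d.s) * g⁻¹ = d.z := by
    rw [show g * (d.z * d.s) * g⁻¹ = (g * d.z * g⁻¹) * (g * d.s * g⁻¹) by group, hz, hs,
      ← mul_assoc, ← d.z_comm_s, mul_assoc, d.s_sq, mul_one]
  have hω : ∀ x, g * d.ι4 f x * g⁻¹ = d.ι4 f (f.ω * x) := by
    intro x
    have e : f.ω * (f.ω + 1) = 1 := by
      rw [mul_add, mul_one, f.sq, add_comm, ← add_assoc, CharTwo.add_self_eq_zero, zero_add]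
    rcases f.cases x with rfl | rfl | rfl | rfl
    · rw [mul_zero, ι4_zero, mul_one, mul_inv_cancel]
    · rw [mul_one, ι4_one, ι4_ω, hz]
    · rw [f.sq, ι4_ω, ι4_ω1, hs]
    · rw [e, ι4_ω1, ι4_one, hzs]
  rcases f.cases c with rfl | rfl | rfl | rfl
  · exact absurd rfl hc
  · simp [sc4]
  · rw [sc4, if_neg f.ne1, if_pos rfl, hω]
  · rw [sc4, if_neg (fun e => f.ne0 (by simpa using e)),
      if_neg (fun e => one_ne_zero (α := K) (by simpa using e)),
      show g * g * d.ι4 f x * (g * g)⁻¹ = g * (g * d.ι4 f x * g⁻¹) * g⁻¹ by group, hω, hω,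
      ← mul_assoc, f.sq]

/-- A `2`-element centralising `t` and the Klein group lies in their product. -/
theorem cent4 {x : G} (hx : ∃ k : ℕ, x ^ 2 ^ k = 1) (ht : t * x = x * t)
    (hU : ∀ a, x * d.ι4 f a = d.ι4 f a * x) : ∃ a, x = d.ι4 f a ∨ x = t * d.ι4 f a := by
  classical
  haveI : Fact (Nat.Prime 2) := ⟨Nat.prime_two⟩
  set E1 := Subgroup.closure ({t, d.z, d.s} : Set G)
  have hE : E1 ≤ d.S0 := (Subgroup.closure_le _).2 (by
    rintro y (rfl | rfl | rfl)
    exacts [d.t_mem, d.z_mem, d.s_mem])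
  have hxz : x * d.z = d.z * x := by have := hU 1; rwa [d.ι4_one] at this
  have hxs : x * d.s = d.s * x := by have := hU f.ω; rwa [d.ι4_ω] at this
  set gens : Set G := {t, d.z, d.s, x}
  have hcen : Subgroup.zpowers x ≤ Subgroup.centralizer (E1 : Set G) := by
    rw [Subgroup.zpowers_le]
    have hle : E1 ≤ Subgroup.centralizer ({x} : Set G) := (Subgroup.closure_le _).2 (by
      rintro y (rfl | rfl | rfl) <;> rw [SetLike.mem_coe, Subgroup.mem_centralizer_singleton_iff]
      exacts [ht, hxz.symm, hxs.symm])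
    exact Subgroup.mem_centralizer_iff.2 fun y hy =>
      Subgroup.mem_centralizer_singleton_iff.1 (hle hy)
  obtain ⟨k, hk⟩ := hx
  have hQ : IsPGroup 2 (Subgroup.zpowers x) := fun ⟨y, i, hy⟩ => ⟨k, Subtype.ext (by
    push_cast
    rw [← hy, ← zpow_natCast, ← zpow_mul, mul_comm, zpow_mul, zpow_natCast, hk, one_zpow])⟩
  have hsup := (d.pgroup.to_le hE).to_sup_of_normal_left' hQ (hcen.trans (Subgroup.centralizer_le_normalizer _))
  set Q := Subgroup.closure gens
  have hQle : Q ≤ E1 ⊔ Subgroup.zpowers x := (Subgroup.closure_le _).2 (by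
    rintro y (rfl | rfl | rfl | rfl)
    · exact Subgroup.mem_sup_left (Subgroup.subset_closure (Or.inl rfl))
    · exact Subgroup.mem_sup_left (Subgroup.subset_closure (Or.inr (Or.inl rfl)))
    · exact Subgroup.mem_sup_left (Subgroup.subset_closure (Or.inr (Or.inr rfl)))
    · exact Subgroup.mem_sup_right (Subgroup.mem_zpowers _))
  have hcomm : ∀ a ∈ Q, ∀ b ∈ Q, a * b = b * a := by
    have h1 : ∀ a ∈ gens, ∀ b ∈ gens, a * b = b * a := by
      rintro a (rfl | rfl | rfl | rfl) b (rfl | rfl | rfl | rfl) <;>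
        first
          | rfl
          | exact d.t_comm_z | exact d.t_comm_z.symm | exact d.ts | exact d.ts.symm
          | exact d.z_comm_s | exact d.z_comm_s.symm | exact ht | exact ht.symm
          | exact hxz | exact hxz.symm | exact hxs | exact hxs.symm
    intro a ha b hb
    induction ha using Subgroup.closure_induction with
    | mem a ha =>
      induction hb using Subgroup.closure_induction with
      | mem b hb => exact h1 a ha b hb
      | one => simp
      | mul u v _ _ hu hv => exact (Commute.mul_right hu hv).eq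
      | inv u _ hu => exact (Commute.inv_right hu).eq
    | one => simp
    | mul u v _ _ hu hv => exact (Commute.mul_left hu hv).eq
    | inv u _ hu => exact (Commute.inv_left hu).eq
  -- conjugate into `S₀` inside `C(t)`
  set C := Subgroup.centralizer ({t} : Set G)
  have hS0C : d.S0 ≤ C := fun y hy => Subgroup.mem_centralizer_singleton_iff.2 (d.comm_t hy).symm
  obtain ⟨o, ho, hC⟩ := d.card_cent
  have hidx : (d.S0.subgroupOf C).index = o := by
    have h := Subgroup.card_mul_index (d.S0.subgroupOf C)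
    rw [Nat.card_congr (Subgroup.subgroupOfEquivOfLe hS0C).toEquiv, hC] at h
    exact Nat.eq_of_mul_eq_mul_left Nat.card_pos h
  set PC : Sylow 2 C := (d.pgroup.comap_subtype (K := C)).toSylow
    (by rw [show d.S0.comap C.subtype = d.S0.subgroupOf C from rfl, hidx]; omega)
  obtain ⟨P', hP'⟩ := ((hsup.to_le hQle).comap_subtype (K := C)).exists_le_sylow
  obtain ⟨c, hc⟩ := MulAction.exists_smul_eq C P' PC
  have hQC : Q ≤ C := fun y hy => Subgroup.mem_centralizer_singleton_iff.2
    (hcomm y hy t (Subgroup.subset_closure (Or.inl rfl)))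
  have hmap : ∀ y ∈ Q, (c : G) * y * (c : G)⁻¹ ∈ d.S0 := by
    intro y hy
    have h1 := Subgroup.smul_mem_pointwise_smul _ (MulAut.conj c) _
      (hP' (show (⟨y, hQC hy⟩ : C) ∈ Q.subgroupOf C from hy))
    have h2 : MulAut.conj c • (⟨y, hQC hy⟩ : C) ∈ (PC : Subgroup C) := by
      rw [← hc, Sylow.coe_subgroup_smul]; exact h1
    exact h2
  have hct : (c : G) * t * (c : G)⁻¹ = t := by
    rw [Subgroup.mem_centralizer_singleton_iff.1 c.2, mul_inv_cancel_right]
  set cj : G → G := fun y => (c : G) * y * (c : G)⁻¹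
  have hinj : Function.Injective cj := fun a b h => mul_left_cancel (mul_right_cancel h)
  have hmul : ∀ a b, cj (a * b) = cj a * cj b := fun a b => by simp only [cj]; group
  have hone : ∀ y ∈ ({d.z, d.s} : Set G), cj y ∈ d.S0 ∧ cj y * cj y = 1 ∧ cj y ≠ 1 ∧ cj y ≠ t := by
    rintro y (rfl | rfl)
    · refine ⟨hmap _ (Subgroup.subset_closure (Or.inr (Or.inl rfl))), ?_,
        fun h => d.z_ne_one (conj_eq_one_iff.1 h),
        fun h => d.t_ne_z (hinj (h.trans hct.symm)).symm⟩
      rw [← hmul, d.z_sq]; simp [cj]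
    · refine ⟨hmap _ (Subgroup.subset_closure (Or.inr (Or.inr (Or.inl rfl)))), ?_,
        fun h => d.s_not (by rw [conj_eq_one_iff.1 h]; exact one_mem _),
        fun h => d.t_not 0 |>.2 (by simpa using (hinj (h.trans hct.symm)).symm)⟩
      rw [← hmul, d.s_sq]; simp [cj]
  have href : ∃ u ∈ Q, ∃ i : ℤ, cj u = d.r ^ i * d.s ∨ cj u = t * (d.r ^ i * d.s) := by
    by_contra hno
    push Not at hno
    have hval : ∀ y ∈ ({d.z, d.s} : Set G), cj y = d.z ∨ cj y = t * d.z := by
      intro y hy
      obtain ⟨h1, h2, h3, h4⟩ := hone y hy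
      have hyQ : y ∈ Q := by
        rcases hy with rfl | rfl
        · exact Subgroup.subset_closure (Or.inr (Or.inl rfl))
        · exact Subgroup.subset_closure (Or.inr (Or.inr (Or.inl rfl)))
      rcases d.sq_one_cases h1 h2 with e | e | e | e | ⟨i, e | e⟩
      · exact absurd e h3
      · exact absurd e h4
      · exact Or.inl e
      · exact Or.inr e
      · exact absurd e (hno y hyQ i).1
      · exact absurd e (hno y hyQ i).2
    have hzs : d.z ≠ d.s := fun e => d.s_not (e ▸ Subgroup.mem_zpowers_iff.2 ⟨_, rfl⟩)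
    have hprod : cj (d.z * d.s) = cj t := by
      rw [show cj t = t from hct, hmul]
      rcases hval d.z (Or.inl rfl) with e | e <;> rcases hval d.s (Or.inr rfl) with e' | e' <;>
        first
          | exact absurd (hinj (e.trans e'.symm)) hzs
          | (rw [e, e', ← mul_assoc, ← d.t_comm_z, mul_assoc, d.z_sq, mul_one])
          | (rw [e, e', mul_assoc, d.z_sq, mul_one])
    exact (d.t_not (2 * (d.h : ℤ))).2 (hinj hprod).symm
  obtain ⟨u, hu, i, hui⟩ := href
  have hin : ∀ y ∈ Q, cj y ∈ d.refSet i := by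
    intro y hy
    refine d.ref_cent (hmap y hy) ?_
    have h := congrArg cj (hcomm y hy u hu)
    rw [hmul, hmul] at h
    rcases hui with e | e <;> rw [e] at h
    · exact h
    · refine mul_left_cancel (a := t) ?_
      calc t * (cj y * (d.r ^ i * d.s)) = cj y * t * (d.r ^ i * d.s) := by
            rw [← mul_assoc, show t * cj y = cj y * t from d.comm_t (hmap y hy)]
        _ = t * (d.r ^ i * d.s) * cj y := by rw [mul_assoc]; exact h
        _ = _ := mul_assoc _ _ _
  have hcard : Nat.card Q ≤ 8 := by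
    refine le_trans ?_ (d.card_refSet i)
    refine le_of_le_of_eq (Nat.card_le_card_of_injective
      (fun y : Q => (⟨cj y, hin y y.2⟩ : {w // w ∈ d.refSet i}))
      fun a b h => Subtype.ext (hinj (congrArg Subtype.val h))) (by simp)
  have hιQ : ∀ a, d.ι4 f a ∈ Q := by
    intro a
    rcases f.cases a with rfl | rfl | rfl | rfl
    · rw [ι4_zero]; exact one_mem _
    · rw [ι4_one]; exact Subgroup.subset_closure (Or.inr (Or.inl rfl))
    · rw [ι4_ω]; exact Subgroup.subset_closure (Or.inr (Or.inr (Or.inl rfl)))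
    · rw [ι4_ω1]
      exact mul_mem (Subgroup.subset_closure (Or.inr (Or.inl rfl)))
        (Subgroup.subset_closure (Or.inr (Or.inr (Or.inl rfl))))
  haveI := Fintype.ofFinite Q
  haveI := Fintype.ofFinite K
  let e : Bool × K → Q := fun q =>
    ⟨(if q.1 then t else 1) * d.ι4 f q.2,
      mul_mem (by split_ifs; exacts [Subgroup.subset_closure (Or.inl rfl), one_mem _]) (hιQ _)⟩
  have he : Function.Injective e := by
    rintro ⟨a1, a2⟩ ⟨b1, b2⟩ h
    have h' := congrArg Subtype.val h
    cases a1 <;> cases b1 <;>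
      simp only [e, if_true, Bool.false_eq_true, if_false, one_mul] at h'
    · rw [d.ι4_inj f h']
    · refine absurd ?_ (d.t_ne_ι4 f (a2 + b2))
      rw [d.ι4_add, h', mul_assoc, ← d.ι4_add, CharTwo.add_self_eq_zero, d.ι4_zero, mul_one]
    · refine absurd ?_ (d.t_ne_ι4 f (b2 + a2))
      rw [d.ι4_add, ← h', mul_assoc, ← d.ι4_add, CharTwo.add_self_eq_zero, d.ι4_zero, mul_one]
    · rw [d.ι4_inj f (mul_left_cancel h')]
  have hK4 : Fintype.card K = 4 := by
    classical
    have hu : (Finset.univ : Finset K) = {0, 1, f.ω, f.ω + 1} :=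
      (Finset.eq_univ_of_forall fun x => by simpa using f.cases x).symm
    have h01 : (0 : K) ≠ 1 := zero_ne_one
    have a : f.ω + 1 ≠ 0 := fun e => f.ne1 (CharTwo.add_eq_zero.1 e)
    have b : f.ω + 1 ≠ 1 := fun e => f.ne0 (by simpa using e)
    have c' : f.ω + 1 ≠ f.ω := fun e => one_ne_zero (α := K) (by simpa using e)
    rw [← Finset.card_univ, hu, Finset.card_insert_of_notMem (by simp [h01, Ne.symm f.ne0, Ne.symm a]),
      Finset.card_insert_of_notMem (by simp [Ne.symm f.ne1, Ne.symm b]),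
      Finset.card_insert_of_notMem (by simp [Ne.symm c']), Finset.card_singleton]
  have hbij : Function.Bijective e := (Fintype.bijective_iff_injective_and_card e).2 ⟨he, le_antisymm
    (Fintype.card_le_of_injective e he) (by
      rw [Fintype.card_prod, Fintype.card_bool, hK4, ← Nat.card_eq_fintype_card]; omega)⟩
  obtain ⟨⟨b, a⟩, hba⟩ := hbij.2 ⟨x, Subgroup.subset_closure (Or.inr (Or.inr (Or.inr rfl)))⟩
  have hba' := congrArg Subtype.val hba
  cases b <;> simp only [e, if_true, Bool.false_eq_true, if_false, one_mul] at hba'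
  · exact ⟨a, Or.inl hba'.symm⟩
  · exact ⟨a, Or.inr hba'.symm⟩

/-- The frame. -/
noncomputable def frame {g : G} (hg : t * g = g * t) (hz : g * d.z * g⁻¹ = d.s)
    (hs : g * d.s * g⁻¹ = d.z * d.s) : Frame t K where
  ι := d.ι4 f
  ι_inj := d.ι4_inj f
  ι_add := d.ι4_add f
  ι_comm := d.t_comm_ι4 f
  sc := sc4 f g
  sc_comm := fun a _ => sc4_comm d f hg a
  sc_act := fun a x ha => d.sc4_act f hz hs a x ha
  t_inv := d.t_inv
  t_not := d.t_ne_ι4 f
  cent := fun _ hx ht hU => d.cent4 f hx ht hU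

end Dih

end Cfsg.Agent.Lib.TwoTimesPSL
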