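import Mathlib
import Cfsg.Agent.Lib.TwoTimesPSL.Trans

/-!
# The invariant complement of `t` in `P / A`, and its commutators
Owner: helper80.
-/

set_option autoImplicit false
set_option linter.unusedSectionVars false

namespace Cfsg.Agent.Lib.TwoTimesPSL

variable {G : Type*} [Group G] [Finite G] {t : G} {K : Type*} [Field K] [Finite K] [CharP K 2]
  {Fr : Frame t K}

namespace Level

variable (L : Level Fr)

/-- A complement of `t` modulo `A` inside `P`, invariant under scalers. -/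
structure Comp where
  B : Subgroup G
  A_le : L.A ≤ B
  le_P : B ≤ L.P
  t_not : t ∉ B
  ker : ∀ x ∈ B, L.d x = 0 → x ∈ L.A
  surj : ∀ v, ∃ x ∈ B, L.d x = v
  cover : ∀ x ∈ L.P, x ∈ B ∨ x * t ∈ B
  scaler : ∀ c, c ≠ 0 → ∃ g, L.IsScaler g c ∧ ∀ x ∈ B, g * x * g⁻¹ ∈ B

variable (hq : 2 < Nat.card K) (hmove : ∃ w ∈ L.W, L.d w ≠ 0)
include hq hmove

theorem exists_comp : Nonempty L.Comp := by
  classical
  haveI := Fintype.ofFinite K
  obtain ⟨c0, hc0, hc1⟩ : ∃ c : K, c ≠ 0 ∧ c ≠ 1 := by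
    by_contra h
    push Not at h
    have hle : (Finset.univ : Finset K).card ≤ ({0, 1} : Finset K).card :=
      Finset.card_le_card fun x _ => by
        by_cases hx : x = 0
        · simp [hx]
        · simp [h x hx]
    rw [Finset.card_univ, ← Nat.card_eq_fintype_card] at hle
    have := Finset.card_le_two (a := (0 : K)) (b := 1)
    omega
  obtain ⟨g0, hg0, hg0P⟩ := L.exists_scaler hmove hc0
  let N : Subgroup L.P := L.A.subgroupOf L.P
  haveI hN : N.Normal := ⟨fun n hn p => by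
    simp only [N, Subgroup.mem_subgroupOf] at hn ⊢
    simpa using (L.P_le_W p.2).1 _ hn⟩
  let mk : L.P →* L.P ⧸ N := QuotientGroup.mk' N
  have hmk : ∀ x y : L.P, mk x = mk y ↔ (x : G)⁻¹ * y ∈ L.A := fun x y => by
    rw [QuotientGroup.mk'_apply, QuotientGroup.mk'_apply, QuotientGroup.eq]
    simp [N, Subgroup.mem_subgroupOf]
  have hcomm : ∀ a b : L.P ⧸ N, a * b = b * a := by
    intro a b
    obtain ⟨x, rfl⟩ := QuotientGroup.mk'_surjective N a
    obtain ⟨y, rfl⟩ := QuotientGroup.mk'_surjective N b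
    rw [← map_mul, ← map_mul, hmk]
    have := L.comm_mem (inv_mem y.2) (inv_mem x.2)
    simpa [mul_assoc] using this
  let cj : L.P →* L.P :=
    { toFun := fun x => ⟨g0 * x * g0⁻¹, hg0P x x.2⟩
      map_one' := Subtype.ext (by simp)
      map_mul' := fun x y => Subtype.ext (by push_cast; group) }
  let F : L.P →* L.P ⧸ N :=
    { toFun := fun x => mk (cj x) * (mk x)⁻¹
      map_one' := by simp
      map_mul' := fun x y => by
        rw [map_mul, map_mul, map_mul, mul_inv_rev, mul_assoc, mul_assoc (mk (cj x))]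
        congr 1
        rw [← mul_assoc, hcomm] }
  have hFd : ∀ x p : L.P, mk x = F p → L.d (x : G) = (c0 + 1) * L.d (p : G) := by
    intro x p h
    have h' : mk x = mk (cj p * p⁻¹) := by rw [map_mul, map_inv]; exact h
    rw [hmk] at h'
    push_cast at h'
    have hx := L.P_le_W x.2
    have hp := L.P_le_W p.2
    obtain ⟨hc1, hc2⟩ := hg0.conj_W L hc0 hp
    have e : g0 * (p : G) * g0⁻¹ = (x : G) * ((x : G)⁻¹ * ((cj p : G) * (p : G)⁻¹)) * p := by
      simp [cj, mul_assoc]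
    have h2 := congrArg L.d e
    rw [hc2, L.d_mul (mul_mem hx (L.A_le_W h')) hp, L.d_mul hx (L.A_le_W h'),
      L.d_of_mem_A h', add_zero] at h2
    rw [add_mul, one_mul, h2, add_assoc, CharTwo.add_self_eq_zero, add_zero]
  have hc01 : c0 + 1 ≠ 0 := fun h => hc1 (CharTwo.add_eq_zero.1 h)
  have hF0 : ∀ p : L.P, L.d (p : G) = 0 → F p = 1 := by
    intro p hp
    show mk (cj p) * (mk p)⁻¹ = 1
    rw [mul_inv_eq_one, hmk]
    rcases L.P_ker p.2 hp with h | h
    · exact mul_mem (inv_mem (hg0.2.1 _ h)) h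
    · have h1 := inv_mem (hg0.2.1 _ h)
      set a := (p : G) * t with ha
      have hp' : (p : G) = a * t := by rw [ha, mul_assoc, Fr.t_inv, mul_one]
      show (g0 * (p : G) * g0⁻¹)⁻¹ * p ∈ L.A
      rw [hp']
      have e : (g0 * (a * t) * g0⁻¹)⁻¹ * (a * t) =
          (g0 * t⁻¹ * g0⁻¹) * ((g0 * a * g0⁻¹)⁻¹ * a) * t := by group
      rw [e, Fr.t_inv', ← hg0.1, mul_inv_cancel_right, L.inv _ (mul_mem h1 h)]
      exact inv_mem (mul_mem h1 h)
  let B : Subgroup G := (F.range.comap mk).map L.P.subtype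
  have hB : ∀ x (hx : x ∈ L.P), x ∈ B ↔ mk ⟨x, hx⟩ ∈ F.range := fun x hx =>
    ⟨fun ⟨y, hy, hyx⟩ => by
      obtain rfl : (y : G) = x := hyx
      exact hy,
    fun h => ⟨⟨x, hx⟩, h, rfl⟩⟩
  have hle : B ≤ L.P := by
    rintro _ ⟨y, -, rfl⟩
    exact y.2
  have hAB : L.A ≤ B := fun a ha => by
    rw [hB a (L.A_le_P ha)]
    refine ⟨1, ?_⟩
    rw [map_one, eq_comm, ← map_one mk, hmk]
    simpa using ha
  have hker : ∀ x ∈ B, L.d x = 0 → x ∈ L.A := by
    intro x hx hd
    obtain ⟨p, hp⟩ := (hB x (hle hx)).1 hx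
    have h1 := hFd ⟨x, hle hx⟩ p hp.symm
    rw [hd] at h1
    have h2 := hF0 p ((mul_eq_zero.1 h1.symm).resolve_left hc01)
    rw [hp, ← map_one mk, hmk] at h2
    simpa using h2
  refine ⟨⟨B, hAB, hle, fun h => L.t_not_mem (hker t h L.d_t), hker, ?_, ?_, ?_⟩⟩
  · intro v
    obtain ⟨p, hp, hpv⟩ := L.P_d_surj hmove ((c0 + 1)⁻¹ * v)
    obtain ⟨x, hx⟩ := QuotientGroup.mk'_surjective N (F ⟨p, hp⟩)
    refine ⟨x, ?_, ?_⟩
    · rw [hB x x.2]
      exact ⟨⟨p, hp⟩, hx.symm⟩
    · rw [hFd x ⟨p, hp⟩ hx, hpv, mul_inv_cancel_left₀ hc01]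
  · intro x hx
    obtain ⟨p, hp, hpv⟩ := L.P_d_surj hmove ((c0 + 1)⁻¹ * L.d x)
    obtain ⟨y, hy⟩ := QuotientGroup.mk'_surjective N (F ⟨p, hp⟩)
    have hyB : (y : G) ∈ B := (hB y y.2).2 ⟨⟨p, hp⟩, hy.symm⟩
    have hd : L.d ((y : G)⁻¹ * x) = 0 := by
      have h1 := L.d_mul (inv_mem (L.P_le_W y.2)) (L.P_le_W hx)
      have h2 := L.d_mul (inv_mem (L.P_le_W y.2)) (L.P_le_W y.2)
      rw [inv_mul_cancel, L.d_of_mem_A (one_mem _)] at h2
      rw [h1, CharTwo.add_eq_zero.1 h2.symm, hFd y ⟨p, hp⟩ hy, hpv, mul_inv_cancel_left₀ hc01,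
        CharTwo.add_self_eq_zero]
    rcases L.P_ker (mul_mem (inv_mem y.2) hx) hd with h | h
    · left
      simpa using mul_mem hyB (hAB h)
    · right
      simpa [mul_assoc] using mul_mem hyB (hAB h)
  · intro c hc
    obtain ⟨g, hg, hgP⟩ := L.exists_scaler hmove hc
    refine ⟨g, hg, fun x hx => ?_⟩
    obtain ⟨p, hp⟩ := (hB x (hle hx)).1 hx
    rw [hB _ (hgP x (hle hx))]
    refine ⟨⟨g * p * g⁻¹, hgP p p.2⟩, ?_⟩
    -- the discrepancy of `g` and `g0` acts trivially modulo `A`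
    set z := (g0 * g)⁻¹ * (g * g0) with hz
    have hzt : t * z = z * t := by
      have h1 : Commute t g := hg.1
      have h2 : Commute t g0 := hg0.1
      exact ((h2.mul_right h1).inv_right.mul_right (h1.mul_right h2)).eq
    have hzA : ∀ a ∈ L.A, z * a * z⁻¹ ∈ L.A := fun a ha => by
      have h1 := hg.2.1 _ (hg0.2.1 a ha)
      have h2 := conj_mem_of_forall hg.2.1 (conj_mem_of_forall hg0.2.1 h1)
      simpa [hz, mul_assoc] using h2
    have hzU : ∀ v, z * Fr.ι v = Fr.ι v * z := fun v => by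
      rw [← mul_inv_eq_iff_eq_mul]
      calc z * Fr.ι v * z⁻¹
          = (g0 * g)⁻¹ * (g * (g0 * Fr.ι v * g0⁻¹) * g⁻¹) * (g0 * g) := by rw [hz]; group
        _ = (g0 * g)⁻¹ * (g0 * (g * Fr.ι v * g⁻¹) * g0⁻¹) * (g0 * g) := by
          rw [hg0.2.2, hg.2.2, hg.2.2, hg0.2.2, mul_left_comm]
        _ = Fr.ι v := by group
    have hzW : z ∈ L.W := ⟨hzA, hzU, by
      rw [← hzt, mul_inv_cancel_right, Fr.t_inv]
      exact one_mem _⟩
    have hzP : ∀ q ∈ L.P, z * q * z⁻¹ ∈ L.P := fun q hq => by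
      have h1 := hgP _ (hg0P q hq)
      have h2 := conj_mem_of_forall hgP (conj_mem_of_forall hg0P h1)
      simpa [hz, mul_assoc] using h2
    let Z : Subgroup G :=
      { carrier := {y | y ∈ L.W ∧ t * y = y * t ∧ (∀ q ∈ L.P, y * q * y⁻¹ ∈ L.P)}
        one_mem' := ⟨one_mem _, by simp, fun q hq => by simpa using hq⟩
        mul_mem' := fun {a b} ha hb => ⟨mul_mem ha.1 hb.1,
          (Commute.mul_right ha.2.1 hb.2.1 : Commute t (a * b)).eq,
          fun q hq => by
            rw [show a * b * q * (a * b)⁻¹ = a * (b * q * b⁻¹) * a⁻¹ by group]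
            exact ha.2.2 _ (hb.2.2 q hq)⟩
        inv_mem' := fun {a} ha => ⟨inv_mem ha.1, (Commute.inv_right ha.2.1 : Commute t a⁻¹).eq,
          fun q hq => by rw [inv_inv]; exact conj_mem_of_forall ha.2.2 hq⟩ }
    have hzZ : z ∈ Z := ⟨hzW, hzt, hzP⟩
    have h01 : ∀ y (hy : y ∈ Z) (q : L.P),
        mk ⟨y * q * y⁻¹, hy.2.2 q q.2⟩ = mk q ∨
          mk ⟨y * q * y⁻¹, hy.2.2 q q.2⟩ = mk q * mk ⟨t, L.t_mem_P⟩ := by
      intro y hy q
      obtain ⟨hy1, hy2, hy3⟩ := hy
      have hyq := L.P_le_W (hy3 q q.2)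
      have hd : L.d (y * (q : G) * y⁻¹) = L.d (q : G) := by
        have hs : L.IsScaler y 1 :=
          ⟨hy2, hy1.1, fun v => by rw [hy1.2.1, mul_inv_cancel_right, one_mul]⟩
        have h := (Level.IsScaler.conj_W L one_ne_zero hs (L.P_le_W q.2)).2
        rwa [one_mul] at h
      have hd' : L.d ((q : G)⁻¹ * (y * q * y⁻¹)) = 0 := by
        have h1 := L.d_mul (inv_mem (L.P_le_W q.2)) hyq
        have h2 := L.d_mul (inv_mem (L.P_le_W q.2)) (L.P_le_W q.2)
        rw [inv_mul_cancel, L.d_of_mem_A (one_mem _)] at h2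
        rw [h1, CharTwo.add_eq_zero.1 h2.symm, hd, CharTwo.add_self_eq_zero]
      rcases L.P_ker (mul_mem (inv_mem q.2) (hy3 q q.2)) hd' with h | h
      · left
        rw [eq_comm, hmk]
        exact h
      · right
        rw [← map_mul, eq_comm, hmk]
        have := inv_mem ((L.inv _ h).symm ▸ inv_mem h : t * ((q : G)⁻¹ * (y * q * y⁻¹) * t) * t ∈ L.A)
        have e : t * ((q : G)⁻¹ * (y * q * y⁻¹) * t) * t = t⁻¹ * (q : G)⁻¹ * (y * q * y⁻¹) := by
          rw [Fr.t_inv', mul_assoc t, mul_assoc ((q : G)⁻¹ * _) t t, Fr.t_inv, mul_one]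
          group
        rw [e] at this
        simpa [mul_assoc] using inv_mem this
    have hT : mk ⟨z * p * z⁻¹, hzP p p.2⟩ = mk p := by
      -- even powers and the `2`-part of `z` act trivially
      set o := orderOf z with ho
      have ho0 : o ≠ 0 := (orderOf_pos z).ne'
      set k := o.factorization 2
      set m := o / 2 ^ k with hm
      have hodd : Odd m := Nat.odd_iff.2 (Nat.two_dvd_ne_zero.1
        (Nat.not_dvd_ordCompl Nat.prime_two ho0))
      have hom : 2 ^ k * m = o := Nat.ordProj_mul_ordCompl_eq_self o 2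
      set T := mk ⟨t, L.t_mem_P⟩ with hTdef
      have hTT : T * T = 1 := by
        rw [hTdef, ← map_mul, ← map_one mk]
        congr 1
        exact Subtype.ext Fr.t_inv
      have sqT : ∀ y, y ∈ Z → ∀ q : L.P, ∀ h, mk ⟨y * y * q * (y * y)⁻¹, h⟩ = mk q := by
        intro y hy q h
        have e : (⟨y * y * q * (y * y)⁻¹, h⟩ : L.P) =
            ⟨y * ((⟨y * q * y⁻¹, hy.2.2 q q.2⟩ : L.P) : G) * y⁻¹, hy.2.2 _ (hy.2.2 q q.2)⟩ :=
          Subtype.ext (by push_cast; group)
        rw [e]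
        rcases h01 y hy q with hq1 | hq1
        · rcases h01 y hy ⟨y * q * y⁻¹, hy.2.2 q q.2⟩ with h2 | h2
          · exact h2.trans hq1
          · -- the defect is a homomorphism of the class
            exfalso
            obtain ⟨a, ha, hqa⟩ : ∃ a ∈ L.A, y * (q : G) * y⁻¹ = q * a :=
              ⟨_, (hmk _ _).1 hq1.symm, by simp⟩
            have h3 : mk ⟨y * (y * q * y⁻¹) * y⁻¹, hy.2.2 _ (hy.2.2 q q.2)⟩ =
                mk ⟨y * q * y⁻¹, hy.2.2 q q.2⟩ := by
              rw [eq_comm, hmk]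
              push_cast
              have : (y * (q : G) * y⁻¹)⁻¹ * (y * (y * q * y⁻¹) * y⁻¹) = y * a * y⁻¹ := by
                conv_lhs => arg 2; rw [hqa]
                group
              rw [this]
              exact hy.1.1 a ha
            rw [h3] at h2
            exact L.t_not_mem (by
              have h4 := (hmk _ _).1 (mul_left_cancel ((mul_one _).trans h2) :
                (1 : L.P ⧸ N) = T).symm
              simpa [hTdef, Fr.t_inv'] using h4)
        · rcases h01 y hy ⟨y * q * y⁻¹, hy.2.2 q q.2⟩ with h2 | h2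
          · exfalso
            obtain ⟨a, ha, hqa⟩ : ∃ a ∈ L.A, y * (q : G) * y⁻¹ = q * t * a := by
              have h5 := hq1
              rw [hTdef, ← map_mul, eq_comm, hmk] at h5
              refine ⟨_, h5, ?_⟩
              push_cast
              group
            have h3 : mk ⟨y * (y * q * y⁻¹) * y⁻¹, hy.2.2 _ (hy.2.2 q q.2)⟩ =
                mk ⟨y * q * y⁻¹, hy.2.2 q q.2⟩ * T := by
              rw [hTdef, ← map_mul, eq_comm, hmk]
              push_cast
              have : (y * (q : G) * y⁻¹ * t)⁻¹ * (y * (y * q * y⁻¹) * y⁻¹) =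
                  t⁻¹ * ((y * t * y⁻¹) * (y * a * y⁻¹)) := by
                conv_lhs => arg 2; rw [hqa]
                group
              rw [this, ← hy.2.1, mul_inv_cancel_right, inv_mul_cancel_left]
              exact hy.1.1 a ha
            rw [h2] at h3
            exact L.t_not_mem (by
              have h4 := (hmk _ _).1 (mul_left_cancel ((mul_one _).trans h3) :
                (1 : L.P ⧸ N) = T).symm
              simpa [hTdef, Fr.t_inv'] using h4)
          · rw [h2, hq1, mul_assoc, hTT, mul_one]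
      have hpow : ∀ n : ℕ, z ^ n ∈ Z := fun n => pow_mem hzZ n
      -- the `2`-part lies in `P`
      have h2part : z ^ m ∈ L.P := by
        have hQ : IsPGroup 2 ↥(L.P ⊔ Subgroup.zpowers (z ^ m)) := by
          refine L.isPGroup_P.to_sup_of_normal_left' ?_ ?_
          · refine IsPGroup.of_card (n := k) ?_
            rw [Nat.card_zpowers, orderOf_pow' _ hodd.pos.ne', ← ho, ← hom,
              Nat.gcd_eq_right (Dvd.intro_left _ rfl), Nat.mul_div_cancel _ hodd.pos]
          · rw [Subgroup.zpowers_le, Subgroup.mem_normalizer_iff]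
            refine fun q => ⟨fun hq => (hpow m).2.2 q hq, fun hq => ?_⟩
            simpa [mul_assoc] using conj_mem_of_forall (hpow m).2.2 hq
        have := L.P_max hQ le_sup_left (sup_le L.P_le_W (Subgroup.zpowers_le.2 (hpow m).1))
        exact this ▸ Subgroup.mem_sup_right (Subgroup.mem_zpowers _)
      have hE : ∀ q : L.P, ∀ h, mk ⟨z ^ m * q * (z ^ m)⁻¹, h⟩ = mk q := by
        intro q h
        have e : (⟨z ^ m * q * (z ^ m)⁻¹, h⟩ : L.P) =
            ⟨z ^ m, h2part⟩ * q * ⟨z ^ m, h2part⟩⁻¹ := Subtype.ext (by simp)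
        rw [e, map_mul, map_mul, map_inv, hcomm (mk ⟨z ^ m, h2part⟩), mul_inv_cancel_right]
      by_cases hk : k = 0
      · have hmo : m = o := by rw [← hom, hk, pow_zero, one_mul]
        obtain ⟨j, hj⟩ := (hmo ▸ hodd).add_one
        have hz2 : z ^ j * z ^ j = z := by
          rw [← pow_add, ← hj, ho, pow_succ, pow_orderOf_eq_one, one_mul]
        have := sqT _ (hpow j) p (by rw [hz2]; exact hzP p p.2)
        simp only [hz2] at this
        exact this
      · have he : Even (o + 1 - m) := by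
          have ho2 : Even o := hom ▸ (even_two.pow_of_ne_zero hk).mul_right m
          have hle' : m ≤ o := Nat.div_le_self _ _
          rw [Nat.even_sub (by omega)]
          exact iff_of_false (Nat.not_even_iff_odd.2 ho2.add_one) (Nat.not_even_iff_odd.2 hodd)
        obtain ⟨j, hj⟩ := he
        have hz2 : z ^ m * (z ^ j * z ^ j) = z := by
          rw [← pow_add, ← hj, ← pow_add, Nat.add_sub_cancel' (by
            have := Nat.div_le_self o (2 ^ k)
            omega), pow_succ, ho, pow_orderOf_eq_one, one_mul]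
        have h1 := sqT _ (hpow j) p ((mul_mem (hpow j) (hpow j)).2.2 p p.2)
        have h2 := hE ⟨z ^ j * z ^ j * p * (z ^ j * z ^ j)⁻¹, (mul_mem (hpow j) (hpow j)).2.2 p p.2⟩
          ((hpow m).2.2 _ ((mul_mem (hpow j) (hpow j)).2.2 p p.2))
        rw [h1] at h2
        refine Eq.trans ?_ h2
        congr 1
        refine Subtype.ext ?_
        show z * (p : G) * z⁻¹ = _
        have e' : ∀ w, w = z → z * (p : G) * z⁻¹ = w * p * w⁻¹ := fun w hw => by rw [hw]
        rw [e' _ hz2]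
        push_cast
        group
    -- now compute
    obtain ⟨a, ha, hxa⟩ : ∃ a ∈ L.A, x = g0 * (p : G) * g0⁻¹ * (p : G)⁻¹ * a := by
      have h1 : mk (cj p * p⁻¹) = mk ⟨x, hle hx⟩ := by rw [map_mul, map_inv]; exact hp
      rw [hmk] at h1
      refine ⟨_, h1, ?_⟩
      push_cast
      simp [cj, mul_assoc]
    obtain ⟨a', ha', hza⟩ : ∃ a' ∈ L.A, z * (p : G) * z⁻¹ = p * a' :=
      ⟨_, (hmk _ _).1 hT.symm, by simp⟩
    show mk (cj ⟨g * p * g⁻¹, hgP p p.2⟩) * (mk ⟨g * p * g⁻¹, hgP p p.2⟩)⁻¹ = _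
    rw [← map_inv, ← map_mul, hmk]
    push_cast
    simp only [cj, MonoidHom.coe_mk, OneHom.coe_mk]
    have hgg : g * g0 = g0 * g * z := by rw [hz]; group
    have e : (g0 * (g * (p : G) * g⁻¹) * g0⁻¹ * (g * p * g⁻¹)⁻¹)⁻¹ * (g * x * g⁻¹) =
        (g * p * g⁻¹) * (g0 * g * ((p : G)⁻¹ * (z * p * z⁻¹)) * (g0 * g)⁻¹) *
          (g * p * g⁻¹)⁻¹ * (g * a * g⁻¹) := by
      rw [hxa]
      have : g * (g0 * (p : G) * g0⁻¹ * (p : G)⁻¹ * a) * g⁻¹ =
          (g * g0) * p * (g * g0)⁻¹ * (g * (p : G)⁻¹ * g⁻¹) * (g * a * g⁻¹) := by group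
      rw [this, hgg]
      group
    rw [e, hza, inv_mul_cancel_left, show g0 * g * a' * (g0 * g)⁻¹ =
      g0 * (g * a' * g⁻¹) * g0⁻¹ by group]
    exact mul_mem ((L.P_le_W (hgP p p.2)).1 _ (hg0.2.1 _ (hg.2.1 _ ha'))) (hg.2.1 _ ha)

end Level

end Cfsg.Agent.Lib.TwoTimesPSL
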