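import Mathlib
import Cfsg.Agent.Lib.TwoTimesPSL.Comp

/-!
# One step: a larger level, or a group in which the conjugates of `t` form one class
Owner: helper80.
-/

set_option autoImplicit false
set_option linter.unusedSectionVars false

namespace Cfsg.Agent.Lib.TwoTimesPSL

variable {G : Type*} [Group G] [Finite G] {t : G} {K : Type*} [Field K] [Finite K] [CharP K 2]
  {Fr : Frame t K}

namespace Level

variable {L : Level Fr} (C : L.Comp)

namespace Comp

theorem le_W {x : G} (hx : x ∈ C.B) : x ∈ L.W := L.P_le_W (C.le_P hx)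

/-- A lift of a class. -/
noncomputable def lift (v : K) : G := Classical.choose (C.surj v)

theorem lift_mem (v : K) : C.lift v ∈ C.B := (Classical.choose_spec (C.surj v)).1

theorem d_lift (v : K) : L.d (C.lift v) = v := (Classical.choose_spec (C.surj v)).2

theorem d_inv {x : G} (hx : x ∈ C.B) : L.d x⁻¹ = L.d x := by
  have h := L.d_mul (C.le_W (inv_mem hx)) (C.le_W hx)
  rw [inv_mul_cancel, L.d_of_mem_A (one_mem _)] at h
  exact CharTwo.add_eq_zero.1 h.symm

theorem lift_decomp {x : G} (hx : x ∈ C.B) : (C.lift (L.d x))⁻¹ * x ∈ L.A :=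
  C.ker _ (mul_mem (inv_mem (C.lift_mem _)) hx) (by
    rw [L.d_mul (C.le_W (inv_mem (C.lift_mem _))) (C.le_W hx), C.d_inv (C.lift_mem _), C.d_lift,
      CharTwo.add_self_eq_zero])

theorem comm_mem_A {x y : G} (hx : x ∈ C.B) (hy : y ∈ C.B) : x * y * x⁻¹ * y⁻¹ ∈ L.A :=
  L.comm_mem (C.le_P hx) (C.le_P hy)

theorem top_comm_mul_left {x y z : G} (hx : x ∈ C.B) (hy : y ∈ C.B) (hz : z ∈ C.B) :
    L.top (x * y * z * (x * y)⁻¹ * z⁻¹) =
      L.top (x * z * x⁻¹ * z⁻¹) + L.top (y * z * y⁻¹ * z⁻¹) := by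
  have e : x * y * z * (x * y)⁻¹ * z⁻¹ =
      x * (y * z * y⁻¹ * z⁻¹) * x⁻¹ * (x * z * x⁻¹ * z⁻¹) := by group
  have h1 := C.comm_mem_A hy hz
  have h2 := (C.le_W hx).1 _ h1
  rw [e, L.top_mul h2 (C.comm_mem_A hx hz), L.top_conj h1 h2 (C.le_W hx).2.1, add_comm]

theorem top_comm_swap {x y : G} (hx : x ∈ C.B) (hy : y ∈ C.B) :
    L.top (x * y * x⁻¹ * y⁻¹) = L.top (y * x * y⁻¹ * x⁻¹) := by
  rw [← L.top_inv (C.comm_mem_A hy hx)]
  congr 1
  group

theorem top_comm_A {a z : G} (ha : a ∈ L.A) (hz : z ∈ C.B) :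
    L.top (a * z * a⁻¹ * z⁻¹) = 0 := by
  have h1 := (C.le_W hz).1 _ (inv_mem ha)
  rw [show a * z * a⁻¹ * z⁻¹ = a * (z * a⁻¹ * z⁻¹) by group, L.top_mul ha h1,
    L.top_conj (inv_mem ha) h1 (C.le_W hz).2.1, L.top_inv ha, CharTwo.add_self_eq_zero]

theorem top_comm_eq_left {x x' z : G} (hx : x ∈ C.B) (hx' : x' ∈ C.B) (hz : z ∈ C.B)
    (h : L.d x = L.d x') : L.top (x * z * x⁻¹ * z⁻¹) = L.top (x' * z * x'⁻¹ * z⁻¹) := by
  have ha : x'⁻¹ * x ∈ L.A := C.ker _ (mul_mem (inv_mem hx') hx) (by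
    rw [L.d_mul (C.le_W (inv_mem hx')) (C.le_W hx), C.d_inv hx', h, CharTwo.add_self_eq_zero])
  have h1 := C.top_comm_mul_left hx' (C.A_le ha) hz
  rw [mul_inv_cancel_left, C.top_comm_A ha hz, add_zero] at h1
  exact h1

/-- Commutators in `B` have top coordinate zero. -/
theorem top_comm {x y : G} (hx : x ∈ C.B) (hy : y ∈ C.B) :
    L.top (x * y * x⁻¹ * y⁻¹) = 0 := by
  set Γ : K → K → K :=
    fun v w => L.top (C.lift v * C.lift w * (C.lift v)⁻¹ * (C.lift w)⁻¹) with hΓ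
  have key : ∀ {a b : G}, a ∈ C.B → b ∈ C.B →
      L.top (a * b * a⁻¹ * b⁻¹) = Γ (L.d a) (L.d b) := by
    intro a b ha hb
    rw [C.top_comm_eq_left ha (C.lift_mem _) hb (C.d_lift _).symm,
      C.top_comm_swap (C.lift_mem _) hb,
      C.top_comm_eq_left hb (C.lift_mem _) (C.lift_mem _) (C.d_lift _).symm,
      C.top_comm_swap (C.lift_mem _) (C.lift_mem _)]
  have hadd : ∀ u v w, Γ (u + v) w = Γ u w + Γ v w := by
    intro u v w
    have h := C.top_comm_mul_left (C.lift_mem u) (C.lift_mem v) (C.lift_mem w)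
    rw [key (mul_mem (C.lift_mem u) (C.lift_mem v)) (C.lift_mem w),
      L.d_mul (C.le_W (C.lift_mem u)) (C.le_W (C.lift_mem v)), C.d_lift, C.d_lift, C.d_lift] at h
    exact h
  have hsw : ∀ u v, Γ u v = Γ v u := fun u v =>
    C.top_comm_swap (C.lift_mem u) (C.lift_mem v)
  rw [key hx hy]
  refine Field2.form_eq_zero Γ hadd (fun u v w => by
    rw [hsw, hadd, hsw v, hsw w]) (fun v => ?_) (fun c v w hc => ?_) _ _
  · simp [hΓ, mul_inv_cancel_right, L.top_one]
  · obtain ⟨g, hg, hgB⟩ := C.scaler c hc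
    have h1 := (Level.IsScaler.conj_W L hc hg (C.le_W (C.lift_mem v))).2
    have h2 := (Level.IsScaler.conj_W L hc hg (C.le_W (C.lift_mem w))).2
    rw [C.d_lift] at h1 h2
    rw [← h1, ← h2, ← key (hgB _ (C.lift_mem v)) (hgB _ (C.lift_mem w))]
    have hm := C.comm_mem_A (C.lift_mem v) (C.lift_mem w)
    rw [show g * C.lift v * g⁻¹ * (g * C.lift w * g⁻¹) * (g * C.lift v * g⁻¹)⁻¹ *
      (g * C.lift w * g⁻¹)⁻¹ =
        g * (C.lift v * C.lift w * (C.lift v)⁻¹ * (C.lift w)⁻¹) * g⁻¹ by group,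
      L.top_scale hm (hg.2.1 _ hm) hg.2.2]

/-- At the bottom level `B` is commutative. -/
theorem comm_of_base (hA : L.A = Fr.U) {x y : G} (hx : x ∈ C.B) (hy : y ∈ C.B) :
    x * y = y * x := by
  have h := C.top_comm hx hy
  obtain ⟨b, hb, hbb⟩ := L.exists_sqrt (C.comm_mem_A hx hy) h
  rw [hA] at hb
  obtain ⟨v, rfl⟩ := Frame.mem_U Fr |>.1 hb
  rw [Fr.ι_mul_self] at hbb
  exact commutatorElement_eq_one_iff_mul_comm.1 hbb.symm

theorem sq_mem_A {x : G} (hx : x ∈ C.B) : x * x ∈ L.A := L.sq_mem (C.le_P hx)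

/-- An inverted element outside `A`. -/
theorem d_inverted {x : G} (hi : t * x * t = x⁻¹) : L.d x = L.top (x * x) := by
  rw [d]
  congr 1
  calc x * t * x⁻¹ * t = x * t * (t * x * t) * t := by rw [hi]
    _ = x * (t * t) * x * (t * t) := by group
    _ = x * x := by rw [Fr.t_inv, mul_one, mul_one]

variable (hinv : ∀ v : K, ∃ x ∈ C.B, L.d x = v ∧ t * x * t = x⁻¹)
include hinv

theorem delta_pow (j : ℕ) (hj : 1 ≤ j) {x a : G} (hx : x ∈ C.B) (ha : a ∈ L.A) :
    ∃ b ∈ L.A, x * a * x⁻¹ * a⁻¹ = b ^ 2 ^ j := by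
  induction j, hj using Nat.le_induction generalizing x a with
  | base =>
    obtain ⟨b, hb, hbb⟩ := L.exists_sqrt (C.comm_mem_A hx (C.A_le ha))
      (C.top_comm hx (C.A_le ha))
    exact ⟨b, hb, by rw [pow_one, pow_two, hbb]⟩
  | succ j hj ih =>
    classical
    by_cases hje : L.expLog ≤ j
    · obtain ⟨b, hb, hbb⟩ := ih hx ha
      refine ⟨1, one_mem _, ?_⟩
      rw [hbb, one_pow, ← Nat.sub_add_cancel hje, pow_add, mul_comm, pow_mul, L.pow_expLog hb,
        one_pow]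
    push Not at hje
    choose r hr hrr using fun (p : {p : G × G // p.1 ∈ C.B ∧ p.2 ∈ L.A}) => ih p.2.1 p.2.2
    set val : G → G → K := fun y c =>
      if h : y ∈ C.B ∧ c ∈ L.A then L.top (r ⟨(y, c), h⟩) else 0 with hval
    have hv : ∀ {y c b : G}, y ∈ C.B → c ∈ L.A → b ∈ L.A → y * c * y⁻¹ * c⁻¹ = b ^ 2 ^ j →
        val y c = L.top b := by
      intro y c b hy hc hb hbb
      simp only [val, dif_pos (And.intro hy hc)]
      have h1 := hrr ⟨(y, c), hy, hc⟩
      simp only at h1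
      rw [h1] at hbb
      have h2 : (r ⟨(y, c), hy, hc⟩ * b⁻¹) ^ 2 ^ j = 1 := by
        rw [(show Commute _ b⁻¹ from L.comm _ (hr _) _ (inv_mem hb)).mul_pow, inv_pow, hbb,
          mul_inv_cancel]
      have h3 := L.top_eq_zero_of_pow (mul_mem (hr _) (inv_mem hb)) hje h2
      rw [L.top_mul (hr _) (inv_mem hb), L.top_inv hb] at h3
      exact CharTwo.add_eq_zero.1 h3
    have hmulr : ∀ {y c c' : G}, y ∈ C.B → c ∈ L.A → c' ∈ L.A →
        val y (c * c') = val y c + val y c' := by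
      intro y c c' hy hc hc'
      obtain ⟨b, hb, hbb⟩ := ih hy hc
      obtain ⟨b', hb', hbb'⟩ := ih hy hc'
      rw [hv hy hc hb hbb, hv hy hc' hb' hbb', ← L.top_mul hb hb']
      refine hv hy (mul_mem hc hc') (mul_mem hb hb') ?_
      rw [(show Commute b b' from L.comm b hb b' hb').mul_pow, ← hbb, ← hbb']
      have h1 : c⁻¹ * (y * c' * y⁻¹ * c'⁻¹) = (y * c' * y⁻¹ * c'⁻¹) * c⁻¹ :=
        L.comm _ (inv_mem hc) _ (C.comm_mem_A hy (C.A_le hc'))
      calc y * (c * c') * y⁻¹ * (c * c')⁻¹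
          = y * c * y⁻¹ * ((y * c' * y⁻¹ * c'⁻¹) * c⁻¹) := by group
        _ = y * c * y⁻¹ * (c⁻¹ * (y * c' * y⁻¹ * c'⁻¹)) := by rw [h1]
        _ = _ := by group
    have hmull : ∀ {y y' c : G}, y ∈ C.B → y' ∈ C.B → c ∈ L.A →
        val (y * y') c = val y c + val y' c := by
      intro y y' c hy hy' hc
      obtain ⟨b, hb, hbb⟩ := ih hy hc
      obtain ⟨b', hb', hbb'⟩ := ih hy' hc
      have hm := (C.le_W hy).1 b' hb'
      rw [hv hy hc hb hbb, hv hy' hc hb' hbb', add_comm,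
        ← L.top_conj hb' hm (C.le_W hy).2.1, ← L.top_mul hm hb]
      refine hv (mul_mem hy hy') hc (mul_mem hm hb) ?_
      rw [(show Commute _ b from L.comm _ hm b hb).mul_pow, ← hbb, Level.conj_pow', ← hbb']
      group
    have hA0 : ∀ {y c : G}, y ∈ L.A → c ∈ L.A → val y c = 0 := by
      intro y c hy hc
      rw [hv (C.A_le hy) hc (one_mem _) (by rw [L.comm y hy c hc, one_pow]; group), L.top_one]
    have hsq0 : ∀ {y c : G}, y ∈ C.B → c ∈ L.A → L.top c = 0 → val y c = 0 := by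
      intro y c hy hc h0
      obtain ⟨c', hc', rfl⟩ := L.exists_sqrt hc h0
      rw [hmulr hy hc' hc', CharTwo.add_self_eq_zero]
    have hdep : ∀ {y y' c c' : G}, y ∈ C.B → y' ∈ C.B → c ∈ L.A → c' ∈ L.A → L.d y = L.d y' →
        L.top c = L.top c' → val y c = val y' c' := by
      intro y y' c c' hy hy' hc hc' hd ht'
      have ha : y'⁻¹ * y ∈ L.A := C.ker _ (mul_mem (inv_mem hy') hy) (by
        rw [L.d_mul (C.le_W (inv_mem hy')) (C.le_W hy), C.d_inv hy', hd, CharTwo.add_self_eq_zero])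
      have h1 := hmull hy' (C.A_le ha) hc
      rw [mul_inv_cancel_left, hA0 ha hc, add_zero] at h1
      have h2 := hmulr hy' hc' (mul_mem (inv_mem hc') hc)
      rw [mul_inv_cancel_left, hsq0 hy' (mul_mem (inv_mem hc') hc) (by
        rw [L.top_mul (inv_mem hc') hc, L.top_inv hc', ht', CharTwo.add_self_eq_zero]),
        add_zero] at h2
      rw [h1, h2]
    choose la hla hlat using L.top_surj
    choose li hli hlid hlii using hinv
    set B : K → K → K := fun v w => val (li v) (la w) with hB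
    have key : ∀ {y c : G}, y ∈ C.B → c ∈ L.A → val y c = B (L.d y) (L.top c) := fun hy hc =>
      hdep hy (hli _) hc (hla _) (hlid _).symm (hlat _).symm
    have hzero : ∀ v w, B v w = 0 := by
      refine Field2.form_eq_zero B (fun u v w => ?_) (fun u v w => ?_) (fun v => ?_)
        (fun c v w hc => ?_)
      · have h := hmull (hli u) (hli v) (hla w)
        rw [key (mul_mem (hli u) (hli v)) (hla w), L.d_mul (C.le_W (hli u)) (C.le_W (hli v)),
          hlid, hlid, hlat] at h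
        exact h
      · have h := hmulr (hli u) (hla v) (hla w)
        rw [key (hli u) (mul_mem (hla v) (hla w)), L.top_mul (hla v) (hla w), hlid, hlat,
          hlat] at h
        exact h
      · have h1 := C.sq_mem_A (hli v)
        have h2 : L.top (li v * li v) = v := by rw [← Level.Comp.d_inverted (L := L) (hlii v), hlid]
        have h3 := key (hli v) h1
        rw [hlid, h2] at h3
        rw [← h3, hv (hli v) h1 (one_mem _) (by rw [one_pow]; group), L.top_one]
      · obtain ⟨g, hg, hgB⟩ := C.scaler c hc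
        have hy := hgB _ (hli v)
        have hw := hg.2.1 _ (hla w)
        obtain ⟨b, hb, hbb⟩ := ih (hli v) (hla w)
        have h3 := key hy hw
        rw [(Level.IsScaler.conj_W L hc hg (C.le_W (hli v))).2, hlid,
          L.top_scale (hla w) hw hg.2.2, hlat] at h3
        rw [← h3, hv hy hw (hg.2.1 _ hb) (by rw [Level.conj_pow', ← hbb]; group),
          L.top_scale hb (hg.2.1 _ hb) hg.2.2]
        congr 1
        exact (hv (hli v) (hla w) hb hbb).symm
    obtain ⟨b, hb, hbb⟩ := ih hx ha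
    obtain ⟨c, hc, rfl⟩ := L.exists_sqrt hb (by rw [← hv hx ha hb hbb, key hx ha, hzero])
    exact ⟨c, hc, by rw [hbb, pow_succ', pow_mul, pow_two]⟩

theorem central {x a : G} (hx : x ∈ C.B) (ha : a ∈ L.A) : x * a = a * x := by
  obtain ⟨b, hb, hbb⟩ := C.delta_pow hinv (max 1 L.expLog) (le_max_left _ _) hx ha
  rw [← Nat.sub_add_cancel (le_max_right 1 L.expLog), pow_add, mul_comm, pow_mul,
    L.pow_expLog hb, one_pow] at hbb
  exact commutatorElement_eq_one_iff_mul_comm.1 hbb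

theorem B_comm {x y : G} (hx : x ∈ C.B) (hy : y ∈ C.B) : x * y = y * x := by
  choose li hli hlid hlii using hinv
  have hinv' : ∀ v : K, ∃ x ∈ C.B, L.d x = v ∧ t * x * t = x⁻¹ :=
    fun v => ⟨li v, hli v, hlid v, hlii v⟩
  have hcen : ∀ {z a : G}, z ∈ C.B → a ∈ L.A → Commute z a := fun hz ha =>
    C.central hinv' hz ha
  have hca : ∀ {p q r : G}, p ∈ C.B → q ∈ C.B → r ∈ C.B →
      Commute r (p * q * p⁻¹ * q⁻¹) := fun hp hq hr => hcen hr (C.comm_mem_A hp hq)
  have hmull : ∀ {p q r : G}, p ∈ C.B → q ∈ C.B → r ∈ C.B →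
      p * q * r * (p * q)⁻¹ * r⁻¹ = (p * r * p⁻¹ * r⁻¹) * (q * r * q⁻¹ * r⁻¹) := by
    intro p q r hp hq hr
    have h1 := (hca hq hr hp).eq
    calc p * q * r * (p * q)⁻¹ * r⁻¹
        = p * (q * r * q⁻¹ * r⁻¹) * p⁻¹ * (p * r * p⁻¹ * r⁻¹) := by group
      _ = q * r * q⁻¹ * r⁻¹ * (p * r * p⁻¹ * r⁻¹) := by rw [h1, mul_inv_cancel_right]
      _ = _ := L.comm _ (C.comm_mem_A hq hr) _ (C.comm_mem_A hp hr)
  have hsq : ∀ {p q : G}, p ∈ C.B → q ∈ C.B →
      (p * q * p⁻¹ * q⁻¹) * (p * q * p⁻¹ * q⁻¹) = 1 := by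
    intro p q hp hq
    rw [← hmull hp hp hq]
    rw [(hcen hq (C.sq_mem_A hp)).symm.eq]
    group
  have hU : ∀ v w, ∃ u, li v * li w * (li v)⁻¹ * (li w)⁻¹ = Fr.ι u := fun v w =>
    L.sq_eq_one (C.comm_mem_A (hli v) (hli w)) (hsq (hli v) (hli w))
  choose Γ hΓ using hU
  have key : ∀ {p q : G}, p ∈ C.B → q ∈ C.B →
      p * q * p⁻¹ * q⁻¹ = Fr.ι (Γ (L.d p) (L.d q)) := by
    intro p q hp hq
    have hp' : (li (L.d p))⁻¹ * p ∈ L.A := C.ker _ (mul_mem (inv_mem (hli _)) hp) (by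
      rw [L.d_mul (C.le_W (inv_mem (hli _))) (C.le_W hp), C.d_inv (hli _), hlid,
        CharTwo.add_self_eq_zero])
    have hq' : (li (L.d q))⁻¹ * q ∈ L.A := C.ker _ (mul_mem (inv_mem (hli _)) hq) (by
      rw [L.d_mul (C.le_W (inv_mem (hli _))) (C.le_W hq), C.d_inv (hli _), hlid,
        CharTwo.add_self_eq_zero])
    set a := (li (L.d p))⁻¹ * p
    set b := (li (L.d q))⁻¹ * q
    set x' := li (L.d p)
    set y' := li (L.d q)
    have ep : p = x' * a := by simp [a, x']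
    have eq' : q = y' * b := by simp [b, y']
    rw [← hΓ]
    conv_lhs => rw [ep, eq']
    have h1 : Commute (y' * b) a := hcen (eq' ▸ hq) hp'
    have h2 : Commute x' b := hcen (hli _) hq'
    calc x' * a * (y' * b) * (x' * a)⁻¹ * (y' * b)⁻¹
        = x' * (a * (y' * b)) * a⁻¹ * x'⁻¹ * (y' * b)⁻¹ := by group
      _ = x' * ((y' * b) * a) * a⁻¹ * x'⁻¹ * (y' * b)⁻¹ := by rw [h1.eq]
      _ = x' * y' * (b * x'⁻¹) * (b⁻¹ * y'⁻¹) := by group
      _ = x' * y' * (x'⁻¹ * b) * (b⁻¹ * y'⁻¹) := by rw [h2.inv_left.eq]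
      _ = _ := by simp only [x', y']; group
  have hsw : ∀ u v, Γ u v = Γ v u := fun u v => Fr.ι_inj (by
    rw [← hΓ, ← hΓ, ← inv_eq_of_mul_eq_one_right (hsq (hli u) (hli v))]
    group)
  have hadd : ∀ u v w, Γ (u + v) w = Γ u w + Γ v w := by
    intro u v w
    have h := hmull (hli u) (hli v) (hli w)
    rw [key (mul_mem (hli u) (hli v)) (hli w), L.d_mul (C.le_W (hli u)) (C.le_W (hli v)),
      hlid, hlid, hlid, hΓ, hΓ, ← Fr.ι_add] at h
    exact Fr.ι_inj h
  have hz : ∀ v w, Γ v w = 0 := by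
    refine Field2.form_eq_zero Γ hadd (fun u v w => by rw [hsw, hadd, hsw v, hsw w])
      (fun v => Fr.ι_inj (by rw [← hΓ, Fr.ι_zero]; group)) (fun c v w hc => Fr.ι_inj ?_)
    obtain ⟨g, hg, hgB⟩ := C.scaler c hc
    have h := key (hgB _ (hli v)) (hgB _ (hli w))
    rw [(Level.IsScaler.conj_W L hc hg (C.le_W (hli v))).2,
      (Level.IsScaler.conj_W L hc hg (C.le_W (hli w))).2, hlid, hlid] at h
    rw [← h, ← hg.2.2, ← hΓ]
    group
  have h := key hx hy
  rw [hz, Fr.ι_zero] at h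
  exact commutatorElement_eq_one_iff_mul_comm.1 h

/-- The next level. -/
theorem exists_next (hq : 2 < Nat.card K) : ∃ L' : Level Fr, Nat.card L.A < Nat.card L'.A := by
  classical
  have hinv' := hinv
  choose li hli hlid hlii using hinv
  have hI : ∀ x ∈ C.B, t * x * t = x⁻¹ := by
    intro x hx
    have ha : (li (L.d x))⁻¹ * x ∈ L.A := C.ker _ (mul_mem (inv_mem (hli _)) hx) (by
      rw [L.d_mul (C.le_W (inv_mem (hli _))) (C.le_W hx), C.d_inv (hli _), hlid,
        CharTwo.add_self_eq_zero])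
    set a := (li (L.d x))⁻¹ * x
    set x' := li (L.d x)
    have ex : x = x' * a := by simp [a, x']
    rw [ex, show t * (x' * a) * t = (t * x' * t) * (t⁻¹ * a * t) by group, hlii, Fr.t_inv',
      L.inv a ha]
    exact (C.B_comm hinv' (inv_mem (hli _)) (inv_mem (C.A_le ha))).trans
      (_root_.mul_inv_rev x' a).symm
  have hfix : ∀ x ∈ C.B, t * x = x * t → ∃ v, x = Fr.ι v := by
    intro x hx hc
    have hd : L.d x = 0 := by rw [d, ← hc, mul_inv_cancel_right, Fr.t_inv, L.top_one]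
    exact L.fixed x (C.ker x hx hd) hc
  have hsc : ∀ c, c ≠ 0 → ∃ g, (t * g = g * t) ∧ (∀ v, g * Fr.ι v * g⁻¹ = Fr.ι (c * v)) ∧
      ∀ x ∈ C.B, g * x * g⁻¹ ∈ C.B := fun c hc => by
    obtain ⟨g, hg, hgB⟩ := C.scaler c hc
    exact ⟨g, hg.1, hg.2.2, hgB⟩
  refine ⟨{ A := C.B
            comm := fun a ha b hb => C.B_comm hinv' ha hb
            pgroup := L.isPGroup_P.to_le C.le_P
            ι_mem := fun a => C.A_le (L.ι_mem a)
            inv := hI
            t_not_mem := C.t_not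
            fixed := hfix
            scal := fun c hc => ?_ }, ?_⟩
  · obtain ⟨g, h1, h2, h3⟩ := hsc c hc
    exact ⟨g, h1, h3, h2⟩
  · have hlt : L.A < C.B := by
      refine lt_of_le_of_ne C.A_le fun h => ?_
      have h1 := hli 1
      rw [← h] at h1
      have h2 := hlid 1
      rw [L.d_of_mem_A h1] at h2
      exact one_ne_zero h2.symm
    exact lt_of_le_of_ne (Subgroup.card_le_of_le C.A_le) fun h =>
      hlt.ne (Subgroup.eq_of_le_of_card_ge C.A_le h.ge)

/-- The outcome when the involutions of `B t` lie in `A t`. -/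
structure _root_.Cfsg.Agent.Lib.TwoTimesPSL.Closed {t : G} {K : Type*} [Field K]
    (Fr : Frame t K) where
  P : Subgroup G
  B : Subgroup G
  pgroup : IsPGroup 2 P
  B_le : B ≤ P
  t_mem : t ∈ P
  t_not : t ∉ B
  cover : ∀ x ∈ P, x ∈ B ∨ x * t ∈ B
  ι_mem : ∀ a, Fr.ι a ∈ P
  cent_t : ∀ x ∈ P, t * x = x * t → ∃ a, x = Fr.ι a ∨ x = t * Fr.ι a
  conj : ∀ x ∈ P, x ∉ B → x * x = 1 → ∃ p ∈ P, p * t * p⁻¹ = x
  big : ∀ x ∈ B, x * x = 1 → x ≠ 1 →
    2 * Nat.card K < Nat.card ↥(P ⊓ Subgroup.centralizer ({x} : Set G))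

omit hinv in
theorem card_sq_le {H : Subgroup G} (y : K → G) (hy : ∀ v, y v ∈ H) (hd : ∀ v, L.d (y v) = v)
    (hU : ∀ v, Fr.ι v ∈ H) (hW : ∀ v, y v ∈ L.W) : Nat.card K * Nat.card K ≤ Nat.card H := by
  rw [← Nat.card_prod]
  refine Nat.card_le_card_of_injective
    (fun p : K × K => (⟨y p.1 * Fr.ι p.2, mul_mem (hy _) (hU _)⟩ : H)) ?_
  rintro ⟨v, u⟩ ⟨v', u'⟩ h
  have h' : y v * Fr.ι u = y v' * Fr.ι u' := congrArg Subtype.val h
  have h1 := congrArg L.d h'
  rw [L.d_mul (hW _) (L.A_le_W (L.ι_mem _)), L.d_mul (hW _) (L.A_le_W (L.ι_mem _)), hd, hd,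
    L.d_of_mem_A (L.ι_mem _), L.d_of_mem_A (L.ι_mem _), add_zero, add_zero] at h1
  subst h1
  rw [Fr.ι_inj (mul_left_cancel h')]

omit hinv in
theorem exists_closed (hq : 2 < Nat.card K)
    (hno : ∀ x ∈ C.B, t * x * t = x⁻¹ → x ∈ L.A) : Nonempty (Closed Fr) := by
  classical
  have hinv2 : ∀ {y : G}, y * y = 1 → y⁻¹ = y := fun h => inv_eq_of_mul_eq_one_right h
  refine ⟨{ P := L.P
            B := C.B
            pgroup := L.isPGroup_P
            B_le := C.le_P
            t_mem := L.t_mem_P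
            t_not := C.t_not
            cover := C.cover
            ι_mem := fun a => L.A_le_P (L.ι_mem a)
            cent_t := fun x hx hc => L.cent_P hx hc
            conj := ?_
            big := ?_ }⟩
  · intro x hx hxB hxx
    have hxt : x * t ∈ C.B := (C.cover x hx).resolve_left hxB
    have hA : x * t ∈ L.A := hno _ hxt (by
      rw [mul_assoc, mul_assoc x t t, Fr.t_inv, mul_one, mul_inv_rev, hinv2 hxx, Fr.t_inv'])
    set a := x * t with ha
    obtain ⟨p, hp, hpd⟩ := C.surj (L.top a)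
    have hpW := (C.le_W hp).2.2
    obtain ⟨b, hb, hbb⟩ := L.exists_sqrt (mul_mem (inv_mem hpW) hA) (by
      rw [L.top_mul (inv_mem hpW) hA, L.top_inv hpW, show L.top (p * t * p⁻¹ * t) = L.top a from hpd,
        CharTwo.add_self_eq_zero])
    refine ⟨b * p, mul_mem (L.A_le_P hb) (C.le_P hp), ?_⟩
    have e1 : p * t * p⁻¹ = (p * t * p⁻¹ * t) * t := by rw [mul_assoc _ t t, Fr.t_inv, mul_one]
    calc b * p * t * (b * p)⁻¹ = b * (p * t * p⁻¹) * b⁻¹ := by group
      _ = b * ((p * t * p⁻¹ * t) * t) * b⁻¹ := by rw [← e1]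
      _ = (b * (p * t * p⁻¹ * t)) * (t * b⁻¹ * t) * t⁻¹ := by group
      _ = (b * (p * t * p⁻¹ * t)) * b * t := by rw [L.inv _ (inv_mem hb), inv_inv, Fr.t_inv']
      _ = ((p * t * p⁻¹ * t) * b) * b * t := by rw [L.comm b hb _ hpW]
      _ = (p * t * p⁻¹ * t) * ((p * t * p⁻¹ * t)⁻¹ * a) * t := by
        rw [mul_assoc (p * t * p⁻¹ * t) b b, hbb]
      _ = x := by rw [mul_inv_cancel_left, ha, mul_assoc, Fr.t_inv, mul_one]
  · intro x hx hxx hx1
    have hqq : 2 * Nat.card K < Nat.card K * Nat.card K :=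
      (Nat.mul_lt_mul_right Nat.card_pos).2 hq
    set H := L.P ⊓ Subgroup.centralizer ({x} : Set G)
    have hxW := C.le_W hx
    have hUH : ∀ v, Fr.ι v ∈ H := fun v => ⟨L.A_le_P (L.ι_mem v),
      Subgroup.mem_centralizer_singleton_iff.2 (hxW.2.1 v).symm⟩
    by_cases hxA : x ∈ L.A
    · obtain ⟨v, rfl⟩ := L.sq_eq_one hxA hxx
      refine hqq.trans_le (Level.Comp.card_sq_le (L := L) C.lift (fun u => ⟨C.le_P (C.lift_mem u),
        Subgroup.mem_centralizer_singleton_iff.2 ((C.le_W (C.lift_mem u)).2.1 v)⟩) C.d_lift hUH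
          fun u => C.le_W (C.lift_mem u))
    by_cases hF : ∃ a ∈ L.A, x * a = a * x ∧ ∀ v, a ≠ Fr.ι v
    · obtain ⟨a, ha, hxa, hane⟩ := hF
      have h4 : Nat.card (Bool × Bool × K) ≤ Nat.card H := by
        have hxH : x ∈ H := ⟨C.le_P hx, Subgroup.mem_centralizer_singleton_iff.2 rfl⟩
        have haH : a ∈ H := ⟨L.A_le_P ha, Subgroup.mem_centralizer_singleton_iff.2 hxa.symm⟩
        refine Nat.card_le_card_of_injective (fun p : Bool × Bool × K =>
          (⟨(cond p.1 x 1) * ((cond p.2.1 a 1) * Fr.ι p.2.2),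
            mul_mem (by cases p.1; exacts [one_mem _, hxH])
              (mul_mem (by cases p.2.1; exacts [one_mem _, haH]) (hUH _))⟩ : H)) ?_
        rintro ⟨b1, b2, u⟩ ⟨c1, c2, u'⟩ h
        have h' : (cond b1 x 1) * ((cond b2 a 1) * Fr.ι u) =
          (cond c1 x 1) * ((cond c2 a 1) * Fr.ι u') := congrArg Subtype.val h
        have hmA : ∀ (b : Bool) (w : K), (cond b a 1) * Fr.ι w ∈ L.A := fun b w =>
          mul_mem (by cases b; exacts [one_mem _, ha]) (L.ι_mem _)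
        have hb1 : b1 = c1 := by
          cases b1 <;> cases c1 <;> simp only [cond_true, cond_false, one_mul] at h' ⊢
          · refine absurd ?_ hxA
            rw [eq_mul_inv_of_mul_eq h'.symm]
            exact mul_mem (hmA _ _) (inv_mem (hmA _ _))
          · refine absurd ?_ hxA
            rw [eq_mul_inv_of_mul_eq h']
            exact mul_mem (hmA _ _) (inv_mem (hmA _ _))
        subst hb1
        have h2 := mul_left_cancel h'
        have hb2 : b2 = c2 := by
          cases b2 <;> cases c2 <;> simp only [cond_true, cond_false, one_mul] at h2 ⊢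
          · exact absurd (show a = Fr.ι (u + u') by
              rw [Fr.ι_add, h2, mul_assoc, Fr.ι_mul_self, mul_one]) (hane _)
          · exact absurd (show a = Fr.ι (u' + u) by
              rw [Fr.ι_add, ← h2, mul_assoc, Fr.ι_mul_self, mul_one]) (hane _)
        subst hb2
        rw [Fr.ι_inj (mul_left_cancel h2)]
      simp only [Nat.card_prod, Nat.card_eq_fintype_card (α := Bool), Fintype.card_bool] at h4
      have : 0 < Nat.card K := Nat.card_pos
      omega
    push Not at hF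
    -- the map `a ↦ [x, a]` is onto the squares
    let f : L.A →* L.A :=
      { toFun := fun a => ⟨x * a * x⁻¹ * (a : G)⁻¹,
          mul_mem (hxW.1 _ a.2) (inv_mem a.2)⟩
        map_one' := Subtype.ext (by simp)
        map_mul' := fun a b => Subtype.ext (by
          push_cast
          have h1 := L.comm _ (inv_mem a.2) _ (mul_mem (hxW.1 _ b.2) (inv_mem b.2))
          calc x * ((a : G) * b) * x⁻¹ * ((a : G) * b)⁻¹
              = x * a * x⁻¹ * ((x * b * x⁻¹ * (b : G)⁻¹) * (a : G)⁻¹) := by group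
            _ = x * a * x⁻¹ * ((a : G)⁻¹ * (x * b * x⁻¹ * (b : G)⁻¹)) := by rw [h1]
            _ = _ := by group) }
    let g : L.A →* Multiplicative K :=
      { toFun := fun a => Multiplicative.ofAdd (L.top (a : G))
        map_one' := by simp [L.top_one]
        map_mul' := fun a b => by simp [L.top_mul a.2 b.2, ofAdd_add] }
    have hle : f.range ≤ g.ker := by
      rintro _ ⟨a, rfl⟩
      simp only [MonoidHom.mem_ker, g, f, MonoidHom.coe_mk, OneHom.coe_mk]
      rw [L.top_mul (hxW.1 _ a.2) (inv_mem a.2), L.top_conj a.2 (hxW.1 _ a.2) hxW.2.1,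
        L.top_inv a.2, CharTwo.add_self_eq_zero]
      rfl
    have hfk : Nat.card f.ker = Nat.card K := by
      symm
      refine Nat.card_congr (Equiv.ofBijective
        (fun v => (⟨⟨Fr.ι v, L.ι_mem v⟩, Subtype.ext (by
          show x * Fr.ι v * x⁻¹ * (Fr.ι v)⁻¹ = 1
          rw [hxW.2.1, mul_inv_cancel_right, mul_inv_cancel])⟩ : f.ker)) ⟨?_, ?_⟩)
      · exact fun v w h => Fr.ι_inj (congrArg (fun z : f.ker => ((z : L.A) : G)) h)
      · rintro ⟨⟨a, ha⟩, hk⟩
        obtain ⟨v, hv⟩ := hF a ha (commutatorElement_eq_one_iff_mul_comm.1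
          (congrArg Subtype.val (MonoidHom.mem_ker.1 hk)))
        exact ⟨v, Subtype.ext (Subtype.ext hv.symm)⟩
    have hgs : Function.Surjective g := fun v => by
      obtain ⟨b, hb, hv⟩ := L.top_surj (Multiplicative.toAdd v)
      exact ⟨⟨b, hb⟩, by simp [g, hv]⟩
    have h1 := Subgroup.card_mul_index f.ker
    have h2 := Subgroup.card_mul_index g.ker
    rw [Subgroup.index_ker, hfk] at h1
    rw [Subgroup.index_ker, MonoidHom.range_eq_top.2 hgs, Subgroup.card_top,
      Nat.card_congr (Multiplicative.toAdd (α := K))] at h2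
    have heq := Subgroup.eq_of_le_of_card_ge hle
      (Nat.eq_of_mul_eq_mul_right Nat.card_pos (h2.trans (by rw [← h1, mul_comm]))).le
    have hex : ∀ v, ∃ y ∈ C.B, L.d y = v ∧ x * y = y * x := by
      intro v
      have hy := C.lift_mem v
      have hmem : (⟨x * C.lift v * x⁻¹ * (C.lift v)⁻¹, C.comm_mem_A hx hy⟩ : L.A) ∈ f.range := by
        rw [heq]
        simp [g, C.top_comm hx hy]
      obtain ⟨a, ha⟩ := hmem
      have ha' : x * (a : G) * x⁻¹ * (a : G)⁻¹ = x * C.lift v * x⁻¹ * (C.lift v)⁻¹ :=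
        congrArg Subtype.val ha
      refine ⟨(a : G)⁻¹ * C.lift v, mul_mem (inv_mem (C.A_le a.2)) hy, ?_, ?_⟩
      · rw [L.d_mul (L.A_le_W (inv_mem a.2)) (C.le_W hy), L.d_of_mem_A (inv_mem a.2), zero_add,
          C.d_lift]
      · calc x * ((a : G)⁻¹ * C.lift v)
            = (x * (a : G) * x⁻¹)⁻¹ * (x * C.lift v * x⁻¹ * (C.lift v)⁻¹) * (C.lift v * x) := by
              group
          _ = (x * (a : G) * x⁻¹)⁻¹ * (x * (a : G) * x⁻¹ * (a : G)⁻¹) * (C.lift v * x) := by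
              rw [ha']
          _ = _ := by group
    choose y hy hyd hyc using hex
    exact hqq.trans_le (Level.Comp.card_sq_le (L := L) y (fun v => ⟨C.le_P (hy v),
      Subgroup.mem_centralizer_singleton_iff.2 (hyc v).symm⟩) hyd hUH fun v => C.le_W (hy v))

end Comp

variable (L)

/-- From a translation: either a larger level or a closed group. -/
theorem step (hq : 2 < Nat.card K) (hmove : ∃ w ∈ L.W, L.d w ≠ 0) :
    (∃ L' : Level Fr, Nat.card L.A < Nat.card L'.A) ∨ Nonempty (Closed Fr) := by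
  classical
  obtain ⟨C⟩ := L.exists_comp hq hmove
  by_cases h : ∃ x ∈ C.B, t * x * t = x⁻¹ ∧ x ∉ L.A
  · left
    obtain ⟨x, hx, hxi, hxA⟩ := h
    refine C.exists_next (fun v => ?_) hq
    have hdx : L.d x ≠ 0 := fun h0 => hxA (C.ker x hx h0)
    by_cases hv : v = 0
    · refine ⟨1, one_mem _, ?_, by rw [mul_one, Fr.t_inv, inv_one]⟩
      rw [hv, L.d_of_mem_A (one_mem _)]
    have hc : v * (L.d x)⁻¹ ≠ 0 := mul_ne_zero hv (inv_ne_zero hdx)
    obtain ⟨g, hg, hgB⟩ := C.scaler _ hc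
    refine ⟨g * x * g⁻¹, hgB x hx, ?_, ?_⟩
    · rw [(Level.IsScaler.conj_W L hc hg (C.le_W hx)).2, mul_assoc, inv_mul_cancel₀ hdx, mul_one]
    · have h1 : Commute t g := hg.1
      calc t * (g * x * g⁻¹) * t = (t * g) * x * (g⁻¹ * t) := by group
        _ = (g * t) * x * (t * g⁻¹) := by rw [h1.eq, h1.inv_right.eq]
        _ = g * (t * x * t) * g⁻¹ := by group
        _ = _ := by rw [hxi]; group
  · push Not at h
    exact Or.inr (C.exists_closed hq h)

end Level

end Cfsg.Agent.Lib.TwoTimesPSL
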