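import Mathlib
import Cfsg.Agent.Lib.TwoTimesPSL.DihFrame
import Cfsg.Agent.Lib.TwoTimesPSL.Step

/-!
# No simple group has `⟨t⟩ × D` as Sylow `2`-subgroup of `C(t)`, `D` dihedral of order at least eight
Owner: helper80.
-/

set_option autoImplicit false
set_option linter.unusedSectionVars false

namespace Cfsg.Agent.Lib.TwoTimesPSL

variable {G : Type*} [Group G] [Finite G] {t : G}

open Count (mT fixCard)

namespace Dih

variable (d : Dih t)

theorem isConj_ref_z (i : ℤ) : IsConj d.z (d.r ^ i * d.s) := by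
  obtain ⟨c, -, hc⟩ := d.fuse i
  exact isConj_iff.2 ⟨c, hc⟩

theorem isConj_tref_tz (i : ℤ) : IsConj (t * d.z) (t * (d.r ^ i * d.s)) := by
  obtain ⟨c, hct, hc⟩ := d.fuse i
  refine isConj_iff.2 ⟨c, ?_⟩
  have hc' : c * d.z * c⁻¹ = d.r ^ i * d.s := hc
  calc c * (t * d.z) * c⁻¹ = c * t * d.z * c⁻¹ := by group
    _ = t * (c * d.z * c⁻¹) := by rw [← hct]; group
    _ = _ := by rw [hc']

include d in
theorem ne_one_of_conj {x : G} (h : IsConj t x) : x ≠ 1 := by
  rintro rfl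
  exact d.t_ne_one (isConj_one_left.1 h)

include d in
theorem sq_of_conj {x : G} (h : IsConj t x) : x * x = 1 := by
  obtain ⟨g, rfl⟩ := isConj_iff.1 h
  rw [show g * t * g⁻¹ * (g * t * g⁻¹) = g * (t * t) * g⁻¹ by group, d.t_inv, mul_one, mul_inv_cancel]

/-- A normaliser fixes `z`. -/
theorem normalizer_z {g : G} (hg : ∀ x ∈ d.S0, g * x * g⁻¹ ∈ d.S0) : g * d.z * g⁻¹ = d.z := by
  set w := d.r ^ (d.h : ℤ)
  have e : w * w = d.z := by rw [← zpow_add, z]; congr 1; ring
  have e2 : g * w * g⁻¹ * (g * w * g⁻¹) = g * d.z * g⁻¹ := by rw [← e]; group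
  rw [← e2]
  refine d.sq_eq_z (hg _ (d.pow_mem _)) ?_ ?_
  · rw [e2, show g * d.z * g⁻¹ * (g * d.z * g⁻¹) = g * (d.z * d.z) * g⁻¹ by group, d.z_sq, mul_one,
      mul_inv_cancel]
  · rw [e2]; exact fun h => d.z_ne_one (conj_eq_one_iff.1 h)

include d in
/-- A `2`-group containing `S₀` meets `C(t)` in `S₀`. -/
theorem cent_eq {Q : Subgroup G} (hQ : IsPGroup 2 Q) (hS : d.S0 ≤ Q) :
    Q ⊓ Subgroup.centralizer ({t} : Set G) = d.S0 := by
  haveI : Fact (Nat.Prime 2) := ⟨Nat.prime_two⟩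
  obtain ⟨o, ho, hC⟩ := d.card_cent
  obtain ⟨k, hk⟩ := IsPGroup.iff_card.1
    (hQ.to_le (inf_le_left : Q ⊓ Subgroup.centralizer ({t} : Set G) ≤ Q))
  have hdvd := Subgroup.card_dvd_of_le
    (inf_le_right : Q ⊓ Subgroup.centralizer ({t} : Set G) ≤ Subgroup.centralizer {t})
  rw [hC, hk] at hdvd
  have h2 : 2 ^ k ∣ Nat.card d.S0 :=
    (Nat.Coprime.pow_left k ((Nat.prime_two.coprime_iff_not_dvd).2 (by omega))).dvd_of_dvd_mul_right hdvd
  exact (Subgroup.eq_of_le_of_card_ge (le_inf hS fun y hy =>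
    Subgroup.mem_centralizer_singleton_iff.2 (d.comm_t hy).symm)
    (hk ▸ Nat.le_of_dvd Nat.card_pos h2)).symm

include d in
theorem card_dvd_conj {x : G} (hx : IsConj t x) {Q : Subgroup G} (hQ : IsPGroup 2 Q)
    (hc : ∀ a ∈ Q, a * x = x * a) : Nat.card Q ∣ Nat.card d.S0 := by
  haveI : Fact (Nat.Prime 2) := ⟨Nat.prime_two⟩
  obtain ⟨g, rfl⟩ := isConj_iff.1 hx
  obtain ⟨o, ho, hC⟩ := d.card_cent
  obtain ⟨k, hk⟩ := IsPGroup.iff_card.1 hQ
  have hle : Q.map (MulAut.conj g⁻¹).toMonoidHom ≤ Subgroup.centralizer ({t} : Set G) := by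
    rintro _ ⟨a, ha, rfl⟩
    refine Subgroup.mem_centralizer_singleton_iff.2 ?_
    show g⁻¹ * a * g⁻¹⁻¹ * t = t * (g⁻¹ * a * g⁻¹⁻¹)
    calc g⁻¹ * a * g⁻¹⁻¹ * t = g⁻¹ * (a * (g * t * g⁻¹)) * g := by group
      _ = g⁻¹ * (g * t * g⁻¹ * a) * g := by rw [hc a ha]
      _ = _ := by group
  have hdvd := Subgroup.card_dvd_of_le hle
  rw [Subgroup.card_map_of_injective (MulAut.conj g⁻¹).injective, hC, hk] at hdvd
  rw [hk]
  exact (Nat.Coprime.pow_left k ((Nat.prime_two.coprime_iff_not_dvd).2 (by omega))).dvd_of_dvd_mul_right hdvd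

theorem T_index_false [IsSimpleGroup G] (hG : ¬ IsMulCommutative G) (hodd : d.S0.index % 2 = 1)
    (hz : ¬ IsConj t d.z) : False := by
  refine Count.false_of_index_two hG d.t_inv (Basics.index_mod_four_of_half d.T_le d.card_S0 hodd) ?_
  rw [mT, Nat.card_eq_zero]
  refine Or.inl ⟨fun x => ?_⟩
  obtain ⟨i, e | e⟩ := x.1.2
  · rcases d.sq_one_cases (d.T_le x.1.2) (d.sq_of_conj x.2) with e' | e' | e' | e' | ⟨j, e' | e'⟩
    · exact d.ne_one_of_conj x.2 e'
    · exact (d.t_not i).1 (e'.symm.trans e)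
    · exact hz (e' ▸ x.2)
    · exact d.t_mul_pow_ne _ i (e'.symm.trans e)
    · exact d.ref_ne_pow j i (e'.symm.trans e)
    · refine (d.t_not (i + j)).2 ?_
      have h : t * (d.r ^ j * d.s) = d.r ^ i := e'.symm.trans e
      calc t = t * (d.r ^ j * d.s) * (d.r ^ j * d.s) := by rw [mul_assoc, d.ref_sq, mul_one]
        _ = d.r ^ i * (d.r ^ j * d.s) := by rw [h]
        _ = d.r ^ (i + j) * d.s := by rw [← mul_assoc, ← zpow_add]
  · exact hz ((e ▸ x.2 : IsConj t (d.r ^ i * d.s)).trans (d.isConj_ref_z i).symm)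

include d in
/-- The contradiction. -/
theorem false_of_four [IsSimpleGroup G] (hG : ¬ IsMulCommutative G) {K : Type} [Field K] [Finite K]
    [CharP K 2] (hK : Nat.card K = 4) : False := by
  classical
  haveI : Fact (Nat.Prime 2) := ⟨Nat.prime_two⟩
  obtain ⟨o, ho, hC⟩ := d.card_cent
  have hS0C : ∀ g, (∀ y ∈ d.S0, g * y * g⁻¹ ∈ d.S0) → ∀ y ∈ d.S0, g * t * g⁻¹ * y = y * (g * t * g⁻¹) := by
    intro g hg y hy
    have h := d.comm_t (conj_mem_of_forall hg hy)
    calc g * t * g⁻¹ * y = g * (t * (g⁻¹ * y * g)) * g⁻¹ := by group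
      _ = g * (g⁻¹ * y * g * t) * g⁻¹ := by rw [h]
      _ = _ := by group
  rcases Nat.mod_two_eq_zero_or_one d.S0.index with heven | hodd
  swap
  · -- `S₀` is a Sylow subgroup
    have hsyl : ¬ 2 ∣ d.S0.index := by omega
    set PS : Sylow 2 G := d.pgroup.toSylow hsyl
    refine d.T_index_false hG hodd fun hz => ?_
    obtain ⟨g, hg⟩ := isConj_iff.1 hz
    set Cz := Subgroup.centralizer ({d.z} : Set G)
    have hcentz : ∀ y ∈ d.S0, y * d.z = d.z * y := by
      intro y hy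
      have h := d.normalizer_z (g := y) fun x hx => mul_mem (mul_mem hy hx) (inv_mem hy)
      exact mul_inv_eq_iff_eq_mul.1 h
    have h1 : d.S0 ≤ Cz := fun y hy => Subgroup.mem_centralizer_singleton_iff.2 (hcentz y hy)
    have h2 : d.S0.map (MulAut.conj g).toMonoidHom ≤ Cz := by
      rintro _ ⟨y, hy, rfl⟩
      refine Subgroup.mem_centralizer_singleton_iff.2 ?_
      show g * y * g⁻¹ * d.z = d.z * (g * y * g⁻¹)
      rw [← hg]
      calc g * y * g⁻¹ * (g * t * g⁻¹) = g * (y * t) * g⁻¹ := by group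
        _ = g * (t * y) * g⁻¹ := by rw [d.comm_t hy]
        _ = _ := by group
    obtain ⟨k, hk⟩ := MulAction.exists_smul_eq Cz ((g • PS).subtype (by
      rw [Sylow.coe_subgroup_smul]; exact h2)) (PS.subtype h1)
    set n := (k : G) * g
    have hn : ∀ y ∈ d.S0, n * y * n⁻¹ ∈ d.S0 := by
      intro y hy
      have hm : (⟨g * y * g⁻¹, h2 ⟨y, hy, rfl⟩⟩ : Cz) ∈
          (((g • PS).subtype (by rw [Sylow.coe_subgroup_smul]; exact h2) : Sylow 2 Cz) : Subgroup Cz) := by
        rw [Sylow.coe_subtype, Subgroup.mem_subgroupOf, Sylow.coe_subgroup_smul]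
        exact ⟨y, hy, rfl⟩
      have hm3 : MulAut.conj k • (⟨g * y * g⁻¹, h2 ⟨y, hy, rfl⟩⟩ : Cz) ∈
          ((k • ((g • PS).subtype (by rw [Sylow.coe_subgroup_smul]; exact h2) : Sylow 2 Cz) :
            Sylow 2 Cz) : Subgroup Cz) := by
        rw [Sylow.coe_subgroup_smul]
        exact Subgroup.smul_mem_pointwise_smul _ (MulAut.conj k) _ hm
      rw [hk] at hm3
      rw [show n * y * n⁻¹ = (k : G) * (g * y * g⁻¹) * (k : G)⁻¹ by simp only [n]; group]
      exact hm3
    have hnt : n * t * n⁻¹ = d.z := by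
      rw [show n * t * n⁻¹ = (k : G) * (g * t * g⁻¹) * (k : G)⁻¹ by simp only [n]; group, hg,
        Subgroup.mem_centralizer_singleton_iff.1 k.2, mul_inv_cancel_right]
    exact d.t_ne_z (mul_left_cancel (mul_right_cancel (hnt.trans (d.normalizer_z hn).symm)))
  -- `S₀` is not a Sylow subgroup
  obtain ⟨S1, n, hS1, hS01, hn1, hnS0, hnorm⟩ := Basics.exists_normalizing d.pgroup heven
  obtain ⟨S, hS1S⟩ := hS1.exists_le_sylow
  set SG := (S : Subgroup G)
  have hn : n ∈ SG := hS1S hn1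
  have hS0 : d.S0 ≤ SG := hS01.trans hS1S
  have hSp : IsPGroup 2 SG := S.isPGroup'
  have hnz := d.normalizer_z hnorm
  have hntne : n * t * n⁻¹ ≠ t := fun h => hnS0 (by
    rw [← d.cent_eq hSp hS0]
    exact Subgroup.mem_inf.2 ⟨hn, Subgroup.mem_centralizer_singleton_iff.2 (mul_inv_eq_iff_eq_mul.1 h)⟩)
  have hnt : n * t * n⁻¹ = t * d.z := by
    rcases d.center_cases (hnorm t d.t_mem) (hS0C n hnorm) with e | e | e | e
    · exact absurd (conj_eq_one_iff.1 e) d.t_ne_one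
    · exact absurd e hntne
    · exact absurd (mul_left_cancel (mul_right_cancel (e.trans hnz.symm))) d.t_ne_z
    · exact e
  have hβ : IsConj t (t * d.z) := isConj_iff.2 ⟨n, hnt⟩
  have hti : ∀ i : ℤ, IsConj t (t * (d.r ^ i * d.s)) := fun i => hβ.trans (d.isConj_tref_tz i)
  -- the count
  set R : Finset G := (Finset.range (4 * d.h)).image fun i : ℕ => t * (d.r ^ (i : ℤ) * d.s)
  set R' : Finset G := (Finset.range (4 * d.h)).image fun i : ℕ => d.r ^ (i : ℤ) * d.s
  have hred : ∀ i : ℤ, ∃ j ∈ Finset.range (4 * d.h), d.r ^ i = d.r ^ ((j : ℕ) : ℤ) := fun i => by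
    have hp := d.h_pos
    refine ⟨(i % (4 * (d.h : ℤ))).toNat, Finset.mem_range.2 ?_, ?_⟩
    · have h1 := Int.emod_lt_of_pos i (show (0 : ℤ) < 4 * d.h by omega)
      omega
    · have h1 := Int.emod_nonneg i (show (4 * (d.h : ℤ)) ≠ 0 by omega)
      rw [Int.toNat_of_nonneg h1]
      conv_lhs => rw [← Int.emod_add_mul_ediv i (4 * (d.h : ℤ)), zpow_add,
        d.pow_eq_one_iff.2 (dvd_mul_right _ _), mul_one]
  have hRmem : ∀ i : ℤ, t * (d.r ^ i * d.s) ∈ R ∧ d.r ^ i * d.s ∈ R' := fun i => by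
    obtain ⟨j, hj, e⟩ := hred i
    exact ⟨Finset.mem_image.2 ⟨j, hj, by rw [e]⟩, Finset.mem_image.2 ⟨j, hj, by rw [e]⟩⟩
  have hinjR : Set.InjOn (fun i : ℕ => d.r ^ (i : ℤ) * d.s) (Finset.range (4 * d.h)) := by
    intro a ha b hb h
    have h' := mul_right_cancel h
    simp only [zpow_natCast] at h'
    exact pow_injOn_Iio_orderOf (x := d.r) (by simpa [d.ord] using ha) (by simpa [d.ord] using hb) h'
  have hR'card : R'.card = 4 * d.h := by
    rw [Finset.card_image_of_injOn hinjR, Finset.card_range]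
  have hRcard : R.card = 4 * d.h := by
    rw [Finset.card_image_of_injOn (fun a ha b hb h => hinjR ha hb (mul_left_cancel h)),
      Finset.card_range]
  have hcount : ∀ F : Finset G, (∀ x, x ∈ F ↔ x ∈ d.S0 ∧ IsConj t x) → mT t d.S0 = F.card := by
    intro F hF
    rw [mT, ← Fintype.card_coe, ← Nat.card_eq_fintype_card]
    exact Nat.card_congr
      { toFun := fun x => ⟨x.1, (hF _).2 ⟨x.1.2, x.2⟩⟩
        invFun := fun x => ⟨⟨x.1, ((hF _).1 x.2).1⟩, ((hF _).1 x.2).2⟩
        left_inv := fun _ => rfl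
        right_inv := fun _ => rfl }
  have hnotRt : t ∉ R := fun h => by
    obtain ⟨i, -, e⟩ := Finset.mem_image.1 h
    exact d.ref_ne_pow i 0 ((mul_eq_left.1 e).trans (zpow_zero _).symm)
  have hnotRtz : t * d.z ∉ R := fun h => by
    obtain ⟨i, -, e⟩ := Finset.mem_image.1 h
    exact d.ref_ne_pow i _ (mul_left_cancel e)
  have htzt : t ≠ t * d.z := fun h => d.tz_ne_t h.symm
  set F0 : Finset G := insert t (insert (t * d.z) R) with hF0
  have hF0card : F0.card = 2 + 4 * d.h := by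
    rw [hF0, Finset.card_insert_of_notMem (by simp [htzt, hnotRt]),
      Finset.card_insert_of_notMem hnotRtz, hRcard]
    ring
  have hfix := Count.fix_mul t d.S0
  rw [hC] at hfix
  have hfo : fixCard t d.S0 = o * mT t d.S0 :=
    Nat.eq_of_mul_eq_mul_right Nat.card_pos (hfix.trans (by ring))
  have hzc : ¬ IsConj t d.z := by
    intro hz
    have hF : ∀ x, x ∈ F0 ∪ insert d.z R' ↔ x ∈ d.S0 ∧ IsConj t x := by
      intro x
      constructor
      · simp only [hF0, Finset.mem_union, Finset.mem_insert]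
        rintro ((rfl | rfl | h) | (rfl | h))
        · exact ⟨d.t_mem, IsConj.refl _⟩
        · exact ⟨mul_mem d.t_mem d.z_mem, hβ⟩
        · obtain ⟨i, -, rfl⟩ := Finset.mem_image.1 h
          exact ⟨mul_mem d.t_mem (d.ref_mem _), hti _⟩
        · exact ⟨d.z_mem, hz⟩
        · obtain ⟨i, -, rfl⟩ := Finset.mem_image.1 h
          exact ⟨d.ref_mem _, hz.trans (d.isConj_ref_z _)⟩
      · rintro ⟨hx, hc⟩
        rcases d.sq_one_cases hx (d.sq_of_conj hc) with e | e | e | e | ⟨i, e | e⟩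
        · exact absurd e (d.ne_one_of_conj hc)
        · simp [hF0, e]
        · simp [e]
        · simp [hF0, e]
        · exact Finset.mem_union_right _ (Finset.mem_insert_of_mem (e ▸ (hRmem i).2))
        · exact Finset.mem_union_left _
            (Finset.mem_insert_of_mem (Finset.mem_insert_of_mem (e ▸ (hRmem i).1)))
    have hdis : Disjoint F0 (insert d.z R') := by
      rw [Finset.disjoint_left]
      intro x hx hx'
      simp only [hF0, Finset.mem_insert] at hx hx'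
      rcases hx' with rfl | hx'
      · rcases hx with e | e | e
        · exact d.t_ne_z e.symm
        · exact d.t_mul_pow_ne _ _ e.symm
        · obtain ⟨i, -, e'⟩ := Finset.mem_image.1 e
          have e'' : t * (d.r ^ (i : ℤ) * d.s) = d.r ^ (2 * (d.h : ℤ)) := e'
          refine (d.t_not (2 * (d.h : ℤ) + i)).2 ?_
          calc t = t * (d.r ^ (i : ℤ) * d.s) * (d.r ^ (i : ℤ) * d.s) := by
                rw [mul_assoc, d.ref_sq, mul_one]
            _ = _ := by rw [e'', ← mul_assoc, ← zpow_add]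
      · obtain ⟨j, -, rfl⟩ := Finset.mem_image.1 hx'
        rcases hx with e | e | e
        · exact (d.t_not _).2 e.symm
        · exact d.t_mul_pow_ne_ref _ _ e.symm
        · obtain ⟨i, -, e'⟩ := Finset.mem_image.1 e
          refine (d.t_not ((j : ℤ) - i)).1 ?_
          calc t = t * (d.r ^ (i : ℤ) * d.s) * (d.r ^ (i : ℤ) * d.s) := by
                rw [mul_assoc, d.ref_sq, mul_one]
            _ = _ := by rw [e', d.ref_mul_ref]
    have hcardF : (F0 ∪ insert d.z R').card = 2 * (1 + 4 * d.h) + 1 := by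
      rw [Finset.card_union_of_disjoint hdis, hF0card, Finset.card_insert_of_notMem (fun h => by
        obtain ⟨i, -, e⟩ := Finset.mem_image.1 h
        exact d.ref_ne_pow _ _ e), hR'card]
      ring
    rw [hcount _ hF, hcardF] at hfo
    have := Count.index_mod_two d.t_inv d.S0
    rw [heven, hfo, Nat.mul_mod, ho] at this
    omega
  have hF : ∀ x, x ∈ F0 ↔ x ∈ d.S0 ∧ IsConj t x := by
    intro x
    constructor
    · simp only [hF0, Finset.mem_insert]
      rintro (rfl | rfl | h)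
      · exact ⟨d.t_mem, IsConj.refl _⟩
      · exact ⟨mul_mem d.t_mem d.z_mem, hβ⟩
      · obtain ⟨i, -, rfl⟩ := Finset.mem_image.1 h
        exact ⟨mul_mem d.t_mem (d.ref_mem _), hti _⟩
    · rintro ⟨hx, hc⟩
      rcases d.sq_one_cases hx (d.sq_of_conj hc) with e | e | e | e | ⟨i, e | e⟩
      · exact absurd e (d.ne_one_of_conj hc)
      · simp [hF0, e]
      · exact absurd (e ▸ hc) hzc
      · simp [hF0, e]
      · exact absurd ((e ▸ hc : IsConj t (d.r ^ i * d.s)).trans (d.isConj_ref_z i).symm) hzc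
      · exact Finset.mem_insert_of_mem (Finset.mem_insert_of_mem (e ▸ (hRmem i).1))
  have hm : mT t d.S0 = 2 + 4 * d.h := (hcount _ hF).trans hF0card
  -- index two
  have hrel : d.S0.relIndex SG = 2 := by
    have h4 := Count.index_mod_four hG d.t_inv d.S0
    rw [hfo, hm, Nat.mul_mod, show (2 + 4 * d.h) % 4 = 2 by omega] at h4
    have h4' : d.S0.index % 4 = 2 := by omega
    have hmul := Subgroup.relIndex_mul_index hS0
    obtain ⟨k, hk⟩ := IsPGroup.iff_card.1 hSp
    have hc := Subgroup.card_mul_index (d.S0.subgroupOf SG)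
    rw [hk] at hc
    obtain ⟨j, -, hj⟩ := (Nat.dvd_prime_pow Nat.prime_two).1 (Dvd.intro_left _ hc)
    change d.S0.relIndex SG = 2 ^ j at hj
    rcases j with _ | _ | j
    · exact absurd (Subgroup.relIndex_eq_one.1 (hj.trans (pow_zero 2)) hn) hnS0
    · rw [hj]; norm_num
    · exfalso
      rw [← hmul, hj, pow_succ, pow_succ, show 2 ^ j * 2 * 2 * SG.index = 4 * (2 ^ j * SG.index) by ring]
        at h4'
      omega
  have hcos : ∀ {a b : G}, a ∈ SG → b ∈ SG → a ∉ d.S0 → b ∉ d.S0 → a⁻¹ * b ∈ d.S0 := by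
    intro a b ha hb ha' hb'
    have h := Subgroup.mul_mem_iff_of_index_two (H := d.S0.subgroupOf SG) hrel
      (a := ⟨a⁻¹, inv_mem ha⟩) (b := ⟨b, hb⟩)
    simp only [Subgroup.mem_subgroupOf, MulMemClass.mk_mul_mk, inv_mem_iff] at h
    exact h.2 ⟨fun x => absurd x ha', fun x => absurd x hb'⟩
  have hS0norm : ∀ s ∈ SG, ∀ y ∈ d.S0, s * y * s⁻¹ ∈ d.S0 := by
    intro s hs y hy
    by_cases hsS : s ∈ d.S0
    · exact mul_mem (mul_mem hsS hy) (inv_mem hsS)
    have h := hcos hn hs hnS0 hsS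
    rw [show s * y * s⁻¹ = n * (n⁻¹ * s * y * (n⁻¹ * s)⁻¹) * n⁻¹ by group]
    exact hnorm _ (mul_mem (mul_mem h hy) (inv_mem h))
  have hnT : ∀ y ∈ d.T, n * y * n⁻¹ ∈ d.T := by
    have href : ∀ i : ℤ, n * (d.r ^ i * d.s) * n⁻¹ ∈ d.T := by
      intro i
      have hmem := hnorm _ (d.ref_mem i)
      have hsq : n * (d.r ^ i * d.s) * n⁻¹ * (n * (d.r ^ i * d.s) * n⁻¹) = 1 := by
        rw [show n * (d.r ^ i * d.s) * n⁻¹ * (n * (d.r ^ i * d.s) * n⁻¹) =
          n * (d.r ^ i * d.s * (d.r ^ i * d.s)) * n⁻¹ by group, d.ref_sq, mul_one, mul_inv_cancel]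
      have hconjz : IsConj d.z (n * (d.r ^ i * d.s) * n⁻¹) :=
        (d.isConj_ref_z i).trans (isConj_iff.2 ⟨n, rfl⟩)
      rcases d.sq_one_cases hmem hsq with e | e | e | e | ⟨j, e | e⟩
      · exact e ▸ one_mem _
      · exact absurd (e ▸ hconjz).symm hzc
      · exact e ▸ ⟨_, Or.inl rfl⟩
      · exact absurd (hβ.trans (e ▸ hconjz).symm) hzc
      · exact e ▸ ⟨j, Or.inr rfl⟩
      · exact absurd ((hti j).trans (e ▸ hconjz).symm) hzc
    rintro y ⟨i, rfl | rfl⟩
    · rw [show d.r ^ i = d.r ^ i * d.s * (d.r ^ (0 : ℤ) * d.s) by rw [d.ref_mul_ref, sub_zero],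
        show n * (d.r ^ i * d.s * (d.r ^ (0 : ℤ) * d.s)) * n⁻¹ =
          n * (d.r ^ i * d.s) * n⁻¹ * (n * (d.r ^ (0 : ℤ) * d.s) * n⁻¹) by group]
      exact mul_mem (href i) (href 0)
    · exact href i
  have hTnorm : ∀ s ∈ SG, ∀ y ∈ d.T, s * y * s⁻¹ ∈ d.T := by
    intro s hs y hy
    by_cases hsS : s ∈ d.S0
    · exact d.T_normal hsS hy
    rw [show s * y * s⁻¹ = n * (n⁻¹ * s * y * (n⁻¹ * s)⁻¹) * n⁻¹ by group]
    exact hnT _ (d.T_normal (hcos hn hs hnS0 hsS) hy)
  haveI hTnormal : (d.T.subgroupOf SG).Normal := ⟨fun m hm s => by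
    simpa [Subgroup.mem_subgroupOf] using hTnorm s s.2 m hm⟩
  have hScard : Nat.card SG = 2 * Nat.card d.S0 := by
    have h := Subgroup.card_mul_index (d.S0.subgroupOf SG)
    rw [Nat.card_congr (Subgroup.subgroupOfEquivOfLe hS0).toEquiv,
      show (d.S0.subgroupOf SG).index = 2 from hrel] at h
    omega
  have hS0T := d.card_S0
  have hQ4 : Nat.card (SG ⧸ d.T.subgroupOf SG) = 4 := by
    have := Subgroup.card_eq_card_quotient_mul_card_subgroup (d.T.subgroupOf SG)
    rw [Nat.card_congr (Subgroup.subgroupOfEquivOfLe (d.T_le.trans hS0)).toEquiv, hScard, hS0T,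
      show 2 * (2 * Nat.card d.T) = 4 * Nat.card d.T by ring] at this
    exact (Nat.eq_of_mul_eq_mul_right Nat.card_pos this).symm
  letI : CommGroup (SG ⧸ d.T.subgroupOf SG) :=
    { (inferInstance : Group (SG ⧸ d.T.subgroupOf SG)) with
      mul_comm := IsPGroup.commutative_of_card_eq_prime_sq (p := 2) (by rw [hQ4]; norm_num) }
  letI := Fintype.ofFinite (SG ⧸ d.T.subgroupOf SG)
  set φ : SG →* SG ⧸ d.T.subgroupOf SG := QuotientGroup.mk' (d.T.subgroupOf SG)
  have hφc : ∀ a b : SG, φ (a * b * a⁻¹) = φ b := fun a b => by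
    rw [map_mul, map_mul, map_inv, mul_comm (φ a) (φ b), mul_inv_cancel_right]
  set tS : SG := ⟨t, hS0 d.t_mem⟩
  obtain ⟨y, hy, hyS0, hyc, hyC⟩ : ∃ y ∈ SG, y ∉ d.S0 ∧ IsConj t y ∧
      Nat.card ↥(SG ⊓ Subgroup.centralizer ({y} : Set G)) = Nat.card d.S0 := by
    by_contra hno
    push Not at hno
    obtain ⟨f, hf, hprod⟩ := Count.transfer_values hG d.t_inv SG φ
    have h4 : ∀ v, 4 ∣ Nat.card {x : G // IsConj t x ∧ ((∃ h : x ∈ SG, φ ⟨x, h⟩ = v) ∧ x ∉ d.S0)} := by
      intro v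
      refine Basics.dvd_card_conj_classes (S := SG) (b := Nat.card d.T) (by rw [hScard, hS0T]; ring)
        Nat.card_pos _ ?_ ?_
      · rintro s hs x ⟨⟨hx, hv⟩, hne⟩
        refine ⟨⟨mul_mem (mul_mem hs hx) (inv_mem hs), ?_⟩, fun h => hne ?_⟩
        · rw [show (⟨s * x * s⁻¹, _⟩ : SG) = ⟨s, hs⟩ * ⟨x, hx⟩ * (⟨s, hs⟩ : SG)⁻¹ from rfl, hφc, hv]
        · have := hS0norm _ (inv_mem hs) _ h
          rwa [show s⁻¹ * (s * x * s⁻¹) * s⁻¹⁻¹ = x by group] at this
      · rintro x hx ⟨⟨hxS, -⟩, hne⟩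
        have hd := d.card_dvd_conj hx (Q := SG ⊓ Subgroup.centralizer ({x} : Set G)) (hSp.to_le inf_le_left)
          fun a ha => Subgroup.mem_centralizer_singleton_iff.1 (Subgroup.mem_inf.1 ha).2
        have hne' := hno x hxS hne hx
        obtain ⟨k, hk⟩ := IsPGroup.iff_card.1 d.pgroup
        rw [hk] at hd hne'
        obtain ⟨j, hj, hj'⟩ := (Nat.dvd_prime_pow Nat.prime_two).1 hd
        rw [hj'] at hne' ⊢
        have hlt : j < k := lt_of_le_of_ne hj fun e => hne' (e ▸ rfl)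
        obtain ⟨k', rfl⟩ : ∃ k', k = k' + 1 := ⟨k - 1, by omega⟩
        have hT2 : Nat.card d.T = 2 ^ k' := by
          rw [hk, pow_succ] at hS0T
          omega
        rw [hT2]
        exact pow_dvd_pow 2 (by omega)
    have hsplit : ∀ v, Nat.card {x : SG // IsConj t (x : G) ∧ φ x = v} =
        Nat.card {x : G // IsConj t x ∧ ((∃ h : x ∈ SG, φ ⟨x, h⟩ = v) ∧ x ∉ d.S0)} +
          if v = φ tS then 2 + 4 * d.h else 0 := by
      have hval : ∀ (x : G) (hx : x ∈ d.S0), IsConj t x → φ ⟨x, hS0 hx⟩ = φ tS := by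
        intro x hx hc
        have hxt : x * t ∈ d.T := (d.cover hx).resolve_left fun h => by
          obtain ⟨i, e | e⟩ := h
          · rcases d.sq_one_cases hx (d.sq_of_conj hc) with e' | e' | e' | e' | ⟨j, e' | e'⟩
            · exact d.ne_one_of_conj hc e'
            · exact (d.t_not i).1 (e'.symm.trans e)
            · exact hzc (e' ▸ hc)
            · exact d.t_mul_pow_ne _ i (e'.symm.trans e)
            · exact d.ref_ne_pow j i (e'.symm.trans e)
            · refine (d.t_not (i + j)).2 ?_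
              have h : t * (d.r ^ j * d.s) = d.r ^ i := e'.symm.trans e
              calc t = t * (d.r ^ j * d.s) * (d.r ^ j * d.s) := by rw [mul_assoc, d.ref_sq, mul_one]
                _ = d.r ^ i * (d.r ^ j * d.s) := by rw [h]
                _ = d.r ^ (i + j) * d.s := by rw [← mul_assoc, ← zpow_add]
          · exact hzc ((e ▸ hc : IsConj t (d.r ^ i * d.s)).trans (d.isConj_ref_z i).symm)
        refine QuotientGroup.eq.2 ?_
        rw [Subgroup.mem_subgroupOf]
        show x⁻¹ * t ∈ d.T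
        rwa [inv_eq_of_mul_eq_one_right (d.sq_of_conj hc)]
      intro v
      set Z := {x : SG // IsConj t (x : G) ∧ φ x = v}
      rw [← Nat.card_congr (Equiv.sumCompl fun x : Z => (x.1 : G) ∈ d.S0), Nat.card_sum, add_comm]
      congr 1
      · exact Nat.card_congr
          { toFun := fun x => ⟨((x.1.1 : SG) : G), x.1.2.1, ⟨x.1.1.2, x.1.2.2⟩, x.2⟩
            invFun := fun x => ⟨⟨⟨x.1, x.2.2.1.1⟩, x.2.1, x.2.2.1.2⟩, x.2.2.2⟩
            left_inv := fun _ => rfl
            right_inv := fun _ => rfl }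
      · split_ifs with hv
        · rw [← hm, mT]
          exact Nat.card_congr
            { toFun := fun x => ⟨⟨_, x.2⟩, x.1.2.1⟩
              invFun := fun x => ⟨⟨⟨x.1, hS0 x.1.2⟩, x.2, (hval _ x.1.2 x.2).trans hv.symm⟩, x.1.2⟩
              left_inv := fun _ => rfl
              right_inv := fun _ => rfl }
        · rw [Nat.card_eq_zero]
          exact Or.inl ⟨fun x => hv (x.1.2.2.symm.trans (hval _ x.2 x.1.2.1))⟩
    have hφt : φ tS ≠ 1 := fun h => d.t_not_T (by
      rw [QuotientGroup.mk'_apply, QuotientGroup.eq_one_iff, Subgroup.mem_subgroupOf] at h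
      exact h)
    have hsq1 : φ tS * φ tS = 1 := by
      rw [← map_mul, ← map_one φ]
      exact congrArg φ (Subtype.ext d.t_inv)
    have hterm : ∀ v, v ^ f v = if v = φ tS then φ tS else 1 := by
      intro v
      obtain ⟨k, hk⟩ := h4 v
      have hfv := hf v
      rw [hsplit v, hk, hC, hScard] at hfv
      have hfv' : f v * 2 = o * (4 * k + if v = φ tS then 2 + 4 * d.h else 0) := by
        refine Nat.eq_of_mul_eq_mul_left (n := Nat.card d.S0) Nat.card_pos ?_
        linarith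
      split_ifs at hfv' ⊢ with hv
      · have : f v = o * (1 + 2 * (k + d.h)) := by linarith
        have hodd : f v % 2 = 1 := by rw [this, Nat.mul_mod, ho]; omega
        rw [← hv] at hsq1 ⊢
        rw [← Nat.div_add_mod (f v) 2, hodd, pow_succ, pow_mul, pow_two, hsq1, one_pow, one_mul]
      · have hfe : f v = 2 * (o * k) := by linarith
        rcases Nat.eq_zero_or_pos k with rfl | hkpos
        · rw [hfe]; simp
        · obtain ⟨x, hxc, ⟨hxS, hxv⟩, -⟩ := Classical.choice (α := {x : G // IsConj t x ∧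
              ((∃ h : x ∈ SG, φ ⟨x, h⟩ = v) ∧ x ∉ d.S0)}) (Nat.card_pos_iff.1 (by omega)).1
          rw [hfe, pow_mul, pow_two, ← hxv, ← map_mul,
            show (⟨x, hxS⟩ : SG) * ⟨x, hxS⟩ = 1 from Subtype.ext (d.sq_of_conj hxc), map_one, one_pow]
    rw [Finset.prod_congr rfl fun v _ => hterm v, Finset.prod_ite_eq' Finset.univ] at hprod
    exact hφt (by simpa using hprod)
  -- `y` normalises a Klein group
  have hy0 : ∀ x ∈ d.S0, y * x * y⁻¹ ∈ d.S0 := hS0norm y hy
  have hyz := d.normalizer_z hy0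
  have hyt : y * t * y⁻¹ = t * d.z := by
    have h := hcos hn hy hnS0 hyS0
    calc y * t * y⁻¹ = n * ((n⁻¹ * y) * t * (n⁻¹ * y)⁻¹) * n⁻¹ := by group
      _ = n * t * n⁻¹ := by rw [← d.comm_t h, mul_inv_cancel_right]
      _ = _ := hnt
  set P := d.S0 ⊓ Subgroup.centralizer ({y} : Set G)
  have htP : t ∉ P := fun h => d.tz_ne_t (hyt.symm.trans (mul_inv_eq_iff_eq_mul.2
    (Subgroup.mem_centralizer_singleton_iff.1 (Subgroup.mem_inf.1 h).2).symm))
  have hPidx : (P.subgroupOf d.S0).index = 2 := by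
    set Cy := SG ⊓ Subgroup.centralizer ({y} : Set G)
    haveI := Fintype.ofFinite Cy
    haveI := Fintype.ofFinite P
    have hyCy : y ∈ Cy := Subgroup.mem_inf.2 ⟨hy, Subgroup.mem_centralizer_singleton_iff.2 rfl⟩
    have hle : Nat.card Cy ≤ 2 * Nat.card P := by
      have : Nat.card Cy ≤ Nat.card (Bool × P) := by
        refine Nat.card_le_card_of_surjective (fun q : Bool × P =>
          (⟨(if q.1 then y else 1) * (q.2 : G), mul_mem (by split_ifs; exacts [hyCy, one_mem _])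
            (Subgroup.mem_inf.2 ⟨hS0 q.2.2.1, q.2.2.2⟩)⟩ : Cy)) fun a => ?_
        by_cases ha : (a : G) ∈ d.S0
        · exact ⟨(false, ⟨a, ha, a.2.2⟩), Subtype.ext (by simp)⟩
        · exact ⟨(true, ⟨y⁻¹ * a, hcos hy a.2.1 hyS0 ha,
            Subgroup.mul_mem _ (Subgroup.inv_mem _ hyCy.2) a.2.2⟩), Subtype.ext (by simp)⟩
      rwa [Nat.card_prod, Nat.card_eq_fintype_card (α := Bool), Fintype.card_bool] at this
    rw [hyC] at hle
    have hmul := Subgroup.card_mul_index (P.subgroupOf d.S0)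
    rw [Nat.card_congr (Subgroup.subgroupOfEquivOfLe (inf_le_left : P ≤ d.S0)).toEquiv] at hmul
    have hpos : 0 < Nat.card P := Nat.card_pos
    have h1 : (P.subgroupOf d.S0).index ≤ 2 := by
      by_contra hlt
      push Not at hlt
      have h3le : Nat.card P * 3 ≤ Nat.card P * (P.subgroupOf d.S0).index :=
        Nat.mul_le_mul_left (Nat.card P) hlt
      linarith
    have h2 : (P.subgroupOf d.S0).index ≠ 0 := Subgroup.index_ne_zero_of_finite
    have h3 : (P.subgroupOf d.S0).index ≠ 1 := fun e =>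
      htP (Subgroup.subgroupOf_eq_top.1 (Subgroup.index_eq_one.1 e) d.t_mem)
    omega
  have hys : y * d.s * y⁻¹ = d.s ∨ y * d.s * y⁻¹ = d.z * d.s := by
    have h := Subgroup.mul_mem_iff_of_index_two hPidx (a := ⟨d.s, d.s_mem⟩) (b := ⟨t, d.t_mem⟩)
    simp only [Subgroup.mem_subgroupOf, MulMemClass.mk_mul_mk] at h
    by_cases hsP : d.s ∈ P
    · refine Or.inl (mul_inv_eq_iff_eq_mul.2 ?_)
      exact (Subgroup.mem_centralizer_singleton_iff.1 (Subgroup.mem_inf.1 hsP).2).symm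
    · refine Or.inr ?_
      have hst := Subgroup.mem_centralizer_singleton_iff.1
        (Subgroup.mem_inf.1 (h.2 ⟨fun x => absurd x hsP, fun x => absurd x htP⟩)).2
      have e : y * d.s * y⁻¹ * (y * t * y⁻¹) = d.s * t := by
        rw [show y * d.s * y⁻¹ * (y * t * y⁻¹) = y * (d.s * t) * y⁻¹ by group, ← hst,
          mul_inv_cancel_right]
      rw [hyt] at e
      rw [eq_mul_inv_of_mul_eq e, mul_inv_rev, d.z_inv_self, d.t_inv_self, d.t_comm_z.symm, mul_assoc,
        ← mul_assoc t t, d.t_inv, one_mul, d.z_comm_s]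
  -- a translation over the field with four elements
  obtain ⟨f⟩ := exists_four hK
  obtain ⟨g, hgt, hgz, hgs⟩ := d.cycle
  have hgz' : g * d.z * g⁻¹ = d.s := hgz
  have hgs' : g * d.s * g⁻¹ = d.z * d.s := hgs
  set Fr : Frame t K := d.frame f hgt hgz' hgs'
  obtain ⟨w, hwz, hws, hwt⟩ : ∃ w, w * d.z = d.z * w ∧ w * d.s = d.s * w ∧
      (w * t * w⁻¹ * t = d.z ∨ w * t * w⁻¹ * t = d.s) := by
    rcases hys with hys | hys
    · refine ⟨y, mul_inv_eq_iff_eq_mul.1 hyz, mul_inv_eq_iff_eq_mul.1 hys, Or.inl ?_⟩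
      rw [hyt, d.t_comm_z, mul_assoc, d.t_inv, mul_one]
    · have hyzs : y * (d.z * d.s) * y⁻¹ = d.s := by
        rw [show y * (d.z * d.s) * y⁻¹ = (y * d.z * y⁻¹) * (y * d.s * y⁻¹) by group, hyz, hys,
          ← mul_assoc, d.z_sq, one_mul]
      have hy' : ∀ {a b : G}, y * a * y⁻¹ = b → y⁻¹ * b * y = a := fun h => by rw [← h]; group
      have hw : ∀ a, (y * g * y⁻¹ * g) * a * (y * g * y⁻¹ * g)⁻¹ =
          y * (g * (y⁻¹ * (g * a * g⁻¹) * y) * g⁻¹) * y⁻¹ := fun a => by group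
      refine ⟨y * g * y⁻¹ * g, mul_inv_eq_iff_eq_mul.1 ?_, mul_inv_eq_iff_eq_mul.1 ?_, Or.inr ?_⟩
      · rw [hw, hgz', hy' hyzs,
          show g * (d.z * d.s) * g⁻¹ = (g * d.z * g⁻¹) * (g * d.s * g⁻¹) by group, hgz', hgs',
          d.z_comm_s, ← mul_assoc d.s d.s, d.s_sq, one_mul, hyz]
      · rw [hw, hgs', hy' hys, hgs', hyzs]
      · have hyinv : y⁻¹ * t * y = t * d.z := by
          have h1 : y⁻¹ * d.z * y = d.z := hy' hyz
          calc y⁻¹ * t * y = y⁻¹ * (t * d.z * d.z) * y := by rw [mul_assoc t, d.z_sq, mul_one]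
            _ = y⁻¹ * (t * d.z) * y * (y⁻¹ * d.z * y) := by group
            _ = t * d.z := by rw [hy' hyt, h1]
        have e : g * (t * d.z) * g⁻¹ = t * d.s := by
          calc g * (t * d.z) * g⁻¹ = g * t * d.z * g⁻¹ := by group
            _ = t * (g * d.z * g⁻¹) := by rw [← hgt]; group
            _ = _ := by rw [hgz']
        rw [hw, show g * t * g⁻¹ = t by rw [← hgt, mul_inv_cancel_right], hyinv, e,
          show y * (t * d.s) * y⁻¹ = (y * t * y⁻¹) * (y * d.s * y⁻¹) by group, hyt, hys,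
          mul_assoc t, ← mul_assoc d.z, d.z_sq, one_mul, d.ts, mul_assoc, d.t_inv, mul_one]
  set L := Fr.base with hL
  have hcomm : ∀ v, w * Fr.ι v = Fr.ι v * w := by
    intro v
    show w * d.ι4 f v = d.ι4 f v * w
    rcases f.cases v with rfl | rfl | rfl | rfl
    · simp [ι4_zero]
    · rw [ι4_one]; exact hwz
    · rw [ι4_ω]; exact hws
    · rw [ι4_ω1, ← mul_assoc, hwz, mul_assoc, hws, mul_assoc]
  have hwA : w * t * w⁻¹ * t ∈ L.A := by
    rcases hwt with e | e <;> rw [e]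
    · exact ⟨1, d.ι4_one f⟩
    · exact ⟨f.ω, d.ι4_ω f⟩
  have hwW : w ∈ L.W := by
    refine ⟨?_, hcomm, hwA⟩
    rintro _ ⟨v, rfl⟩
    exact ⟨v, by rw [hcomm, mul_inv_cancel_right]⟩
  have he : L.expLog = 1 := by
    have h1 := L.expLog_pos
    have h2 : L.expLog ≤ 1 := Nat.find_le (h := L.exists_pow) fun a ha => by
      obtain ⟨v, rfl⟩ := ha
      rw [pow_one, pow_two, Fr.ι_mul_self]
    omega
  have hmove : ∃ w ∈ L.W, L.d w ≠ 0 := by
    refine ⟨w, hwW, fun h0 => ?_⟩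
    have h := L.ι_top hwA
    rw [show L.top (w * t * w⁻¹ * t) = 0 from h0, Fr.ι_zero, he, Nat.sub_self, pow_zero, pow_one] at h
    rcases hwt with e | e <;> rw [e] at h
    · exact d.z_ne_one h.symm
    · exact d.s_not (h ▸ one_mem _)
  obtain ⟨C⟩ := L.exists_comp (by rw [hK]; norm_num) hmove
  have hB16 : 16 ≤ Nat.card C.B := by
    have := Level.Comp.card_sq_le (L := L) C.lift (fun v => C.lift_mem v) C.d_lift
      (fun v => C.A_le (L.ι_mem v)) fun v => C.le_W (C.lift_mem v)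
    rwa [hK] at this
  have hB4 : ∀ x ∈ C.B, x * x * (x * x) = 1 := fun x hx => by
    obtain ⟨v, hv⟩ := C.sq_mem_A hx
    rw [← hv, Fr.ι_mul_self]
  have hBp : IsPGroup 2 C.B := L.isPGroup_P.to_le C.le_P
  obtain ⟨P1, hP1⟩ := hBp.exists_le_sylow
  obtain ⟨g1, hg1⟩ := MulAction.exists_smul_eq G P1 S
  set B' := C.B.map (MulAut.conj g1).toMonoidHom
  have hB'S : B' ≤ SG := by
    rintro _ ⟨x, hx, rfl⟩
    show _ ∈ (S : Subgroup G)
    rw [← hg1, Sylow.coe_subgroup_smul]
    exact Subgroup.smul_mem_pointwise_smul _ _ _ (hP1 hx)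
  have hB'card : Nat.card B' = Nat.card C.B := Subgroup.card_map_of_injective (MulAut.conj g1).injective
  have hB'comm : ∀ a ∈ B', ∀ b ∈ B', a * b = b * a := by
    rintro _ ⟨a, ha, rfl⟩ _ ⟨b, hb, rfl⟩
    rw [← map_mul, ← map_mul, C.comm_of_base rfl ha hb]
  have hB'4 : ∀ a ∈ B', a * a * (a * a) = 1 := by
    rintro _ ⟨a, ha, rfl⟩
    rw [← map_mul, ← map_mul, hB4 a ha, map_one]
  set Q := B' ⊓ d.S0
  obtain ⟨F, htF, hFc, hFm⟩ := d.abelian_cases (inf_le_right : Q ≤ d.S0)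
    (fun a ha b hb => hB'comm a ha.1 b hb.1) fun a ha => hB'4 a ha.1
  haveI := Fintype.ofFinite B'
  haveI := Fintype.ofFinite Q
  have hQ2 : Fintype.card B' ≤ 2 * Fintype.card Q := by
    by_cases hout : ∃ b : B', (b : G) ∉ d.S0
    · obtain ⟨b0, hb0⟩ := hout
      have := Fintype.card_le_of_surjective (fun q : Bool × Q =>
        (⟨(if q.1 then (b0 : G) else 1) * (q.2 : G), mul_mem (by split_ifs; exacts [b0.2, one_mem _])
          q.2.2.1⟩ : B')) fun a => by
        by_cases ha : (a : G) ∈ d.S0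
        · exact ⟨(false, ⟨a, a.2, ha⟩), Subtype.ext (by simp)⟩
        · exact ⟨(true, ⟨(b0 : G)⁻¹ * a, B'.mul_mem (B'.inv_mem b0.2) a.2,
            hcos (hB'S b0.2) (hB'S a.2) hb0 ha⟩), Subtype.ext (by simp)⟩
      simpa using this
    · push Not at hout
      have := Fintype.card_le_of_surjective (fun q : Q => (⟨(q : G), q.2.1⟩ : B'))
        fun a => ⟨⟨a, a.2, hout a⟩, rfl⟩
      omega
  let emb : Q → F := fun q => ⟨q, hFm q q.2⟩
  have hemb : Function.Injective emb := fun a b h => Subtype.ext (congrArg (fun x : F => (x : G)) h)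
  have hQF := Fintype.card_le_of_injective emb hemb
  rw [Fintype.card_coe] at hQF
  have h16 : 16 ≤ Fintype.card B' := by rw [← Nat.card_eq_fintype_card, hB'card]; exact hB16
  have hbij : Function.Bijective emb := (Fintype.bijective_iff_injective_and_card _).2
    ⟨hemb, by rw [Fintype.card_coe]; omega⟩
  obtain ⟨⟨q, hq⟩, hqt⟩ := hbij.2 ⟨t, htF⟩
  have htB : t ∈ B' := by
    have : q = t := congrArg (fun x : F => (x : G)) hqt
    exact this ▸ hq.1
  have hBS0 : B' ≤ d.S0 := fun a ha => by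
    rw [← d.cent_eq hSp hS0]
    exact Subgroup.mem_inf.2 ⟨hB'S ha, Subgroup.mem_centralizer_singleton_iff.2 (hB'comm a ha t htB)⟩
  have := Fintype.card_le_of_injective (fun a : B' => (⟨(a : G), a.2, hBS0 a.2⟩ : Q))
    fun a b h => Subtype.ext (congrArg (fun x : Q => (x : G)) h)
  omega

end Dih

end Cfsg.Agent.Lib.TwoTimesPSL
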