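import Mathlib
import Cfsg.Agent.Lib.Characters.Kernel
import Cfsg.Agent.Lib.Characters.Linear
import Cfsg.Agent.Lib.Induced.Basic

/-!
# A group with a small exceptional character

`Z` is an abelian subgroup of order `2 ^ n - 1` of a group of order `2 ^ n (2 ^ n - 1) n`, whose
fusion is given by a group `F` of order `n` acting without fixed points, and which lies in no
proper normal subgroup.  The exceptional characters would have degree `n`, which is too small.
Owner: helper80.
-/

set_option autoImplicit false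
set_option linter.unusedSectionVars false

namespace Cfsg.Agent.Lib.TwoTimesPSL.CharCore

open scoped ComplexConjugate
open Cfsg.Agent.Lib.Characters.Basic Cfsg.Agent.Lib.Induced.Basic

/-- An integral vector of norm two and weighted sum zero is a difference of unit vectors. -/
theorem exists_pair {I : Type*} [Fintype I] [DecidableEq I] (u d : I → ℤ) (hd : ∀ x, 0 < d x)
    (h2 : ∑ x, u x ^ 2 = 2) (h0 : ∑ x, d x * u x = 0) :
    ∃ a b, a ≠ b ∧ u = Pi.single a 1 - Pi.single b 1 := by
  have hle : ∀ x, u x ^ 2 ≤ 2 := fun x =>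
    (Finset.single_le_sum (fun y _ => sq_nonneg (u y)) (Finset.mem_univ x)).trans h2.le
  have h1 : ∀ x, u x ^ 2 = 0 ∨ u x ^ 2 = 1 := fun x => by
    have := hle x
    have : -1 ≤ u x ∧ u x ≤ 1 := ⟨by nlinarith, by nlinarith⟩
    obtain ⟨h, h'⟩ := this
    interval_cases (u x) <;> norm_num
  set s := Finset.univ.filter fun x => u x ≠ 0 with hs
  have hz : ∀ x, x ∉ s → u x = 0 := fun x hx => by simpa [hs] using hx
  have hc : s.card = 2 := by
    have : ∑ x, u x ^ 2 = (s.card : ℤ) := by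
      rw [Finset.card_eq_sum_ones, Nat.cast_sum, hs, Finset.sum_filter]
      refine Finset.sum_congr rfl fun x _ => ?_
      rcases h1 x with h | h <;> by_cases hx : u x = 0 <;> simp_all
    omega
  obtain ⟨a, b, hab, hsab⟩ := Finset.card_eq_two.1 hc
  have hpm : ∀ x ∈ s, u x = 1 ∨ u x = -1 := fun x hx => by
    have hx' : u x ≠ 0 := by simpa [hs] using hx
    rcases h1 x with h | h
    · exact absurd (pow_eq_zero_iff two_ne_zero |>.1 h) hx'
    · exact sq_eq_one_iff.1 h
  have hsum : d a * u a + d b * u b = 0 := by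
    rw [← h0, ← Finset.sum_subset (Finset.subset_univ s) (fun x _ hx => by rw [hz x hx, mul_zero]),
      hsab, Finset.sum_pair hab]
  have key : ∀ a b, a ≠ b → s = {a, b} → u a = 1 → u b = -1 → u = Pi.single a 1 - Pi.single b 1 := by
    intro a b hab hsab ha hb
    funext x
    by_cases hxa : x = a
    · simp [hxa, ha, hab]
    by_cases hxb : x = b
    · simp [hxb, hb, Ne.symm hab]
    rw [hz x (by simp [hsab, hxa, hxb])]
    simp [hxa, hxb]
  have := hd a
  have := hd b
  rcases hpm a (by simp [hsab]) with ha | ha <;> rcases hpm b (by simp [hsab]) with hb | hb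
  · rw [ha, hb] at hsum; omega
  · exact ⟨a, b, hab, key a b hab hsab ha hb⟩
  · exact ⟨b, a, hab.symm, key b a hab.symm (by rw [hsab, Finset.pair_comm]) hb ha⟩
  · rw [ha, hb] at hsum; omega

/-- Vectors of norm `n + 1` with all inner products `n` form a coherent family. -/
theorem star {R I : Type*} [Fintype R] [Fintype I] [DecidableEq I] (v : R → I → ℤ) (d : I → ℤ)
    (hd : ∀ x, 0 < d x) (n D : ℤ) (hn : ∀ i, ∑ x, v i x ^ 2 = n + 1)
    (hin : ∀ i j, i ≠ j → ∑ x, v i x * v j x = n) (hD : ∀ i, ∑ x, d x * v i x = D)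
    (hR : 3 ≤ Fintype.card R) :
    ∃ (ε : ℤ) (Φ : I → ℤ) (L : R → I), (ε = 1 ∨ ε = -1) ∧ Function.Injective L ∧
      ∀ i, v i = Φ + ε • Pi.single (L i) 1 := by
  classical
  obtain ⟨i0⟩ : Nonempty R := Fintype.card_pos_iff.1 (by omega)
  have hu : ∀ j : {j // j ≠ i0}, ∃ a b, a ≠ b ∧ v j - v i0 = Pi.single a 1 - Pi.single b 1 := by
    intro j
    refine exists_pair _ d hd ?_ ?_
    · have : ∀ x, (v j - v i0) x ^ 2 = v j x ^ 2 + v i0 x ^ 2 - 2 * (v j x * v i0 x) := fun x => by
        simp only [Pi.sub_apply]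
        ring
      simp only [this, Finset.sum_sub_distrib, Finset.sum_add_distrib, hn, ← Finset.mul_sum,
        hin _ _ j.2]
      ring
    · simp only [Pi.sub_apply, mul_sub, Finset.sum_sub_distrib, hD, sub_self]
  choose A B hab hAB using hu
  have hdot : ∀ j k : {j // j ≠ i0}, j ≠ k →
      (if A j = A k then (1 : ℤ) else 0) + (if B j = B k then 1 else 0) -
        (if A j = B k then 1 else 0) - (if B j = A k then 1 else 0) = 1 := by
    intro j k hjk
    have h : ∑ x, (v j - v i0) x * (v k - v i0) x = 1 := by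
      simp only [Pi.sub_apply, sub_mul, mul_sub, Finset.sum_sub_distrib,
        hin _ _ (fun h => hjk (Subtype.ext h)), hin _ _ j.2, hin _ _ (Ne.symm k.2)]
      simp only [← pow_two, hn]
      ring
    rw [hAB, hAB] at h
    simp only [Pi.sub_apply, sub_mul, Pi.single_apply, ite_mul, one_mul, zero_mul,
      Finset.sum_sub_distrib, Finset.sum_ite_eq', Finset.mem_univ, if_true] at h
    linarith
  have hshare : ∀ j k, j ≠ k →
      (A j = A k ∧ B j ≠ B k) ∨ (A j ≠ A k ∧ B j = B k) := by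
    intro j k hjk
    have h := hdot j k hjk
    by_cases h1 : A j = A k <;> by_cases h2 : B j = B k
    · rw [if_pos h1, if_pos h2, if_neg (h1 ▸ hab k), if_neg (h1 ▸ (hab j).symm)] at h
      omega
    · exact Or.inl ⟨h1, h2⟩
    · exact Or.inr ⟨h1, h2⟩
    · rw [if_neg h1, if_neg h2] at h
      split_ifs at h <;> omega
  obtain ⟨j1, j2, hj12⟩ : ∃ j1 j2 : {j // j ≠ i0}, j1 ≠ j2 := by
    refine Fintype.one_lt_card_iff.1 ?_
    rw [Fintype.card_subtype_compl, Fintype.card_subtype_eq]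
    omega
  rcases hshare j1 j2 hj12 with ⟨ha, hb⟩ | ⟨ha, hb⟩
  · have hall : ∀ j, A j = A j1 := by
      intro j
      by_cases hj : j = j1
      · rw [hj]
      by_cases hj' : j = j2
      · rw [hj', ha]
      rcases hshare j j1 hj with ⟨h, -⟩ | ⟨h, h'⟩
      · exact h
      · rcases hshare j j2 hj' with ⟨h2, -⟩ | ⟨-, h2⟩
        · exact absurd (h2.trans ha.symm) h
        · exact absurd (h'.symm.trans h2) hb
    let L : R → I := fun i => if h : i = i0 then A j1 else B ⟨i, h⟩
    refine ⟨-1, v i0 + Pi.single (A j1) 1, L, Or.inr rfl, ?_, fun i => ?_⟩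
    · intro i k h
      simp only [L] at h
      split_ifs at h with hi hk hk
      · exact hi.trans hk.symm
      · exact absurd ((hall ⟨k, hk⟩).trans h) (hab _)
      · exact absurd ((hall ⟨i, hi⟩).trans h.symm) (hab _)
      · by_contra hik
        rcases hshare ⟨i, hi⟩ ⟨k, hk⟩ (fun e => hik (congrArg Subtype.val e)) with ⟨-, h'⟩ | ⟨h', -⟩
        · exact h' h
        · exact h' ((hall _).trans (hall _).symm)
    · simp only [L]
      split_ifs with hi
      · subst hi
        simp [neg_smul, one_smul]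
      · rw [neg_smul, one_smul, ← hall ⟨i, hi⟩, add_assoc, ← sub_eq_add_neg, ← hAB ⟨i, hi⟩,
          add_sub_cancel]
  · have hall : ∀ j, B j = B j1 := by
      intro j
      by_cases hj : j = j1
      · rw [hj]
      by_cases hj' : j = j2
      · rw [hj', hb]
      rcases hshare j j1 hj with ⟨h, h'⟩ | ⟨-, h⟩
      · rcases hshare j j2 hj' with ⟨h2, -⟩ | ⟨-, h2⟩
        · exact absurd (h.symm.trans h2) ha
        · exact absurd (h2.trans hb.symm) h'
      · exact h
    let L : R → I := fun i => if h : i = i0 then B j1 else A ⟨i, h⟩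
    refine ⟨1, v i0 - Pi.single (B j1) 1, L, Or.inl rfl, ?_, fun i => ?_⟩
    · intro i k h
      simp only [L] at h
      split_ifs at h with hi hk hk
      · exact hi.trans hk.symm
      · exact absurd (h.symm.trans (hall ⟨k, hk⟩).symm) (hab _)
      · exact absurd (h.trans (hall ⟨i, hi⟩).symm) (hab _)
      · by_contra hik
        rcases hshare ⟨i, hi⟩ ⟨k, hk⟩ (fun e => hik (congrArg Subtype.val e)) with ⟨h', -⟩ | ⟨-, h'⟩
        · rcases hshare ⟨i, hi⟩ ⟨k, hk⟩ (fun e => hik (congrArg Subtype.val e)) with ⟨-, h2⟩ | ⟨h2, -⟩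
          · exact h2 ((hall _).trans (hall _).symm)
          · exact h2 h'
        · rcases hshare ⟨i, hi⟩ ⟨k, hk⟩ (fun e => hik (congrArg Subtype.val e)) with ⟨-, h2⟩ | ⟨h2, -⟩
          · exact h2 h'
          · exact h2 h
    · simp only [L]
      split_ifs with hi
      · subst hi
        simp [one_smul]
      · rw [one_smul, ← hall ⟨i, hi⟩, sub_add_eq_add_sub, add_sub_assoc, ← hAB ⟨i, hi⟩,
          add_sub_cancel]

theorem pow_bound : ∀ n, 7 ≤ n → 2 * n * n + 2 ≤ 2 ^ n := by
  intro n hn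
  induction n, hn using Nat.le_induction with
  | base => norm_num
  | succ n hn ih =>
    rw [pow_succ]
    nlinarith

/-- The parameters of a coherent family. -/
theorem arith (n m c a R X T S1 S2 ε : ℤ) (hε : ε = 1 ∨ ε = -1) (hR : S2 = m * c ^ 2 + R)
    (hX : S1 = m * (c * a) + X) (hT : 2 * n = 1 + m * (a * a) + T)
    (ec : S2 + 2 * ε * c + 1 = n + 1) (ea : S1 + ε * a = n) (hCS : X ^ 2 ≤ R * T)
    (hX0 : X = 0 → T = 0) (hRnn : 0 ≤ R) (hTnn : 0 ≤ T) (ha : 0 ≤ a) (hc : 0 ≤ c)
    (hcε : 0 ≤ c + ε) (h : n = 5 ∧ m = 6 ∨ 7 ≤ n ∧ 2 * n ≤ m) : ε = 1 ∧ c = 0 ∧ a = 0 := by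
  have hm0 : 0 ≤ m := by rcases h with ⟨-, h⟩ | ⟨h', h⟩ <;> omega
  have haa : a = 0 ∨ (a = 1 ∧ n = 5 ∧ m = 6) := by
    rcases eq_or_lt_of_le ha with h0 | h0
    · exact Or.inl h0.symm
    rcases h with ⟨hn, hm⟩ | ⟨hn, hm⟩
    · refine Or.inr ⟨?_, hn, hm⟩
      subst hn hm
      by_contra hne
      have h2 : 2 * 2 ≤ a * a := mul_le_mul (by omega) (by omega) (by norm_num) ha
      omega
    · have h2 : m * 1 ≤ m * (a * a) := mul_le_mul_of_nonneg_left (one_le_mul_of_one_le_of_one_le h0 h0) hm0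
      omega
  rcases hε with rfl | rfl
  · have hc0 : c = 0 := by
      by_contra hne
      have h2 : m * 1 ≤ m * c ^ 2 :=
        mul_le_mul_of_nonneg_left (one_le_pow₀ (by omega : 1 ≤ c)) hm0
      rcases h with ⟨hn, hm⟩ | ⟨hn, hm⟩ <;> omega
    refine ⟨rfl, hc0, haa.resolve_right ?_⟩
    rintro ⟨rfl, rfl, rfl⟩
    subst hc0
    obtain rfl : R = 5 := by linarith
    obtain rfl : T = 3 := by linarith
    obtain rfl : X = 4 := by linarith
    norm_num at hCS
  · exfalso
    have hc1 : 1 ≤ c := by omega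
    have hcc : c ≤ c ^ 2 := by nlinarith
    have h2 : m * c ≤ m * c ^ 2 := mul_le_mul_of_nonneg_left hcc hm0
    rcases h with ⟨rfl, rfl⟩ | ⟨hn, hm⟩
    · obtain rfl : c = 1 := by omega
      obtain rfl : R = 1 := by omega
      rcases haa with rfl | ⟨rfl, -, -⟩
      · obtain rfl : X = 5 := by omega
        obtain rfl : T = 9 := by omega
        norm_num at hCS
      · have := hX0 (by omega)
        omega
    · have h3 : (2 * n - 2) * 1 ≤ (m - 2) * c := mul_le_mul (by omega) hc1 zero_le_one (by omega)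
      linarith

universe u

/-- The contradiction. -/
theorem false_of_trans {Γ : Type u} [Group Γ] [Finite Γ] (Z F : Subgroup Γ) (n : ℕ)
    (hn : n = 5 ∨ 7 ≤ n) (hZ : Nat.card Z + 1 = 2 ^ n) (hΓ : Nat.card Γ = 2 ^ n * Nat.card Z * n)
    (hF : Nat.card F = n) (hcomm : ∀ a ∈ Z, ∀ b ∈ Z, a * b = b * a)
    (hnorm : ∀ y ∈ F, ∀ z ∈ Z, y * z * y⁻¹ ∈ Z)
    (hfree : ∀ y ∈ F, y ≠ 1 → ∀ z ∈ Z, y * z * y⁻¹ = z → z = 1)
    (hfus : ∀ x : Γ, ∀ z ∈ Z, z ≠ 1 → x⁻¹ * z * x ∈ Z → ∃ y ∈ F, x * y⁻¹ ∈ Z)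
    (hmax : ∀ M : Subgroup Γ, M.Normal → Z ≤ M → M = ⊤) : False := by
  classical
  haveI := Fintype.ofFinite Γ
  haveI := Fintype.ofFinite (Cfsg.IrrCharacter Γ)
  haveI := Fintype.ofFinite (Cfsg.IrrCharacter Z)
  have hn5 : 5 ≤ n := by omega
  have hpow : 32 ≤ 2 ^ n := le_trans (by norm_num) (Nat.pow_le_pow_right two_pos hn5)
  set q := 2 ^ n
  have hcommZ : ∀ a b : Z, a * b = b * a := fun a b => Subtype.ext (hcomm _ a.2 _ b.2)
  have hdegZ : ∀ θ : Cfsg.IrrCharacter Z, (θ : Z → ℂ) 1 = 1 := fun θ =>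
    Characters.Linear.degree_eq_one_of_comm hcommZ θ
  -- twists
  let tw : F → (Z ≃* Z) := fun y =>
    { toFun := fun z => ⟨(y : Γ)⁻¹ * z * y, by simpa using hnorm _ (inv_mem y.2) _ z.2⟩
      invFun := fun z => ⟨(y : Γ) * z * (y : Γ)⁻¹, hnorm _ y.2 _ z.2⟩
      left_inv := fun z => Subtype.ext (by simp [mul_assoc])
      right_inv := fun z => Subtype.ext (by simp [mul_assoc])
      map_mul' := fun a b => Subtype.ext (by push_cast; group) }
  let twc : F → Cfsg.IrrCharacter Z → Cfsg.IrrCharacter Z := fun y θ =>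
    ⟨(θ : Z → ℂ) ∘ (tw y).toMonoidHom, isIrrCharacter_comp _ (tw y).surjective θ.2⟩
  have twc_apply : ∀ (y : F) (θ : Cfsg.IrrCharacter Z) (z : Z),
      (twc y θ : Z → ℂ) z = (θ : Z → ℂ) (tw y z) := fun _ _ _ => rfl
  have twc_one : ∀ θ, twc 1 θ = θ := fun θ => Subtype.ext (funext fun z => by
    rw [twc_apply]; exact congrArg _ (Subtype.ext (by simp [tw])))
  have twc_mul : ∀ a b θ, twc a (twc b θ) = twc (a * b) θ := fun a b θ =>
    Subtype.ext (funext fun z => by
      rw [twc_apply, twc_apply, twc_apply]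
      exact congrArg _ (Subtype.ext (by simp [tw, mul_assoc])))
  have twc_triv : ∀ y, twc y (oneChar Z) = oneChar Z := fun y =>
    Subtype.ext (funext fun z => by rw [twc_apply, oneChar_apply, oneChar_apply])
  have hZnt : ∃ z : Z, z ≠ 1 := by
    haveI : Nontrivial Z := Finite.one_lt_card_iff_nontrivial.1 (by omega)
    exact exists_ne 1
  have hregular : ∀ θ : Cfsg.IrrCharacter Z, θ ≠ oneChar Z →
      Function.Injective fun y => twc y θ := by
    intro θ hθ a b hab
    by_contra hne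
    set c := a⁻¹ * b with hc
    have hc1 : c ≠ 1 := fun h => hne (inv_mul_eq_one.1 h)
    have hfix : twc c θ = θ := by
      rw [hc, ← twc_mul, show twc b θ = twc a θ from hab.symm, twc_mul, inv_mul_cancel, twc_one]
    let f : Z → Z := fun z => z⁻¹ * tw c z
    have hf : Function.Injective f := by
      intro u v huv
      have h1 : tw c (v⁻¹ * u) = v⁻¹ * u := by
        have h2 : u⁻¹ * tw c u = v⁻¹ * tw c v := huv
        calc tw c (v⁻¹ * u) = (tw c v)⁻¹ * (u * (u⁻¹ * tw c u)) := by rw [map_mul, map_inv]; group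
          _ = (tw c v)⁻¹ * (v⁻¹ * tw c v) * u := by rw [h2, hcommZ u]; simp only [mul_assoc]
          _ = v⁻¹ * u := by rw [hcommZ v⁻¹ (tw c v), inv_mul_cancel_left]
      have hv : ((v⁻¹ * u : Z) : Γ) = 1 := by
        refine hfree _ c.2 (fun h => hc1 (Subtype.ext h)) _ (v⁻¹ * u).2 ?_
        have h3 : (c : Γ)⁻¹ * (v⁻¹ * u : Z) * c = (v⁻¹ * u : Z) := congrArg Subtype.val h1
        conv_lhs => rw [← h3]
        group
      exact (inv_mul_eq_one.1 (Subtype.ext hv : v⁻¹ * u = 1)).symm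
    refine hθ (Subtype.ext (funext fun w => ?_))
    obtain ⟨z, rfl⟩ := (Finite.injective_iff_surjective.1 hf) w
    rw [oneChar_apply, Characters.Linear.apply_mul_of_degree_one (isCharacter_irr θ) (hdegZ θ),
      ← twc_apply, hfix, ← Characters.Linear.apply_mul_of_degree_one (isCharacter_irr θ) (hdegZ θ),
      inv_mul_cancel, hdegZ]
  -- induced characters at elements of `Z`
  let e : Z × F → Γ := fun p => (p.1 : Γ) * p.2
  have he : Function.Injective e := by
    rintro ⟨z, y⟩ ⟨z', y'⟩ h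
    have h' : (z : Γ) * y = z' * y' := h
    have hm : (y : Γ) * (y' : Γ)⁻¹ ∈ Z := by
      rw [show (y : Γ) * (y' : Γ)⁻¹ = (z : Γ)⁻¹ * z' by
        rw [eq_inv_mul_iff_mul_eq, ← mul_assoc, h']; group]
      exact mul_mem (inv_mem z.2) z'.2
    by_cases hy : y * y'⁻¹ = 1
    · have := mul_inv_eq_one.1 hy
      subst this
      exact Prod.ext (Subtype.ext (mul_right_cancel h')) rfl
    · obtain ⟨w, hw⟩ := hZnt
      refine absurd (Subtype.ext (hfree _ (y * y'⁻¹).2 (fun h => hy (Subtype.ext h)) _ w.2 ?_)) hw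
      push_cast
      rw [hcomm _ hm _ w.2, mul_inv_cancel_right]
  have hind : ∀ (θ : Cfsg.IrrCharacter Z) (z : Z), z ≠ 1 →
      Cfsg.indFun Z (θ : Z → ℂ) z = ∑ y : F, (twc y θ : Z → ℂ) z := by
    intro θ z hz
    rw [indFun_apply, ← Finset.sum_subset (Finset.subset_univ (Finset.univ.image e)) ?_,
      Finset.sum_image he.injOn, Fintype.sum_prod_type_right, Finset.mul_sum]
    · refine Finset.sum_congr rfl fun y _ => ?_
      have hterm : ∀ a : Z, (if hx : (e (a, y))⁻¹ * (z : Γ) * e (a, y) ∈ Z then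
          (θ : Z → ℂ) ⟨_, hx⟩ else 0) = (twc y θ : Z → ℂ) z := by
        intro a
        have h1 : (e (a, y))⁻¹ * (z : Γ) * e (a, y) = (tw y z : Γ) := by
          show _ = (y : Γ)⁻¹ * z * y
          simp only [e]
          calc ((a : Γ) * y)⁻¹ * z * (a * y) = (y : Γ)⁻¹ * ((a : Γ)⁻¹ * (z * a)) * y := by group
            _ = _ := by rw [hcomm _ z.2 _ a.2, inv_mul_cancel_left]
        have hm : (e (a, y))⁻¹ * (z : Γ) * e (a, y) ∈ Z := h1 ▸ (tw y z).2
        rw [dif_pos hm, twc_apply]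
        exact congrArg _ (Subtype.ext h1)
      simp only [hterm]
      rw [Finset.sum_const, Finset.card_univ, nsmul_eq_mul, ← Nat.card_eq_fintype_card,
        inv_mul_cancel_left₀ (subgroup_card_ne_zero Z)]
    · intro x _ hx
      rw [dif_neg]
      intro hm
      obtain ⟨y, hy, hyZ⟩ := hfus x z z.2 (fun h => hz (Subtype.ext h)) hm
      exact hx (Finset.mem_image.2 ⟨(⟨_, hyZ⟩, ⟨y, hy⟩), Finset.mem_univ _, by simp [e]⟩)
  have hindex : Z.index = q * n := by
    have := Z.card_mul_index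
    rw [hΓ, mul_comm q, mul_assoc] at this
    exact Nat.eq_of_mul_eq_mul_left Nat.card_pos this
  have hinner : ∀ θ θ' : Cfsg.IrrCharacter Z,
      Cfsg.classInner (Cfsg.indFun Z (θ : Z → ℂ)) (Cfsg.indFun Z (θ' : Z → ℂ)) =
        (n + (Finset.univ.filter fun y : F => twc y θ' = θ).card : ℕ) := by
    intro θ θ'
    rw [frobenius_reciprocity Z _ (isClassFunction_indFun Z _)]
    have hfun : (fun h : Z => Cfsg.indFun Z (θ' : Z → ℂ) h) =
        (∑ y : F, (twc y θ' : Z → ℂ)) + fun h : Z => if h = 1 then ((q * n - n : ℕ) : ℂ) else 0 := by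
      funext h
      rw [Pi.add_apply, Finset.sum_apply]
      by_cases hh : h = 1
      · subst hh
        rw [if_pos rfl, OneMemClass.coe_one, indFun_one, hdegZ, mul_one, hindex,
          Finset.sum_congr rfl (fun y _ => hdegZ (twc y θ')), Finset.sum_const, Finset.card_univ,
          ← Nat.card_eq_fintype_card, hF, nsmul_eq_mul, mul_one, ← Nat.cast_add]
        congr 1
        have := Nat.le_mul_of_pos_left n (show 0 < q by omega)
        omega
      · rw [if_neg hh, add_zero, hind θ' h hh]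
    rw [hfun, classInner_add_right, classInner_sum_right]
    have h2 : Cfsg.classInner (θ : Z → ℂ) (fun h : Z => if h = 1 then ((q * n - n : ℕ) : ℂ) else 0) =
        (n : ℂ) := by
      rw [Cfsg.classInner, Finset.sum_eq_single 1 (fun b _ hb => by rw [if_neg hb, map_zero, mul_zero])
        (fun h => absurd (Finset.mem_univ _) h), if_pos rfl, hdegZ, one_mul, map_natCast,
        inv_mul_eq_iff_eq_mul₀ (natCard_ne_zero (G := Z)), ← Nat.cast_mul]
      congr 1
      rw [← Nat.sub_one_mul, ← hZ, Nat.add_sub_cancel]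
    have hb : ∀ y : F, Cfsg.classInner (θ : Z → ℂ) (twc y θ') =
        ((if twc y θ' = θ then 1 else 0 : ℕ) : ℂ) := fun y => by
      rw [classInner_irr]
      by_cases h : twc y θ' = θ <;> simp [h, Ne.symm]
    simp only [hb]
    rw [h2, ← Nat.cast_sum, Finset.card_filter, add_comm, Nat.cast_add]
  -- multiplicities
  choose k hk using fun (ψ : Cfsg.IrrCharacter Γ) (θ : Cfsg.IrrCharacter Z) =>
    exists_classInner_nat (isCharacter_comp Z.subtype (isCharacter_irr ψ)) (isCharacter_irr θ)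
  have hk' : ∀ (ψ : Cfsg.IrrCharacter Γ) (θ : Cfsg.IrrCharacter Z), Cfsg.classInner (Cfsg.indFun Z (θ : Z → ℂ)) (ψ : Γ → ℂ) = k ψ θ := by
    intro ψ θ
    rw [frobenius_reciprocity Z _ (isClassFunction_irr ψ), ← classInner_conj_symm]
    show conj (Cfsg.classInner ((ψ : Γ → ℂ) ∘ Z.subtype) _) = _
    rw [hk, map_natCast]
  have hdot : ∀ θ θ', ∑ ψ, k ψ θ * k ψ θ' =
      n + (Finset.univ.filter fun y : F => twc y θ' = θ).card := by
    intro θ θ'
    have h := hinner θ θ'
    conv_lhs at h =>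
      arg 2
      rw [Characters.Complete.classFunction_eq_sum (isClassFunction_indFun Z (θ' : Z → ℂ))]
    simp only [classInner_sum_right, classInner_smul_right, hk', map_natCast] at h
    norm_cast at h
    rw [← h]
    exact Finset.sum_congr rfl fun ψ _ => mul_comm _ _
  choose dg hdg0 hdg using fun ψ : Cfsg.IrrCharacter Γ => exists_degree_pos ψ
  have hdeg : ∀ θ, ∑ ψ, dg ψ * k ψ θ = q * n := by
    intro θ
    have h := congrFun (Characters.Complete.classFunction_eq_sum
      (isClassFunction_indFun Z (θ : Z → ℂ))) 1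
    rw [indFun_one, hdegZ, mul_one, hindex] at h
    simp only [Finset.sum_apply, Pi.smul_apply, smul_eq_mul, hk', hdg] at h
    norm_cast at h
    rw [h]
    exact Finset.sum_congr rfl fun ψ _ => mul_comm _ _
  have hres1 : ∀ ψ, dg ψ = ∑ θ, k ψ θ := by
    intro ψ
    have h := congrFun (Characters.Complete.classFunction_eq_sum
      (isClassFunction_of_isCharacter (isCharacter_comp Z.subtype (isCharacter_irr ψ)))) 1
    simp only [Finset.sum_apply, Pi.smul_apply, smul_eq_mul, hk, hdegZ, mul_one,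
      Function.comp_apply, map_one, hdg] at h
    exact_mod_cast h
  have hktw : ∀ ψ y θ, k ψ (twc y θ) = k ψ θ := by
    intro ψ y θ
    apply Nat.cast_injective (R := ℂ)
    rw [← hk, ← hk, Cfsg.classInner, Cfsg.classInner]
    congr 1
    refine Fintype.sum_equiv (tw y).toEquiv _ _ fun z => ?_
    show (ψ : Γ → ℂ) z * conj ((θ : Z → ℂ) (tw y z)) = (ψ : Γ → ℂ) (tw y z) * _
    congr 1
    show (ψ : Γ → ℂ) z = (ψ : Γ → ℂ) ((y : Γ)⁻¹ * z * y)
    simpa using (isClassFunction_irr ψ (z : Γ) (y : Γ)⁻¹).symm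
  have hkone : ∀ θ, θ ≠ oneChar Z → k (oneChar Γ) θ = 0 := by
    intro θ hθ
    apply Nat.cast_injective (R := ℂ)
    rw [← hk, Nat.cast_zero, ← classInner_irr_of_ne (Ne.symm hθ)]
    rfl
  have hone1 : k (oneChar Γ) (oneChar Z) = 1 := by
    apply Nat.cast_injective (R := ℂ)
    rw [← hk, Nat.cast_one, ← classInner_self_irr (oneChar Z)]
    rfl
  have hker : ∀ ψ, (∀ θ, θ ≠ oneChar Z → k ψ θ = 0) → ψ = oneChar Γ := by
    intro ψ h
    have hres := Characters.Complete.classFunction_eq_sum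
      (isClassFunction_of_isCharacter (isCharacter_comp Z.subtype (isCharacter_irr ψ)))
    have hc : ∀ z : Z, (ψ : Γ → ℂ) z = k ψ (oneChar Z) := fun z => by
      have h' := congrFun hres z
      rw [Finset.sum_apply, Finset.sum_eq_single (oneChar Z)
        (fun θ _ hθ => by rw [Pi.smul_apply, hk, h θ hθ, Nat.cast_zero, zero_smul])
        (fun h => absurd (Finset.mem_univ _) h), Pi.smul_apply, hk, oneChar_apply,
        smul_eq_mul, mul_one] at h'
      exact h'
    have htop := hmax _ (Characters.Kernel.charKer_normal (isCharacter_irr ψ)) fun z hz =>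
      (Characters.Kernel.mem_charKer (isCharacter_irr ψ) z).2 (by
        rw [hc ⟨z, hz⟩, ← OneMemClass.coe_one Z, hc])
    have hconst : (ψ : Γ → ℂ) = fun _ => (ψ : Γ → ℂ) 1 := funext fun g =>
      (Characters.Kernel.mem_charKer (isCharacter_irr ψ) g).1 (htop ▸ Subgroup.mem_top g)
    have h1 := classInner_self_irr ψ
    rw [hconst, Cfsg.classInner, hdg, map_natCast, Finset.sum_const, Finset.card_univ,
      nsmul_eq_mul, ← Nat.card_eq_fintype_card, inv_mul_cancel_left₀ natCard_ne_zero] at h1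
    refine Subtype.ext ?_
    rw [hconst, hdg, Nat.eq_one_of_mul_eq_one_right (by exact_mod_cast h1 : dg ψ * dg ψ = 1),
      Nat.cast_one]
    rfl
  -- orbits
  let Θ := {θ : Cfsg.IrrCharacter Z // θ ≠ oneChar Z}
  have twc_ne : ∀ y θ, θ ≠ oneChar Z → twc y θ ≠ oneChar Z := fun y θ hθ h => hθ (by
    rw [← twc_one θ, ← inv_mul_cancel y, ← twc_mul, h, twc_triv])
  let st : Setoid Θ :=
    { r := fun a b => ∃ y : F, twc y a.1 = b.1
      iseqv := ⟨fun a => ⟨1, twc_one _⟩,
        fun {a b} ⟨y, h⟩ => ⟨y⁻¹, by rw [← h, twc_mul, inv_mul_cancel, twc_one]⟩,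
        fun {a b c} ⟨y, h⟩ ⟨y', h'⟩ => ⟨y' * y, by rw [← twc_mul, h, h']⟩⟩ }
  haveI : Fintype (Quotient st) := Fintype.ofFinite _
  let rep : Quotient st → Θ := fun i => i.out
  have hrep : ∀ θ : Θ, ∃ y : F, twc y (rep (Quotient.mk st θ)).1 = θ.1 := fun θ =>
    Quotient.exact (Quotient.out_eq (Quotient.mk st θ))
  have hrep' : ∀ i j, (∃ y : F, twc y (rep i).1 = (rep j).1) → i = j := fun i j h => by
    rw [← Quotient.out_eq i, ← Quotient.out_eq j]
    exact Quotient.sound h
  set m := Fintype.card (Quotient st)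
  have hbij : Function.Bijective (fun p : Quotient st × F =>
      (⟨twc p.2 (rep p.1).1, twc_ne _ _ (rep p.1).2⟩ : Θ)) := by
    refine ⟨fun a b h => ?_, fun θ => ?_⟩
    · have h' : twc a.2 (rep a.1).1 = twc b.2 (rep b.1).1 := congrArg Subtype.val h
      have : a.1 = b.1 := hrep' _ _ ⟨b.2⁻¹ * a.2, by
        rw [← twc_mul, h', twc_mul, inv_mul_cancel, twc_one]⟩
      rw [this] at h'
      exact Prod.ext this (hregular _ (rep b.1).2 h')
    · obtain ⟨y, hy⟩ := hrep θ
      exact ⟨(Quotient.mk st θ, y), Subtype.ext hy⟩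
  have hcardirr : Fintype.card (Cfsg.IrrCharacter Z) = Nat.card Z := by
    have h := Characters.Complete.finsum_degree_sq (G := Z)
    rw [finsum_eq_sum_of_fintype] at h
    simp only [hdegZ, one_pow, Finset.sum_const, Finset.card_univ, nsmul_eq_mul, mul_one] at h
    exact_mod_cast h
  have hm : m * n + 2 = q := by
    have h := Fintype.card_of_bijective hbij
    rw [Fintype.card_prod, ← Nat.card_eq_fintype_card (α := F), hF] at h
    rw [show Fintype.card Θ = Fintype.card (Cfsg.IrrCharacter Z) - 1 by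
      simp [Θ, Fintype.card_subtype_compl], hcardirr] at h
    show Fintype.card (Quotient st) * n + 2 = q
    omega
  have hm6 : n = 5 ∧ m = 6 ∨ 7 ≤ n ∧ 2 * n ≤ m := by
    rcases hn with h | h
    · left
      refine ⟨h, ?_⟩
      have : q = 32 := by simp [q, h]
      subst h
      omega
    · right
      refine ⟨h, ?_⟩
      have h7 := pow_bound n h
      by_contra hlt
      push Not at hlt
      have := Nat.mul_le_mul_right n hlt
      change m * n + 2 = 2 ^ n at hm
      nlinarith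
  have hm3 : 3 ≤ m := by omega
  -- the family
  have hfilt : ∀ i j : Quotient st,
      (Finset.univ.filter fun y : F => twc y (rep j).1 = (rep i).1).card = if i = j then 1 else 0 := by
    intro i j
    split_ifs with h
    · subst h
      rw [Finset.card_eq_one]
      refine ⟨1, Finset.eq_singleton_iff_unique_mem.2 ⟨by simp [twc_one], fun y hy => ?_⟩⟩
      exact hregular _ (rep i).2 (show twc y _ = twc 1 _ by rw [(Finset.mem_filter.1 hy).2, twc_one])
    · rw [Finset.card_eq_zero, Finset.filter_eq_empty_iff]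
      exact fun y _ hy => h (hrep' _ _ ⟨y, hy⟩).symm
  obtain ⟨ε, Φ, L, hε, hL, hv⟩ := star (fun i ψ => (k ψ (rep i).1 : ℤ)) (fun ψ => (dg ψ : ℤ))
    (fun ψ => by exact_mod_cast hdg0 ψ) n (q * n)
    (fun i => by
      have h := hdot (rep i).1 (rep i).1
      rw [hfilt, if_pos rfl] at h
      simp only [pow_two]
      exact_mod_cast h)
    (fun i j hij => by
      have h := hdot (rep i).1 (rep j).1
      rw [hfilt, if_neg hij, add_zero] at h
      exact_mod_cast h)
    (fun i => by exact_mod_cast hdeg (rep i).1) hm3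
  have hv' : ∀ i ψ, (k ψ (rep i).1 : ℤ) = Φ ψ + if ψ = L i then ε else 0 := fun i ψ => by
    have h := congrFun (hv i) ψ
    rw [Pi.add_apply, Pi.smul_apply, Pi.single_apply, smul_eq_mul] at h
    rw [h]
    split_ifs <;> simp
  haveI : Nonempty (Quotient st) := Fintype.card_pos_iff.1 (show 0 < m by omega)
  set O : Finset (Cfsg.IrrCharacter Γ) :=
    Finset.univ \ insert (oneChar Γ) (Finset.univ.image L) with hO
  have hOne : ∀ i, L i ≠ oneChar Γ := by
    intro i h
    obtain ⟨j, hj⟩ : ∃ j, j ≠ i := Fintype.exists_ne_of_one_lt_card (show 1 < m by omega) i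
    have h1 := hv' i (oneChar Γ)
    have h2 := hv' j (oneChar Γ)
    rw [hkone _ (rep i).2, if_pos h.symm, Nat.cast_zero] at h1
    rw [hkone _ (rep j).2, if_neg (fun e => hj (hL (h ▸ e.symm))), Nat.cast_zero, add_zero] at h2
    rcases hε with e | e <;> rw [e, ← h2] at h1 <;> omega
  have hΦone : Φ (oneChar Γ) = 0 := by
    obtain ⟨i⟩ : Nonempty (Quotient st) := inferInstance
    have h1 := hv' i (oneChar Γ)
    rw [hkone _ (rep i).2, if_neg (Ne.symm (hOne i)), add_zero, Nat.cast_zero] at h1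
    exact h1.symm
  have hsplit : ∀ f : Cfsg.IrrCharacter Γ → ℤ,
      ∑ ψ, f ψ = f (oneChar Γ) + ∑ i, f (L i) + ∑ ψ ∈ O, f ψ := by
    intro f
    rw [← Finset.sum_sdiff (Finset.subset_univ (insert (oneChar Γ) (Finset.univ.image L))),
      Finset.sum_insert (fun h => by
        obtain ⟨i, -, hi⟩ := Finset.mem_image.1 h
        exact hOne i hi), Finset.sum_image hL.injOn]
    ring
  have hOΦ : ∀ ψ ∈ O, 1 ≤ Φ ψ ∧ ∀ θ : Θ, (k ψ θ.1 : ℤ) = Φ ψ := by
    intro ψ hψ
    have hψ' : ψ ≠ oneChar Γ ∧ ∀ i, ψ ≠ L i := by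
      simp only [hO, Finset.mem_sdiff, Finset.mem_univ, true_and, Finset.mem_insert,
        Finset.mem_image, not_or, not_exists] at hψ
      exact ⟨hψ.1, fun i h => hψ.2 i h.symm⟩
    have hall : ∀ θ : Θ, (k ψ θ.1 : ℤ) = Φ ψ := by
      intro θ
      obtain ⟨y, hy⟩ := hrep θ
      rw [← hy, hktw, hv', if_neg (hψ'.2 _), add_zero]
    refine ⟨?_, hall⟩
    obtain ⟨i⟩ : Nonempty (Quotient st) := inferInstance
    have h0 := hall (rep i)
    by_contra hlt
    refine hψ'.1 (hker ψ fun θ hθ => ?_)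
    have h1 := hall ⟨θ, hθ⟩
    dsimp only at h1
    omega
  obtain ⟨i0⟩ : Nonempty (Quotient st) := inferInstance
  set w : Cfsg.IrrCharacter Γ → ℤ := fun ψ => (k ψ (oneChar Z) : ℤ)
  have hw2 : ∑ ψ, w ψ * w ψ = 2 * n := by
    have h := hdot (oneChar Z) (oneChar Z)
    rw [Finset.filter_true_of_mem (fun y _ => twc_triv y), Finset.card_univ,
      ← Nat.card_eq_fintype_card, hF, ← two_mul] at h
    simp only [w]
    exact_mod_cast h
  have hvw : ∀ i, ∑ ψ, (Φ ψ + if ψ = L i then ε else 0) * w ψ = n := by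
    intro i
    have h := hdot (rep i).1 (oneChar Z)
    rw [Finset.filter_false_of_mem (fun y _ h => (rep i).2 (h.symm.trans (twc_triv y))),
      Finset.card_empty, add_zero] at h
    simp only [← hv', w]
    exact_mod_cast h
  have hv2 : ∀ i, ∑ ψ, (Φ ψ + if ψ = L i then ε else 0) ^ 2 = n + 1 := by
    intro i
    simp only [← hv', pow_two]
    have h := hdot (rep i).1 (rep i).1
    rw [hfilt, if_pos rfl] at h
    exact_mod_cast h
  set S2 := ∑ ψ, Φ ψ ^ 2
  set S1 := ∑ ψ, Φ ψ * w ψ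
  have hε2 : ε * ε = 1 := by rcases hε with e | e <;> simp [e]
  have e2 : ∀ i, S2 + 2 * ε * Φ (L i) + 1 = n + 1 := by
    intro i
    have h := hv2 i
    have : ∀ ψ, (Φ ψ + if ψ = L i then ε else 0) ^ 2 =
        Φ ψ ^ 2 + if ψ = L i then 2 * ε * Φ ψ + 1 else 0 := fun ψ => by
      split_ifs
      · rw [← hε2]; ring
      · ring
    simp only [this, Finset.sum_add_distrib, Finset.sum_ite_eq', Finset.mem_univ, if_true] at h
    linarith
  have e1 : ∀ i, S1 + ε * w (L i) = n := by
    intro i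
    have h := hvw i
    simp only [add_mul, ite_mul, zero_mul, Finset.sum_add_distrib, Finset.sum_ite_eq',
      Finset.mem_univ, if_true] at h
    linarith
  have hεne : ε ≠ 0 := fun h => by rw [h, mul_zero] at hε2; exact zero_ne_one hε2
  have hc : ∀ i, Φ (L i) = Φ (L i0) := fun i => mul_left_cancel₀ hεne (by linarith [e2 i, e2 i0])
  have ha : ∀ i, w (L i) = w (L i0) := fun i => mul_left_cancel₀ hεne (by linarith [e1 i, e1 i0])
  set c := Φ (L i0)
  set a := w (L i0)
  have hR := hsplit fun ψ => Φ ψ ^ 2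
  have hX := hsplit fun ψ => Φ ψ * w ψ
  have hT := hsplit fun ψ => w ψ * w ψ
  simp only [hΦone, hc, ha, show w (oneChar Γ) = 1 from by simp [w, hone1], Finset.sum_const,
    Finset.card_univ, nsmul_eq_mul, zero_mul, one_mul, zero_pow two_ne_zero, zero_add] at hR hX hT
  rw [hw2] at hT
  set R := ∑ ψ ∈ O, Φ ψ ^ 2
  set X := ∑ ψ ∈ O, Φ ψ * w ψ
  set T := ∑ ψ ∈ O, w ψ * w ψ
  have hCS : X ^ 2 ≤ R * T := by
    have := Finset.sum_mul_sq_le_sq_mul_sq O Φ w
    simpa [R, X, T, pow_two] using this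
  have hwnn : ∀ ψ, 0 ≤ w ψ := fun ψ => Int.natCast_nonneg _
  have hX0 : X = 0 → T = 0 := by
    intro h
    refine Finset.sum_eq_zero fun ψ hψ => ?_
    have h2 := (Finset.sum_eq_zero_iff_of_nonneg fun φ hφ =>
      mul_nonneg (by linarith [(hOΦ φ hφ).1]) (hwnn φ)).1 h ψ hψ
    rcases mul_eq_zero.1 h2 with h3 | h3
    · linarith [(hOΦ ψ hψ).1]
    · rw [h3, mul_zero]
  have hRnn : 0 ≤ R := Finset.sum_nonneg fun ψ _ => sq_nonneg _
  have hTnn : 0 ≤ T := Finset.sum_nonneg fun ψ _ => mul_self_nonneg _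
  have ea := e1 i0
  have ec := e2 i0
  have ha0 : 0 ≤ a := hwnn _
  have hkL := hv' i0 (L i0)
  rw [if_pos rfl] at hkL
  have hcε : 0 ≤ c + ε := by
    change (k (L i0) (rep i0).1 : ℤ) = c + ε at hkL
    omega
  have hc0 : 0 ≤ c := by
    obtain ⟨j, hj⟩ : ∃ j, j ≠ i0 := Fintype.exists_ne_of_one_lt_card (show 1 < m by omega) i0
    have h := hv' j (L i0)
    rw [if_neg (fun e => hj (hL e.symm)), add_zero] at h
    show 0 ≤ Φ (L i0)
    omega
  -- the sign is positive and both `c` and `a` vanish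
  obtain ⟨rfl, hcz, haz⟩ : ε = 1 ∧ c = 0 ∧ a = 0 :=
    arith n (Fintype.card (Quotient st) : ℤ) c a R X T S1 S2 ε hε hR hX hT ec ea hCS hX0 hRnn hTnn
      ha0 hc0 hcε (hm6.imp (fun h => ⟨by exact_mod_cast h.1, by exact_mod_cast h.2⟩)
        (fun h => ⟨by exact_mod_cast h.1, by exact_mod_cast h.2⟩))
  -- the exceptional character has degree `n`
  set Λ := L i0
  have hΛθ : ∀ θ : Θ, k Λ θ.1 = if Quotient.mk st θ = i0 then 1 else 0 := by
    intro θ
    obtain ⟨y, hy⟩ := hrep θ
    apply Nat.cast_injective (R := ℤ)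
    rw [← hy, hktw, hv']
    by_cases h : Quotient.mk st θ = i0
    · rw [h, if_pos rfl, if_pos rfl]
      simpa using hcz
    · rw [if_neg (fun e => h (hL e.symm)), if_neg h]
      simpa using hcz
  have hΛ0 : k Λ (oneChar Z) = 0 := by
    have h0 : (k Λ (oneChar Z) : ℤ) = 0 := haz
    exact_mod_cast h0
  have hsumΘ : ∀ f : Cfsg.IrrCharacter Z → ℕ, ∑ θ, f θ =
      f (oneChar Z) + ∑ p : Quotient st × F, f (twc p.2 (rep p.1).1) := by
    intro f
    rw [Fintype.sum_eq_add_sum_subtype_ne f (oneChar Z)]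
    congr 1
    exact (Fintype.sum_bijective _ hbij _ _ fun p => rfl).symm
  have hmkrep : ∀ p : Quotient st × F, k Λ (twc p.2 (rep p.1).1) = if p.1 = i0 then 1 else 0 := by
    intro p
    rw [hktw, hΛθ, show Quotient.mk st (rep p.1) = p.1 from Quotient.out_eq p.1]
  have hfib : ∑ p : Quotient st × F, (if p.1 = i0 then 1 else 0) = n := by
    rw [Fintype.sum_prod_type, Finset.sum_eq_single i0 (fun b _ hb => by simp [hb])
      (fun h => absurd (Finset.mem_univ _) h)]
    simp [← Nat.card_eq_fintype_card, hF]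
  have hD : dg Λ = n := by
    rw [hres1, hsumΘ, hΛ0, zero_add]
    simp only [hmkrep, hfib]
  have hN2 : ∑ θ, k Λ θ * k Λ θ = n := by
    rw [hsumΘ, hΛ0, zero_mul, zero_add]
    simp only [hmkrep, ite_mul, one_mul, zero_mul]
    rw [← hfib]
    exact Finset.sum_congr rfl fun p _ => by split_ifs <;> rfl
  -- its square has a large constituent
  set φ : Γ → ℂ := (Λ : Γ → ℂ) * fun g => conj ((Λ : Γ → ℂ) g) with hφdef
  have hφ : Cfsg.IsCharacter Γ φ :=
    isCharacter_mul (isCharacter_irr Λ) (isCharacter_conj (isCharacter_irr Λ))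
  choose l hl using fun ψ : Cfsg.IrrCharacter Γ => exists_classInner_nat hφ (isCharacter_irr ψ)
  have hexp := Characters.Complete.classFunction_eq_sum (isClassFunction_of_isCharacter hφ)
  have hl1 : ∑ ψ, l ψ * dg ψ = n * n := by
    have h := congrFun hexp 1
    simp only [Finset.sum_apply, Pi.smul_apply, smul_eq_mul, hl, hdg] at h
    rw [hφdef, Pi.mul_apply, hdg, map_natCast, hD] at h
    exact_mod_cast h.symm
  have hlZ : ∑ ψ, l ψ * k ψ (oneChar Z) = n := by
    have h1 : Cfsg.classInner (fun z : Z => φ z) (oneChar Z : Z → ℂ) =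
        Cfsg.classInner ((Λ : Γ → ℂ) ∘ Z.subtype) ((Λ : Γ → ℂ) ∘ Z.subtype) := by
      simp [Cfsg.classInner, hφdef, oneChar_apply]
    conv_rhs at h1 =>
      arg 2
      rw [Characters.Complete.classFunction_eq_sum
        (isClassFunction_of_isCharacter (isCharacter_comp Z.subtype (isCharacter_irr Λ)))]
    simp only [classInner_sum_right, classInner_smul_right, hk, map_natCast] at h1
    have h2 : (fun z : Z => φ z) = ∑ ψ, (l ψ : ℂ) • ((ψ : Γ → ℂ) ∘ Z.subtype) := by
      funext z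
      conv_lhs => rw [congrFun hexp z]
      simp [Finset.sum_apply, hl]
    rw [h2, classInner_sum_left] at h1
    simp only [classInner_smul_left, hk] at h1
    norm_cast at h1
    rw [h1, hN2]
  have hl0 : l (oneChar Γ) = 1 := by
    apply Nat.cast_injective (R := ℂ)
    rw [← hl, Nat.cast_one, ← classInner_self_irr Λ]
    simp [Cfsg.classInner, hφdef, oneChar_apply]
  have hl1' := hl1
  rw [← Finset.add_sum_erase _ _ (Finset.mem_univ (oneChar Γ)), hl0, one_mul] at hlZ hl1'
  rw [hone1] at hlZ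
  obtain ⟨ψ, hψ, hψne⟩ : ∃ ψ ∈ Finset.univ.erase (oneChar Γ), l ψ * k ψ (oneChar Z) ≠ 0 := by
    by_contra h
    push Not at h
    rw [Finset.sum_eq_zero h] at hlZ
    omega
  rw [Nat.mul_ne_zero_iff] at hψne
  have hψO : ψ ∈ O := by
    simp only [hO, Finset.mem_sdiff, Finset.mem_univ, true_and, Finset.mem_insert,
      Finset.mem_image, not_or, not_exists]
    refine ⟨(Finset.mem_erase.1 hψ).1, fun i hi => hψne.2 ?_⟩
    have := ha i
    rw [haz] at this
    rw [← hi]
    change (k (L i) (oneChar Z) : ℤ) = 0 at this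
    exact_mod_cast this
  have hbig : m * n ≤ dg ψ := by
    rw [hres1, hsumΘ]
    refine le_trans ?_ (Nat.le_add_left _ _)
    calc m * n = ∑ _p : Quotient st × F, 1 := by simp [m, ← Nat.card_eq_fintype_card, hF]
      _ ≤ _ := Finset.sum_le_sum fun p _ => by
        have h1 := (hOΦ ψ hψO).1
        have h2 := (hOΦ ψ hψO).2 ⟨_, twc_ne p.2 _ (rep p.1).2⟩
        dsimp only at h2
        omega
  have hle : dg ψ ≤ n * n - 1 := by
    have h1 : l ψ * dg ψ ≤ ∑ x ∈ Finset.univ.erase (oneChar Γ), l x * dg x :=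
      Finset.single_le_sum (f := fun x => l x * dg x) (fun _ _ => Nat.zero_le _) hψ
    have h2 := Nat.le_mul_of_pos_left (dg ψ) (Nat.pos_of_ne_zero hψne.1)
    have h3 := hdg0 (oneChar Γ)
    omega
  rcases hm6 with ⟨h5, h6⟩ | ⟨h7, hmn⟩
  · subst h5
    omega
  · have := Nat.mul_le_mul_right n hmn
    have hnn : 0 < n * n := by positivity
    rw [mul_assoc] at this
    omega

end Cfsg.Agent.Lib.TwoTimesPSL.CharCore
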