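import Mathlib
import Cfsg.Agent.Lib.TwoTimesPSL.RingAutFacts
import Cfsg.Agent.Lib.TwoTimesPSL.CharCore

/-!
# Faithful transitive semilinear groups

A transitive group of affine permutations of a field `K` of characteristic two containing the
scalars, with semilinear stabiliser of odd order over the scalars and without translations, exists
only for `|K| = 8` and then has order `168`.
Owner: helper80.
-/

set_option autoImplicit false
set_option linter.unusedSectionVars false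

namespace Cfsg.Agent.Lib.TwoTimesPSL.Faithful

variable {K : Type*} [Field K] [Finite K] [CharP K 2]

/-- The hypotheses. -/
structure Affine (Γ : Subgroup (Equiv.Perm K)) : Prop where
  aff : ∀ g ∈ Γ, ∀ x y, g (x + y) + g 0 = g x + g y
  faithful : ∀ g ∈ Γ, (∀ x, g x + g 0 = x) → g = 1
  semi : ∀ g ∈ Γ, g 0 = 0 → ∃ σ : K ≃+* K, ∀ x, g x = g 1 * σ x
  scal : ∀ c, c ≠ 0 → ∃ g ∈ Γ, ∀ x, g x = c * x
  trans : ∀ v, ∃ g ∈ Γ, g 0 = v
  odd : ∀ g ∈ Γ, g 0 = 0 → g 1 = 1 → Odd (orderOf g)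

variable {Γ : Subgroup (Equiv.Perm K)} (A : Affine Γ)

namespace Affine

include A

/-- The scalar `c` in `Γ`. -/
noncomputable def sm (c : K) (hc : c ≠ 0) : Γ :=
  ⟨Classical.choose (A.scal c hc), (Classical.choose_spec (A.scal c hc)).1⟩

theorem sm_apply (c : K) (hc : c ≠ 0) (x : K) : (A.sm c hc : Equiv.Perm K) x = c * x :=
  (Classical.choose_spec (A.scal c hc)).2 x

theorem add_of_fix {g : Γ} (h0 : (g : Equiv.Perm K) 0 = 0) (x y : K) :
    (g : Equiv.Perm K) (x + y) = (g : Equiv.Perm K) x + (g : Equiv.Perm K) y := by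
  have h := A.aff g g.2 x y
  rwa [h0, add_zero] at h

/-- The stabiliser of `0`. -/
def G0 (_A : Affine Γ) : Subgroup Γ := MulAction.stabilizer Γ (0 : K)

/-- The stabiliser of `0` and `1`. -/
def F (_A : Affine Γ) : Subgroup Γ :=
  MulAction.stabilizer Γ (0 : K) ⊓ MulAction.stabilizer Γ (1 : K)

theorem mem_G0 {g : Γ} : g ∈ A.G0 ↔ (g : Equiv.Perm K) 0 = 0 := Iff.rfl

theorem mem_F {g : Γ} : g ∈ A.F ↔ (g : Equiv.Perm K) 0 = 0 ∧ (g : Equiv.Perm K) 1 = 1 := Iff.rfl

theorem F_le : A.F ≤ A.G0 := inf_le_left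

theorem one_ne (g : A.G0) : ((g : Γ) : Equiv.Perm K) 1 ≠ 0 := fun h =>
  one_ne_zero ((((g : Γ) : Equiv.Perm K).injective (h.trans g.2.symm)))

/-- The field automorphism of an element fixing `0`. -/
noncomputable def sig (g : A.G0) : K ≃+* K := Classical.choose (A.semi (g : Γ) (g : Γ).2 g.2)

theorem apply_eq (g : A.G0) (x : K) :
    ((g : Γ) : Equiv.Perm K) x = ((g : Γ) : Equiv.Perm K) 1 * A.sig g x :=
  Classical.choose_spec (A.semi (g : Γ) (g : Γ).2 g.2) x

/-- The homomorphism to the automorphisms of the field. -/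
noncomputable def φ : A.G0 →* (K ≃+* K) :=
  MonoidHom.mk' A.sig fun g h => RingEquiv.ext fun x => by
    refine mul_left_cancel₀ (A.one_ne (g * h)) ?_
    rw [← A.apply_eq]
    show ((g : Γ) : Equiv.Perm K) (((h : Γ) : Equiv.Perm K) x) =
      ((g : Γ) : Equiv.Perm K) (((h : Γ) : Equiv.Perm K) 1) * (A.sig g) ((A.sig h) x)
    rw [A.apply_eq g (((h : Γ) : Equiv.Perm K) x), A.apply_eq g (((h : Γ) : Equiv.Perm K) 1),
      A.apply_eq h x, map_mul, mul_assoc]

theorem apply_F {g : Γ} (hg : g ∈ A.F) (x : K) :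
    (g : Equiv.Perm K) x = A.φ ⟨g, A.F_le hg⟩ x := by
  have h := A.apply_eq ⟨g, A.F_le hg⟩ x
  simp only [(A.mem_F.1 hg).2, one_mul] at h
  exact h

theorem φ_injOn {g h : Γ} (hg : g ∈ A.F) (hh : h ∈ A.F)
    (e : A.φ ⟨g, A.F_le hg⟩ = A.φ ⟨h, A.F_le hh⟩) : g = h :=
  Subtype.ext (Equiv.ext fun x => by rw [A.apply_F hg, A.apply_F hh, e])

theorem comm_ringAut (σ τ : K ≃+* K) : σ * τ = τ * σ :=
  letI := @IsCyclic.commGroup (K ≃+* K) _ RingAutFacts.isCyclic_ringAut
  mul_comm σ τ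

theorem isCyclic_F : IsCyclic A.F :=
  haveI := RingAutFacts.isCyclic_ringAut (K := K)
  isCyclic_of_injective (A.φ.comp (Subgroup.inclusion A.F_le)) fun a b h =>
    Subtype.ext (A.φ_injOn a.2 b.2 h)

theorem comm_F {a b : Γ} (ha : a ∈ A.F) (hb : b ∈ A.F) : a * b = b * a :=
  letI := @IsCyclic.commGroup A.F _ A.isCyclic_F
  congrArg Subtype.val (mul_comm (⟨a, ha⟩ : A.F) ⟨b, hb⟩)

theorem two_trans (x x' : K) (h : x ≠ x') :
    ∃ g : Γ, (g : Equiv.Perm K) 0 = x ∧ (g : Equiv.Perm K) 1 = x' := by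
  obtain ⟨g, hg, hg0⟩ := A.trans x
  have hb : g.symm x' ≠ 0 := fun e => h (by rw [← hg0, ← e, Equiv.apply_symm_apply])
  refine ⟨⟨g, hg⟩ * A.sm _ hb, ?_, ?_⟩
  · show g ((A.sm _ hb : Equiv.Perm K) 0) = x
    rw [A.sm_apply, mul_zero, hg0]
  · show g ((A.sm _ hb : Equiv.Perm K) 1) = x'
    rw [A.sm_apply, mul_one, Equiv.apply_symm_apply]

theorem card_G0 : Nat.card Γ = Nat.card K * Nat.card A.G0 := by
  haveI : MulAction.IsPretransitive Γ K := ⟨fun x y => by
    obtain ⟨g, hg, hg0⟩ := A.trans x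
    obtain ⟨h, hh, hh0⟩ := A.trans y
    refine ⟨(⟨h, hh⟩ : Γ) * (⟨g, hg⟩ : Γ)⁻¹, ?_⟩
    show h (g.symm x) = y
    rw [← hh0]
    congr 1
    rw [Equiv.symm_apply_eq, hg0]⟩
  rw [← MulAction.index_stabilizer_of_transitive Γ (0 : K), mul_comm]
  exact (Subgroup.card_mul_index A.G0).symm

theorem card_eq : Nat.card Γ = Nat.card K * ((Nat.card K - 1) * Nat.card A.F) := by
  classical
  haveI := Fintype.ofFinite K
  rw [A.card_G0]
  congr 1
  have hfix : ∀ g : A.G0, (A.sm _ (A.one_ne g))⁻¹ * (g : Γ) ∈ A.F := fun g => by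
    refine A.mem_F.2 ⟨?_, ?_⟩
    · show (A.sm _ (A.one_ne g) : Equiv.Perm K).symm (((g : Γ) : Equiv.Perm K) 0) = 0
      rw [show ((g : Γ) : Equiv.Perm K) 0 = 0 from g.2, Equiv.symm_apply_eq, A.sm_apply, mul_zero]
    · show (A.sm _ (A.one_ne g) : Equiv.Perm K).symm (((g : Γ) : Equiv.Perm K) 1) = 1
      rw [Equiv.symm_apply_eq, A.sm_apply, mul_one]
  have hmem : ∀ p : {x : K // x ≠ 0} × A.F, A.sm p.1 p.1.2 * (p.2 : Γ) ∈ A.G0 := fun p =>
    mul_mem (show (A.sm p.1 p.1.2 : Equiv.Perm K) 0 = 0 by rw [A.sm_apply, mul_zero]) (A.F_le p.2.2)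
  let e : A.G0 ≃ {x : K // x ≠ 0} × A.F :=
    { toFun := fun g => (⟨_, A.one_ne g⟩, ⟨_, hfix g⟩)
      invFun := fun p => ⟨_, hmem p⟩
      left_inv := fun g => Subtype.ext (mul_inv_cancel_left _ _)
      right_inv := fun p => by
        have h1 : ((A.sm p.1 p.1.2 * (p.2 : Γ) : Γ) : Equiv.Perm K) 1 = (p.1 : K) := by
          show (A.sm p.1 p.1.2 : Equiv.Perm K) (((p.2 : Γ) : Equiv.Perm K) 1) = _
          rw [(A.mem_F.1 p.2.2).2, A.sm_apply, mul_one]
        have e1 : (⟨_, A.one_ne ⟨_, hmem p⟩⟩ : {x : K // x ≠ 0}) = p.1 := Subtype.ext h1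
        refine Prod.ext e1 (Subtype.ext ?_)
        simp only [h1, inv_mul_cancel_left] }
  rw [Nat.card_congr e, Nat.card_prod, Nat.card_eq_fintype_card, Fintype.card_subtype_compl,
    Fintype.card_subtype_eq, Nat.card_eq_fintype_card, Nat.card_eq_fintype_card (α := K)]

theorem card_even : 2 ∣ Nat.card K := by
  haveI := Fintype.ofFinite K
  obtain ⟨n, hp, hn⟩ := FiniteField.card K 2
  rw [Nat.card_eq_fintype_card, hn]
  exact dvd_pow_self 2 n.pos.ne'

theorem odd_card_F : Odd (Nat.card A.F) := by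
  rw [Nat.odd_iff, ← Nat.two_dvd_ne_zero]
  intro h
  haveI : Fact (Nat.Prime 2) := ⟨Nat.prime_two⟩
  obtain ⟨x, hx⟩ := exists_prime_orderOf_dvd_card' 2 h
  have h2 := A.odd ((x : Γ) : Equiv.Perm K) (x : Γ).2 (A.mem_F.1 x.2).1 (A.mem_F.1 x.2).2
  rw [Subgroup.orderOf_coe, Subgroup.orderOf_coe, hx] at h2
  exact absurd h2 (by decide)

/-- A trivial pair stabiliser is impossible. -/
theorem false_of_sharp (hq : 2 < Nat.card K) (hF : Nat.card A.F = 1) : False := by
  classical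
  haveI := Fintype.ofFinite K
  haveI : Fact (Nat.Prime 2) := ⟨Nat.prime_two⟩
  obtain ⟨n, -, hn⟩ := FiniteField.card K 2
  rw [← Nat.card_eq_fintype_card] at hn
  have hcard : Nat.card Γ = Nat.card K * (Nat.card K - 1) := by rw [A.card_eq, hF, mul_one]
  have hn1 : Odd (Nat.card K - 1) := by
    obtain ⟨j, hj⟩ := A.card_even
    exact ⟨j - 1, by omega⟩
  have hG0c : Nat.card A.G0 = Nat.card K - 1 :=
    Nat.eq_of_mul_eq_mul_left Nat.card_pos (A.card_G0.symm.trans hcard)
  let Fix0 : Finset Γ :=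
    Finset.univ.filter fun g => g = 1 ∨ ∀ x, (g : Equiv.Perm K) x ≠ x
  -- every Sylow subgroup is this set
  have hS : ∀ S : Sylow 2 Γ, ∀ g, g ∈ (S : Subgroup Γ) ↔ g ∈ Fix0 := by
    intro S
    have hSc : Nat.card (S : Subgroup Γ) = Nat.card K := by
      rw [S.card_eq_multiplicity, hcard, Nat.factorization_mul Nat.card_pos.ne' hn1.pos.ne',
        Finsupp.add_apply, hn, Nat.Prime.factorization_pow Nat.prime_two, Finsupp.single_eq_same,
        Nat.factorization_eq_zero_of_not_dvd (n := 2 ^ (n : ℕ) - 1) (p := 2)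
          (by rw [← hn]; exact Nat.two_dvd_ne_zero.2 (Nat.odd_iff.1 hn1)), add_zero]
    have hsub : ∀ g ∈ (S : Subgroup Γ), g ∈ Fix0 := by
      intro g hg
      simp only [Fix0, Finset.mem_filter, Finset.mem_univ, true_and]
      by_contra h
      push Not at h
      obtain ⟨hg1, x, hx⟩ := h
      obtain ⟨h0, hh0⟩ := A.trans x
      have hmem : (⟨h0, hh0.1⟩ : Γ)⁻¹ * g * ⟨h0, hh0.1⟩ ∈ A.G0 := by
        show h0.symm ((g : Equiv.Perm K) (h0 0)) = 0
        rw [hh0.2, hx, Equiv.symm_apply_eq, hh0.2]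
      have d1 := orderOf_dvd_natCard (⟨_, hmem⟩ : A.G0)
      rw [← Subgroup.orderOf_coe, hG0c] at d1
      have e : orderOf ((⟨h0, hh0.1⟩ : Γ)⁻¹ * g * ⟨h0, hh0.1⟩) = orderOf g := by
        rw [show (⟨h0, hh0.1⟩ : Γ)⁻¹ * g * ⟨h0, hh0.1⟩ = MulAut.conj (⟨h0, hh0.1⟩ : Γ)⁻¹ g by simp]
        exact MulEquiv.orderOf_eq _ g
      rw [e] at d1
      have d2 := orderOf_dvd_natCard (⟨g, hg⟩ : (S : Subgroup Γ))
      rw [← Subgroup.orderOf_coe, hSc, hn] at d2
      have hc : Nat.Coprime (2 ^ (n : ℕ)) (Nat.card K - 1) :=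
        Nat.Coprime.pow_left _ ((Nat.coprime_two_left).2 hn1)
      exact hg1 (orderOf_eq_one_iff.1 (Nat.eq_one_of_dvd_coprimes hc d2 d1))
    -- counting
    have hle : Fix0.card ≤ Nat.card K := by
      let E : Finset Γ := Finset.univ.filter fun g => g ≠ 1 ∧ ∃ x, (g : Equiv.Perm K) x = x
      have hEc : Nat.card K * (Nat.card K - 2) ≤ E.card := by
        let f : K × {c : K // c ≠ 0 ∧ c ≠ 1} → Γ := fun p =>
          (⟨_, (A.trans p.1).choose_spec.1⟩ : Γ) * A.sm p.2.1 p.2.2.1 *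
            (⟨_, (A.trans p.1).choose_spec.1⟩ : Γ)⁻¹
        have hfix : ∀ p y, (f p : Equiv.Perm K) y = y ↔ y = p.1 := by
          intro p y
          set g := (A.trans p.1).choose with hg
          have hg0 : g 0 = p.1 := (A.trans p.1).choose_spec.2
          show g ((A.sm p.2.1 p.2.2.1 : Equiv.Perm K) (g.symm y)) = y ↔ _
          rw [← Equiv.eq_symm_apply, A.sm_apply]
          constructor
          · intro h
            have : g.symm y = 0 := by
              by_contra hne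
              exact p.2.2.2 (mul_right_cancel₀ hne (h.trans (one_mul _).symm))
            rw [← hg0, ← this, Equiv.apply_symm_apply]
          · rintro rfl
            rw [← hg0, Equiv.symm_apply_apply, mul_zero]
        have hinj : Function.Injective f := by
          rintro ⟨x, c⟩ ⟨x', c'⟩ h
          have h1 : x = x' := ((hfix ⟨x', c'⟩ x).1 (by rw [← h]; exact (hfix ⟨x, c⟩ x).2 rfl))
          subst h1
          refine Prod.ext rfl (Subtype.ext ?_)
          have h2 := mul_left_cancel (mul_right_cancel h)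
          have h3 := congrArg (fun g : Γ => (g : Equiv.Perm K) 1) h2
          simpa [A.sm_apply] using h3
        have hK : Fintype.card {c : K // c ≠ 0 ∧ c ≠ 1} = Nat.card K - 2 := by
          rw [Fintype.card_subtype, show (Finset.univ.filter fun c : K => c ≠ 0 ∧ c ≠ 1) =
            Finset.univ \ {0, 1} by ext c; simp, Finset.card_sdiff_of_subset (Finset.subset_univ _),
            Finset.card_univ, Finset.card_pair zero_ne_one, Nat.card_eq_fintype_card]
        calc Nat.card K * (Nat.card K - 2) = (Finset.univ.image f).card := by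
              rw [Finset.card_image_of_injective _ hinj, Finset.card_univ, Fintype.card_prod, hK,
                Nat.card_eq_fintype_card]
          _ ≤ E.card := Finset.card_le_card fun g hg => by
              obtain ⟨p, -, rfl⟩ := Finset.mem_image.1 hg
              simp only [E, Finset.mem_filter, Finset.mem_univ, true_and]
              refine ⟨fun h1 => ?_, p.1, (hfix p p.1).2 rfl⟩
              have := (hfix p (p.1 + 1)).1 (by rw [h1]; rfl)
              exact one_ne_zero (add_eq_left.1 this)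
      have hdisj : Disjoint E Fix0 := by
        rw [Finset.disjoint_left]
        intro g hg hg'
        simp only [E, Fix0, Finset.mem_filter, Finset.mem_univ, true_and] at hg hg'
        rcases hg' with h | h
        · exact hg.1 h
        · obtain ⟨x, hx⟩ := hg.2
          exact h x hx
      have h := Finset.card_le_univ (E ∪ Fix0)
      rw [Finset.card_union_of_disjoint hdisj, ← Nat.card_eq_fintype_card, hcard] at h
      have hq2 : Nat.card K * (Nat.card K - 1) = Nat.card K * (Nat.card K - 2) + Nat.card K := by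
        conv_rhs => arg 2; rw [← mul_one (Nat.card K)]
        rw [← mul_add]
        congr 1
        omega
      omega
    have heq : Finset.univ.filter (· ∈ (S : Subgroup Γ)) = Fix0 := by
      refine Finset.eq_of_subset_of_card_le (fun g hg => hsub g (Finset.mem_filter.1 hg).2) ?_
      rw [← Fintype.card_subtype (fun g => g ∈ (S : Subgroup Γ)), ← Nat.card_eq_fintype_card]
      exact hle.trans hSc.ge
    intro g
    rw [← heq]
    simp
  haveI : Subsingleton (Sylow 2 Γ) := ⟨fun S S' => Sylow.ext (SetLike.ext fun g => by rw [hS S, hS S'])⟩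
  obtain ⟨S⟩ : Nonempty (Sylow 2 Γ) := inferInstance
  haveI hnorm : (S : Subgroup Γ).Normal := Sylow.normal_of_subsingleton S
  -- linear parts fix a vector
  letI act : MulAction Γ K :=
    { smul := fun g x => (g : Equiv.Perm K) x + (g : Equiv.Perm K) 0
      one_smul := fun x => by show x + 0 = x; rw [add_zero]
      mul_smul := fun g h x => by
        show (g : Equiv.Perm K) ((h : Equiv.Perm K) x) + (g : Equiv.Perm K) ((h : Equiv.Perm K) 0) =
          (g : Equiv.Perm K) ((h : Equiv.Perm K) x + (h : Equiv.Perm K) 0) + (g : Equiv.Perm K) 0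
        rw [A.aff g g.2] }
  have hsm : ∀ (g : Γ) (x : K), g • x = (g : Equiv.Perm K) x + (g : Equiv.Perm K) 0 := fun _ _ => rfl
  have h2 := S.isPGroup'.exists_fixed_point_of_prime_dvd_card_of_fixed_point K
    A.card_even (a := 0) (fun s => by
      show (s : Γ) • (0 : K) = 0
      rw [hsm, CharTwo.add_self_eq_zero])
  obtain ⟨v, hv, hv0⟩ := h2
  have hv' : ∀ s ∈ (S : Subgroup Γ), s • v = v := fun s hs => hv ⟨s, hs⟩
  have hS1 : ∀ s ∈ (S : Subgroup Γ), s = 1 := by
    intro s hs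
    refine Subtype.ext (A.faithful s s.2 fun x => ?_)
    rw [← hsm]
    by_cases hx : x = 0
    · rw [hx, hsm, CharTwo.add_self_eq_zero]
    have hc : x * v⁻¹ ≠ 0 := mul_ne_zero hx (inv_ne_zero (Ne.symm hv0))
    set g := A.sm _ hc
    have hgv : g • v = x := by
      rw [hsm, A.sm_apply, A.sm_apply, mul_zero, add_zero, mul_assoc,
        inv_mul_cancel₀ (Ne.symm hv0), mul_one]
    conv_lhs => rw [← hgv]
    rw [← mul_smul, show s * g = g * (g⁻¹ * s * g) by group, mul_smul,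
      hv' _ (by simpa using hnorm.conj_mem s hs g⁻¹), hgv]
  have hbot : (S : Subgroup Γ) = ⊥ := (Subgroup.eq_bot_iff_forall _).2 hS1
  have hc := S.card_eq_multiplicity
  rw [hbot, Subgroup.card_bot, hcard, hn, Nat.factorization_mul (by positivity) (by omega),
    Finsupp.add_apply, Nat.Prime.factorization_pow Nat.prime_two, Finsupp.single_eq_same] at hc
  have := n.pos
  have := Nat.pow_le_pow_right two_pos (show 1 ≤ (n : ℕ) + (2 ^ (n : ℕ) - 1).factorization 2 by omega)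
  omega

theorem trans_of_normal (hq : 2 < Nat.card K) {M : Subgroup Γ} (hM : M.Normal)
    (hsm : ∀ c hc, A.sm c hc ∈ M) (v : K) : ∃ m ∈ M, (m : Equiv.Perm K) 0 = v := by
  by_cases hv : v = 0
  · exact ⟨1, one_mem _, hv.symm⟩
  obtain ⟨m, hm, hm0⟩ : ∃ m ∈ M, (m : Equiv.Perm K) 0 ≠ 0 := by
    by_contra h
    push Not at h
    classical
    haveI := Fintype.ofFinite K
    obtain ⟨c, hc0, hc1⟩ : ∃ c : K, c ≠ 0 ∧ c ≠ 1 := by
      by_contra h'
      push Not at h'
      have hle : (Finset.univ : Finset K).card ≤ ({0, 1} : Finset K).card :=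
        Finset.card_le_card fun x _ => by
          by_cases hx : x = 0
          · simp [hx]
          · simp [h' x hx]
      rw [Finset.card_univ, ← Nat.card_eq_fintype_card] at hle
      have := Finset.card_le_two (a := (0 : K)) (b := 1)
      omega
    obtain ⟨g, hg, hg1⟩ := A.trans 1
    have h1 := h ((⟨g, hg⟩ : Γ)⁻¹ * A.sm c hc0 * ⟨g, hg⟩) (by simpa using hM.conj_mem _ (hsm c hc0) (⟨g, hg⟩ : Γ)⁻¹)
    have h2 : g.symm ((A.sm c hc0 : Equiv.Perm K) (g 0)) = 0 := h1
    rw [hg1, A.sm_apply, mul_one, Equiv.symm_apply_eq, hg1] at h2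
    exact hc1 h2
  have hc : v * ((m : Equiv.Perm K) 0)⁻¹ ≠ 0 := mul_ne_zero hv (inv_ne_zero hm0)
  refine ⟨A.sm _ hc * m, mul_mem (hsm _ _) hm, ?_⟩
  show (A.sm _ hc : Equiv.Perm K) ((m : Equiv.Perm K) 0) = v
  rw [A.sm_apply, mul_assoc, inv_mul_cancel₀ hm0, mul_one]

/-- A normal subgroup containing the scalars is again an example. -/
theorem descend (hq : 2 < Nat.card K) {M : Subgroup Γ} (hM : M.Normal)
    (hsm : ∀ c hc, A.sm c hc ∈ M) : Affine (M.map Γ.subtype) := by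
  have hle : ∀ g ∈ M.map Γ.subtype, g ∈ Γ := by
    rintro _ ⟨y, -, rfl⟩
    exact y.2
  exact
    { aff := fun g hg => A.aff g (hle g hg)
      faithful := fun g hg => A.faithful g (hle g hg)
      semi := fun g hg => A.semi g (hle g hg)
      scal := fun c hc => ⟨_, ⟨A.sm c hc, hsm c hc, rfl⟩, A.sm_apply c hc⟩
      trans := fun v => by
        obtain ⟨m, hm, hmv⟩ := A.trans_of_normal hq hM hsm v
        exact ⟨m, ⟨m, hm, rfl⟩, hmv⟩
      odd := fun g hg => A.odd g (hle g hg) }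

open Classical in
/-- The transfer value: either an element of `F` survives or we are in the extremal case. -/
theorem dichotomy (hq : 2 < Nat.card K) (hF : Nat.card A.F ≠ 1) :
    (∃ M : Subgroup Γ, M.Normal ∧ (∀ c hc, A.sm c hc ∈ M) ∧ M ≠ ⊤) ∨
    (∃ ℓ : ℕ, ℓ.Prime ∧ Odd ℓ ∧ Nat.card K = 2 ^ ℓ ∧ Nat.card A.F = ℓ ∧
      (∀ y ∈ A.F, y ≠ 1 → ∀ x, (y : Equiv.Perm K) x = x → x = 0 ∨ x = 1) ∧
      ∃ g : Γ, ∀ y ∈ A.F, g⁻¹ * y * g = y⁻¹) := by
  haveI := Fintype.ofFinite K
  set ℓ := (Nat.card A.F).minFac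
  have hℓ : ℓ.Prime := Nat.minFac_prime hF
  have hℓodd : Odd ℓ := A.odd_card_F.of_dvd_nat (Nat.minFac_dvd _)
  haveI : Fact ℓ.Prime := ⟨hℓ⟩
  obtain ⟨y, hy⟩ := exists_prime_orderOf_dvd_card' ℓ (Nat.minFac_dvd (Nat.card A.F))
  rw [← Subgroup.orderOf_coe] at hy
  have hyℓ : (y : Γ) ^ ℓ = 1 := by rw [← hy, pow_orderOf_eq_one]
  -- every pair of fixed points gives the same exponent
  have hsub : ∀ e ∈ A.F, e ^ ℓ = 1 → e ∈ Subgroup.zpowers (y : Γ) := by
    intro e he hel
    haveI := A.isCyclic_F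
    haveI := Fintype.ofFinite A.F
    have hle := IsCyclic.card_pow_eq_one_le (α := A.F) hℓ.pos
    have hsubset : (Finset.univ.filter fun a : A.F => a ∈ Subgroup.zpowers y) ⊆
        (Finset.univ.filter fun a : A.F => a ^ ℓ = 1) := fun a ha => by
      simp only [Finset.mem_filter, Finset.mem_univ, true_and] at ha ⊢
      obtain ⟨i, rfl⟩ := ha
      show (y ^ i) ^ ℓ = 1
      rw [← zpow_natCast, ← zpow_mul, mul_comm, zpow_mul, zpow_natCast,
        show y ^ ℓ = 1 from Subtype.ext (by push_cast; exact hyℓ), one_zpow]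
    have heq := Finset.eq_of_subset_of_card_le hsubset (hle.trans (by
      rw [← Fintype.card_subtype, ← Nat.card_eq_fintype_card,
        show Nat.card {a // a ∈ Subgroup.zpowers y} = orderOf y from Nat.card_zpowers y,
        ← Subgroup.orderOf_coe, hy]))
    have hmem : (⟨e, he⟩ : A.F) ∈ Finset.univ.filter fun a : A.F => a ∈ Subgroup.zpowers y := by
      rw [heq]
      simp only [Finset.mem_filter, Finset.mem_univ, true_and]
      exact Subtype.ext (by push_cast; exact hel)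
    simp only [Finset.mem_filter, Finset.mem_univ, true_and] at hmem
    obtain ⟨i, hi⟩ := hmem
    exact ⟨i, by simpa using congrArg Subtype.val hi⟩
  set σ := A.φ ⟨y, A.F_le y.2⟩
  have hfix : ∀ x, ((y : Γ) : Equiv.Perm K) x = σ x := A.apply_F y.2
  obtain ⟨g1, hg10, hg11⟩ := A.two_trans 1 0 one_ne_zero
  have hconjF : ∀ g : Γ, ∀ x, (g : Equiv.Perm K) 0 = x → (g : Equiv.Perm K) 1 = 0 → σ x = x →
      g⁻¹ * (y : Γ) * g ∈ A.F := by
    intro g x hg0 hg1 hx
    refine A.mem_F.2 ⟨?_, ?_⟩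
    · show (g : Equiv.Perm K).symm (((y : Γ) : Equiv.Perm K) ((g : Equiv.Perm K) 0)) = 0
      rw [hg0, hfix, hx, Equiv.symm_apply_eq, hg0]
    · show (g : Equiv.Perm K).symm (((y : Γ) : Equiv.Perm K) ((g : Equiv.Perm K) 1)) = 1
      rw [hg1, hfix, map_zero, Equiv.symm_apply_eq, hg1]
  have hpowl : ∀ g : Γ, (g⁻¹ * (y : Γ) * g) ^ ℓ = 1 := fun g => by
    rw [show g⁻¹ * (y : Γ) * g = MulAut.conj g⁻¹ (y : Γ) by simp, ← map_pow, hyℓ, map_one]
  obtain ⟨j, hj⟩ := hsub _ (hconjF g1 1 hg10 hg11 (map_one σ)) (hpowl g1)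
  replace hj : g1⁻¹ * (y : Γ) * g1 = (y : Γ) ^ j := hj.symm
  have hall : ∀ g : Γ, ∀ x, x ≠ 0 → σ x = x → (g : Equiv.Perm K) 0 = x → (g : Equiv.Perm K) 1 = 0 →
      g⁻¹ * (y : Γ) * g = (y : Γ) ^ j := by
    intro g x hx0 hx hg0 hg1
    set k := A.sm x hx0
    have hky : k * (y : Γ) = (y : Γ) * k := Subtype.ext (Equiv.ext fun z => by
      show (k : Equiv.Perm K) (((y : Γ) : Equiv.Perm K) z) =
        ((y : Γ) : Equiv.Perm K) ((k : Equiv.Perm K) z)
      rw [hfix, hfix, A.sm_apply, A.sm_apply, map_mul, hx])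
    set u := g1⁻¹ * k⁻¹ * g with hu
    have huF : u ∈ A.F := by
      refine A.mem_F.2 ⟨?_, ?_⟩
      · show (g1 : Equiv.Perm K).symm ((k : Equiv.Perm K).symm ((g : Equiv.Perm K) 0)) = 0
        rw [hg0, Equiv.symm_apply_eq, Equiv.symm_apply_eq, A.sm_apply, hg10, mul_one]
      · show (g1 : Equiv.Perm K).symm ((k : Equiv.Perm K).symm ((g : Equiv.Perm K) 1)) = 1
        rw [hg1, Equiv.symm_apply_eq, Equiv.symm_apply_eq, A.sm_apply, hg11, mul_zero]
    have hg : g = k * g1 * u := by rw [hu]; group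
    calc g⁻¹ * (y : Γ) * g = u⁻¹ * (g1⁻¹ * (k⁻¹ * ((y : Γ) * k)) * g1) * u := by rw [hg]; group
      _ = u⁻¹ * ((y : Γ) ^ j * u) := by rw [← hky, inv_mul_cancel_left, hj]; group
      _ = u⁻¹ * (u * (y : Γ) ^ j) := by rw [A.comm_F (zpow_mem y.2 j) huF]
      _ = _ := inv_mul_cancel_left _ _
  letI := @IsCyclic.commGroup (K ≃+* K) _ RingAutFacts.isCyclic_ringAut
  letI : Fintype (Γ ⧸ A.G0) := Fintype.ofFinite _
  haveI : A.G0.FiniteIndex := inferInstance
  set T : Γ →* (K ≃+* K) := MonoidHom.transfer A.φ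
  have hTsm : ∀ c hc, A.sm c hc ∈ T.ker := by
    intro c hc
    rw [MonoidHom.mem_ker]
    show MonoidHom.transfer A.φ (A.sm c hc) = 1
    rw [MonoidHom.transfer_eq_prod_quotient_orbitRel_zpowers_quot]
    refine Finset.prod_eq_one fun o _ => ?_
    set p := Function.minimalPeriod (A.sm c hc • ·) o.out
    have hpow : ∀ (k : ℕ) (x : K), ((A.sm c hc ^ k : Γ) : Equiv.Perm K) x = c ^ k * x := by
      intro k
      induction k with
      | zero => intro x; simp
      | succ k ih =>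
        intro x
        rw [pow_succ]
        show ((A.sm c hc ^ k : Γ) : Equiv.Perm K) ((A.sm c hc : Equiv.Perm K) x) = _
        rw [ih, A.sm_apply, pow_succ, mul_assoc]
    set h := o.out.out with hh
    have hm : h⁻¹ * A.sm c hc ^ p * h ∈ A.G0 :=
      QuotientGroup.out_conj_pow_minimalPeriod_mem A.G0 (A.sm c hc) o.out
    have hfx : c ^ p * (h : Equiv.Perm K) 0 = (h : Equiv.Perm K) 0 := by
      rw [← hpow]
      have := A.mem_G0.1 hm
      change (h : Equiv.Perm K).symm (((A.sm c hc ^ p : Γ) : Equiv.Perm K) ((h : Equiv.Perm K) 0)) = 0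
        at this
      rwa [Equiv.symm_apply_eq] at this
    by_cases hx : (h : Equiv.Perm K) 0 = 0
    · have hc0 : A.sm c hc ∈ A.G0 := by
        show (A.sm c hc : Equiv.Perm K) 0 = 0
        rw [A.sm_apply, mul_zero]
      have hone : A.φ ⟨_, hc0⟩ = 1 := RingEquiv.ext fun x => by
        refine mul_left_cancel₀ hc ?_
        have h1 := A.apply_eq ⟨_, hc0⟩ x
        simp only [A.sm_apply, mul_one] at h1
        exact h1.symm
      rw [show (⟨_, hm⟩ : A.G0) = (⟨h, hx⟩ : A.G0)⁻¹ * ⟨_, hc0⟩ ^ p * ⟨h, hx⟩ from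
        Subtype.ext (by simp), map_mul, map_mul, map_pow, hone, one_pow, mul_one, map_inv,
        inv_mul_cancel]
    · have h1 : c ^ p = 1 := mul_right_cancel₀ hx (hfx.trans (one_mul _).symm)
      have h2 : A.sm c hc ^ p = 1 := Subtype.ext (Equiv.ext fun x => by
        rw [hpow, h1, one_mul]
        rfl)
      rw [show (⟨_, hm⟩ : A.G0) = 1 from Subtype.ext (by simp [h2]), map_one]
  have hy0 : (y : Γ) ∈ A.G0 := A.F_le y.2
  have hterm : ∀ h : Γ, σ ((h : Equiv.Perm K) 0) = (h : Equiv.Perm K) 0 →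
      ∃ hm : h⁻¹ * (y : Γ) * h ∈ A.G0,
        A.φ ⟨_, hm⟩ = if (h : Equiv.Perm K) 0 = 0 then σ else σ ^ j := by
    intro h hx
    have hm : h⁻¹ * (y : Γ) * h ∈ A.G0 := by
      show (h : Equiv.Perm K).symm (((y : Γ) : Equiv.Perm K) ((h : Equiv.Perm K) 0)) = 0
      rw [hfix, hx, Equiv.symm_apply_apply]
    refine ⟨hm, ?_⟩
    split_ifs with h0
    · rw [show (⟨_, hm⟩ : A.G0) = (⟨h, h0⟩ : A.G0)⁻¹ * ⟨_, hy0⟩ * ⟨h, h0⟩ from
        Subtype.ext (by simp), map_mul, map_mul, map_inv, mul_comm (A.φ _)⁻¹, inv_mul_cancel_right]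
    · obtain ⟨g, hg0, hg1⟩ := A.two_trans _ 0 h0
      have hu : g⁻¹ * h ∈ A.G0 := by
        show (g : Equiv.Perm K).symm ((h : Equiv.Perm K) 0) = 0
        rw [Equiv.symm_apply_eq, hg0]
      have hgy := hall g _ h0 hx hg0 hg1
      rw [show (⟨_, hm⟩ : A.G0) = (⟨_, hu⟩ : A.G0)⁻¹ * ⟨_, hy0⟩ ^ j * ⟨_, hu⟩ from
        Subtype.ext (by push_cast; rw [← hgy]; group), map_mul, map_mul, map_zpow, map_inv,
        mul_comm (A.φ _)⁻¹, inv_mul_cancel_right]
  have hσone : ∀ i : ℤ, σ ^ i = 1 → (y : Γ) ^ i = 1 := fun i hi =>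
    A.φ_injOn (zpow_mem y.2 i) (one_mem _) (by
      rw [show (⟨(y : Γ) ^ i, A.F_le (zpow_mem y.2 i)⟩ : A.G0) =
        ⟨_, hy0⟩ ^ i from Subtype.ext (by simp), map_zpow, hi]
      exact (map_one A.φ).symm)
  set Fix : Finset K := Finset.univ.filter fun x => σ x = x
  have hT : T y = σ * (σ ^ j) ^ (Fix.card - 1) := by
    show MonoidHom.transfer A.φ (y : Γ) = _
    rw [RingAutFacts.transfer_prime A.G0 A.φ hℓ hyℓ]
    have hbij : Function.Bijective fun q : Γ ⧸ A.G0 => (q.out : Equiv.Perm K) 0 := by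
      refine ⟨fun q r hqr => ?_, fun v => ?_⟩
      · rw [← QuotientGroup.out_eq' q, ← QuotientGroup.out_eq' r, QuotientGroup.eq]
        show (q.out : Equiv.Perm K).symm ((r.out : Equiv.Perm K) 0) = 0
        rw [Equiv.symm_apply_eq]
        exact hqr.symm
      · obtain ⟨g, hg, hgv⟩ := A.trans v
        refine ⟨((⟨g, hg⟩ : Γ) : Γ ⧸ A.G0), ?_⟩
        obtain ⟨u, hu⟩ : ∃ u : A.G0, ((⟨g, hg⟩ : Γ) : Γ ⧸ A.G0).out = ⟨g, hg⟩ * (u : Γ) :=
          ⟨⟨_, QuotientGroup.eq.1 (QuotientGroup.out_eq' ((⟨g, hg⟩ : Γ) : Γ ⧸ A.G0)).symm⟩,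
            (mul_inv_cancel_left _ _).symm⟩
        show ((((⟨g, hg⟩ : Γ) : Γ ⧸ A.G0).out : Γ) : Equiv.Perm K) 0 = v
        rw [hu]
        show g (((u : Γ) : Equiv.Perm K) 0) = v
        rw [show ((u : Γ) : Equiv.Perm K) 0 = 0 from u.2, hgv]
    rw [Fintype.prod_bijective _ hbij _
      (fun x => if σ x = x then (if x = 0 then σ else σ ^ j) else 1) fun q => ?_,
      ← Finset.prod_filter, ← Finset.mul_prod_erase Fix _ (show (0 : K) ∈ Fix by simp [Fix]),
      if_pos rfl, Finset.prod_congr rfl fun x hx => if_neg (Finset.ne_of_mem_erase hx),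
      Finset.prod_const, Finset.card_erase_of_mem (by simp [Fix])]
    by_cases hx : σ ((q.out : Equiv.Perm K) 0) = (q.out : Equiv.Perm K) 0
    · obtain ⟨hm, he⟩ := hterm q.out hx
      rw [dif_pos hm, if_pos hx, he]
    · rw [if_neg hx, dif_neg]
      intro hm
      refine hx ?_
      have : (q.out : Equiv.Perm K).symm (((y : Γ) : Equiv.Perm K) ((q.out : Equiv.Perm K) 0)) = 0 := hm
      rwa [hfix, Equiv.symm_apply_eq] at this
  by_cases hTy : T y = 1
  swap
  · left
    exact ⟨T.ker, inferInstance, hTsm, fun h => hTy (MonoidHom.mem_ker.1 (h ▸ Subgroup.mem_top _))⟩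
  rw [hT] at hTy
  by_cases hfix2 : ∀ x, σ x = x → x = 0 ∨ x = 1
  · -- two fixed points
    right
    have hFix : Fix.card = 2 := by
      rw [show Fix = {0, 1} by
        ext x
        simp only [Fix, Finset.mem_filter, Finset.mem_univ, true_and, Finset.mem_insert,
          Finset.mem_singleton]
        exact ⟨hfix2 x, by rintro (rfl | rfl) <;> simp⟩, Finset.card_pair zero_ne_one]
    rw [hFix, pow_one, ← zpow_one_add] at hTy
    have hinv : g1⁻¹ * (y : Γ) * g1 = (y : Γ)⁻¹ := by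
      rw [hj, eq_inv_iff_mul_eq_one, ← zpow_add_one, add_comm]
      exact hσone _ hTy
    have hord : orderOf σ = ℓ := by
      refine orderOf_eq_prime ?_ fun h => ?_
      · show A.φ _ ^ ℓ = 1
        rw [← map_pow, show (⟨(y : Γ), A.F_le y.2⟩ : A.G0) ^ ℓ = 1 from Subtype.ext (by simpa using hyℓ),
          map_one]
      · have := hσone 1 (by rw [zpow_one]; exact h)
        rw [zpow_one] at this
        rw [this, orderOf_one] at hy
        exact hℓ.one_lt.ne hy
    have hK : Nat.card K = 2 ^ ℓ := hord ▸ RingAutFacts.card_eq_two_pow σ hfix2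
    haveI : Finite (K ≃+* K) :=
      Finite.of_injective (fun τ : K ≃+* K => (τ : K → K)) DFunLike.coe_injective
    have hcF : Nat.card A.F = ℓ := by
      refine le_antisymm (le_trans ?_ (RingAutFacts.card_ringAut_le hK))
        (Nat.le_of_dvd Nat.card_pos (Nat.minFac_dvd _))
      exact Nat.card_le_card_of_injective (A.φ.comp (Subgroup.inclusion A.F_le))
        fun a b h => Subtype.ext (A.φ_injOn a.2 b.2 h)
    have hgen : Subgroup.zpowers (y : Γ) = A.F := Subgroup.eq_of_le_of_card_ge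
      (Subgroup.zpowers_le.2 y.2) (by rw [Nat.card_zpowers, hy, hcF])
    refine ⟨ℓ, hℓ, hℓodd, hK, hcF, fun z hz hz1 x hx => hfix2 x ?_, g1, fun z hz => ?_⟩
    · have hle : Subgroup.zpowers z ≤ A.F := Subgroup.zpowers_le.2 hz
      have hzF : Subgroup.zpowers z = A.F := by
        refine Subgroup.eq_of_le_of_card_ge hle ?_
        rcases (Nat.dvd_prime hℓ).1 (hcF ▸ Subgroup.card_dvd_of_le hle) with h | h
        · exact absurd (Subgroup.zpowers_eq_bot.1 (Subgroup.card_eq_one.1 h)) hz1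
        · rw [hcF, h]
      have hst : z ∈ MulAction.stabilizer Γ x := hx
      have hyst : (y : Γ) ∈ MulAction.stabilizer Γ x :=
        (Subgroup.zpowers_le.2 hst) (show (y : Γ) ∈ Subgroup.zpowers z by rw [hzF]; exact y.2)
      rw [← hfix]
      exact hyst
    · rw [← hgen] at hz
      obtain ⟨i, rfl⟩ := hz
      show g1⁻¹ * (y : Γ) ^ i * g1 = ((y : Γ) ^ i)⁻¹
      calc g1⁻¹ * (y : Γ) ^ i * g1 = (MulAut.conj g1⁻¹) ((y : Γ) ^ i) := by simp
        _ = ((MulAut.conj g1⁻¹) (y : Γ)) ^ i := map_zpow _ _ _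
        _ = _ := by simp [hinv, inv_zpow]
  · exfalso
    push Not at hfix2
    obtain ⟨w, hw, hw0, hw1⟩ := hfix2
    set k := A.sm w hw0
    have hky : k⁻¹ * (y : Γ) * k = (y : Γ) := by
      rw [mul_assoc, inv_mul_eq_iff_eq_mul]
      refine Subtype.ext (Equiv.ext fun z => ?_)
      show ((y : Γ) : Equiv.Perm K) ((k : Equiv.Perm K) z) =
        (k : Equiv.Perm K) (((y : Γ) : Equiv.Perm K) z)
      rw [hfix, hfix, A.sm_apply, A.sm_apply, map_mul, hw]
    set h := g1 * k * g1 with hh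
    have hh0 : (h : Equiv.Perm K) 0 = (g1 : Equiv.Perm K) w := by
      show (g1 : Equiv.Perm K) ((k : Equiv.Perm K) ((g1 : Equiv.Perm K) 0)) = _
      rw [hg10, A.sm_apply, mul_one]
    have hne : (g1 : Equiv.Perm K) w ≠ 0 := fun e => hw1 ((g1 : Equiv.Perm K).injective (e.trans hg11.symm))
    have hst : (y : Γ) ^ j ∈ MulAction.stabilizer Γ w :=
      zpow_mem (show (y : Γ) ∈ MulAction.stabilizer Γ w from (hfix w).trans hw) j
    have hσw : σ ((g1 : Equiv.Perm K) w) = (g1 : Equiv.Perm K) w := by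
      rw [← hfix]
      have e : (y : Γ) * g1 = g1 * (y : Γ) ^ j := by rw [← hj]; group
      have := congrArg (fun z : Γ => (z : Equiv.Perm K) w) e
      calc ((y : Γ) : Equiv.Perm K) ((g1 : Equiv.Perm K) w)
          = (g1 : Equiv.Perm K) ((((y : Γ) ^ j : Γ) : Equiv.Perm K) w) := this
        _ = _ := congrArg _ hst
    obtain ⟨hm, he⟩ := hterm h (by rw [hh0]; exact hσw)
    rw [hh0, if_neg hne] at he
    have hjj : h⁻¹ * (y : Γ) * h = (y : Γ) ^ (j * j) := by
      calc h⁻¹ * (y : Γ) * h = g1⁻¹ * (k⁻¹ * (g1⁻¹ * (y : Γ) * g1) * k) * g1 := by rw [hh]; group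
        _ = g1⁻¹ * (MulAut.conj k⁻¹ ((y : Γ) ^ j)) * g1 := by rw [hj]; simp
        _ = g1⁻¹ * (y : Γ) ^ j * g1 := by rw [map_zpow]; simp [hky]
        _ = MulAut.conj g1⁻¹ ((y : Γ) ^ j) := by simp
        _ = _ := by rw [map_zpow, zpow_mul]; simp [hj]
    rw [show (⟨_, hm⟩ : A.G0) = ⟨_, hy0⟩ ^ (j * j) from Subtype.ext (by simpa using hjj),
      map_zpow] at he
    have he' : σ ^ (j * j - j) = 1 := by rw [zpow_sub, he, mul_inv_cancel]
    have hd := orderOf_dvd_iff_zpow_eq_one.2 (hσone _ he')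
    rw [hy, show j * j - j = j * (j - 1) by ring] at hd
    have hj1 : (y : Γ) ^ j = y := by
      rcases (Nat.prime_iff_prime_int.1 hℓ).dvd_mul.1 hd with h | h
      · exfalso
        have h1 : (y : Γ) ^ j = 1 := orderOf_dvd_iff_zpow_eq_one.1 (by rw [hy]; exact h)
        rw [h1] at hj
        have h3 : (y : Γ) = g1 * (g1⁻¹ * (y : Γ) * g1) * g1⁻¹ := by group
        rw [hj, mul_one, mul_inv_cancel] at h3
        rw [h3, orderOf_one] at hy
        exact hℓ.one_lt.ne hy
      · have h1 : (y : Γ) ^ (j - 1) = 1 := orderOf_dvd_iff_zpow_eq_one.1 (by rw [hy]; exact h)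
        rw [show j = j - 1 + 1 by ring, zpow_add_one, h1, one_mul]
    have hσj : σ ^ j = σ := by
      have e : (⟨(y : Γ), hy0⟩ : A.G0) ^ j = ⟨_, hy0⟩ := Subtype.ext (by simpa using hj1)
      have := congrArg A.φ e
      rwa [map_zpow] at this
    have hcF : 0 < Fix.card := Finset.card_pos.2 ⟨0, by simp [Fix]⟩
    rw [hσj, ← pow_succ', Nat.sub_add_cancel hcF, ← zpow_natCast] at hTy
    have hdvd : ℓ ∣ Fix.card := by
      have := orderOf_dvd_iff_zpow_eq_one.2 (hσone _ hTy)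
      rw [hy] at this
      exact_mod_cast this
    let FS : AddSubgroup K :=
      { carrier := {x | σ x = x}
        zero_mem' := map_zero σ
        add_mem' := fun {a b} ha hb => by show σ (a + b) = a + b; rw [map_add, ha, hb]
        neg_mem' := fun {a} ha => by show σ (-a) = -a; rw [map_neg, ha] }
    have hFS : Fix.card = Nat.card FS := by
      rw [show Fix.card = Fintype.card {x // σ x = x} from (Fintype.card_subtype _).symm,
        ← Nat.card_eq_fintype_card]
      rfl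
    obtain ⟨n, -, hn⟩ := FiniteField.card K 2
    have h2 := FS.card_addSubgroup_dvd_card
    rw [← hFS, Nat.card_eq_fintype_card, hn] at h2
    have := (Nat.prime_dvd_prime_iff_eq hℓ Nat.prime_two).1 (hℓ.dvd_of_dvd_pow (hdvd.trans h2))
    rw [this] at hℓodd
    exact absurd hℓodd (by decide)

/-- The map onto the scalars. -/
noncomputable def smHom : Kˣ →* Γ :=
  MonoidHom.mk' (fun c => A.sm c c.ne_zero) fun a b => Subtype.ext (Equiv.ext fun x => by
    show _ = (A.sm a a.ne_zero : Equiv.Perm K) ((A.sm b b.ne_zero : Equiv.Perm K) x)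
    rw [A.sm_apply, A.sm_apply, A.sm_apply, Units.val_mul, mul_assoc])

theorem mem_smHom_range {g : Γ} :
    g ∈ A.smHom.range ↔ ∃ c : K, ∃ hc : c ≠ 0, A.sm c hc = g :=
  ⟨fun ⟨c, hc⟩ => ⟨c, c.ne_zero, hc⟩, fun ⟨c, hc, h⟩ => ⟨Units.mk0 c hc, h⟩⟩

theorem card_smHom_range : Nat.card A.smHom.range + 1 = Nat.card K := by
  classical
  haveI := Fintype.ofFinite K
  have hinj : Function.Injective A.smHom := fun a b h => Units.ext (by
    have := congrArg (fun g : Γ => (g : Equiv.Perm K) 1) h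
    simpa [smHom, A.sm_apply] using this)
  rw [← Nat.card_congr (MonoidHom.ofInjective hinj).toEquiv, Nat.card_units]
  have : 0 < Nat.card K := Nat.card_pos
  omega

/-- The extremal case with `ℓ ≥ 5` is impossible. -/
theorem false_of_inverted (hq : 2 < Nat.card K) {ℓ : ℕ} (hℓ : ℓ.Prime) (h5 : 5 ≤ ℓ)
    (hK : Nat.card K = 2 ^ ℓ) (hcF : Nat.card A.F = ℓ)
    (hfix : ∀ y ∈ A.F, y ≠ 1 → ∀ x, (y : Equiv.Perm K) x = x → x = 0 ∨ x = 1)
    {g : Γ} (hg : ∀ y ∈ A.F, g⁻¹ * y * g = y⁻¹) : False := by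
  refine CharCore.false_of_trans A.smHom.range A.F ℓ ?_ (by rw [A.card_smHom_range, hK]) ?_ hcF
    ?_ ?_ ?_ ?_ ?_
  · rcases eq_or_lt_of_le h5 with h | h
    · exact Or.inl h.symm
    · refine Or.inr ?_
      by_contra h7
      have : ℓ = 6 := by omega
      subst this
      exact absurd hℓ (by decide)
  · have := A.card_eq
    rw [hcF, ← A.card_smHom_range, Nat.add_sub_cancel, A.card_smHom_range, hK, ← mul_assoc] at this
    exact this
  · rintro _ ⟨a, rfl⟩ _ ⟨b, rfl⟩
    rw [← map_mul, ← map_mul, mul_comm]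
  · intro y hy z hz
    obtain ⟨c, hc, rfl⟩ := A.mem_smHom_range.1 hz
    refine A.mem_smHom_range.2 ⟨A.φ ⟨y, A.F_le hy⟩ c,
      (map_ne_zero_iff _ (A.φ ⟨y, A.F_le hy⟩).injective).2 hc, Subtype.ext (Equiv.ext fun x => ?_)⟩
    show _ = (y : Equiv.Perm K) ((A.sm c hc : Equiv.Perm K) ((y : Equiv.Perm K).symm x))
    rw [A.sm_apply, A.sm_apply, A.apply_F hy, map_mul, ← A.apply_F hy ((y : Equiv.Perm K).symm x),
      Equiv.apply_symm_apply]
  · intro y hy hy1 z hz hcz
    obtain ⟨c, hc, rfl⟩ := A.mem_smHom_range.1 hz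
    have h1 : (y : Equiv.Perm K) c = c := by
      have e : y * A.sm c hc = A.sm c hc * y := mul_inv_eq_iff_eq_mul.1 hcz
      have := congrArg (fun u : Γ => (u : Equiv.Perm K) 1) e
      simpa [A.sm_apply, (A.mem_F.1 hy).2] using this
    obtain rfl : c = 1 := (hfix y hy hy1 c h1).resolve_left hc
    exact Subtype.ext (Equiv.ext fun x => by rw [A.sm_apply, one_mul]; rfl)
  · intro x z hz hz1 hm
    obtain ⟨c, hc, rfl⟩ := A.mem_smHom_range.1 hz
    obtain ⟨c', hc', he⟩ := A.mem_smHom_range.1 hm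
    have h0 : c * (x : Equiv.Perm K) 0 = (x : Equiv.Perm K) 0 := by
      have e : A.sm c hc * x = x * A.sm c' hc' := by rw [he]; group
      have := congrArg (fun u : Γ => (u : Equiv.Perm K) 0) e
      simpa [A.sm_apply] using this
    have hx0 : x ∈ A.G0 := by
      show (x : Equiv.Perm K) 0 = 0
      by_contra hne
      have hc1 : c = 1 := mul_right_cancel₀ hne (h0.trans (one_mul _).symm)
      subst hc1
      exact hz1 (Subtype.ext (Equiv.ext fun w => by rw [A.sm_apply, one_mul]; rfl))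
    refine ⟨(A.sm _ (A.one_ne ⟨x, hx0⟩))⁻¹ * x, A.mem_F.2 ⟨?_, ?_⟩,
      A.mem_smHom_range.2 ⟨_, A.one_ne ⟨x, hx0⟩, by group⟩⟩
    · show (A.sm _ (A.one_ne ⟨x, hx0⟩) : Equiv.Perm K).symm ((x : Equiv.Perm K) 0) = 0
      rw [show (x : Equiv.Perm K) 0 = 0 from hx0, Equiv.symm_apply_eq, A.sm_apply, mul_zero]
    · show (A.sm _ (A.one_ne ⟨x, hx0⟩) : Equiv.Perm K).symm ((x : Equiv.Perm K) 1) = 1
      rw [Equiv.symm_apply_eq, A.sm_apply, mul_one]
  · intro M hM hle
    have hsm : ∀ c hc, A.sm c hc ∈ M := fun c hc => hle (A.mem_smHom_range.2 ⟨c, hc, rfl⟩)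
    haveI := hM
    obtain ⟨m, hmM, hm0⟩ := A.trans_of_normal hq hM hsm ((g : Equiv.Perm K) 0)
    set x0 := m⁻¹ * g
    have hx0 : x0 ∈ A.G0 := by
      show (m : Equiv.Perm K).symm ((g : Equiv.Perm K) 0) = 0
      rw [Equiv.symm_apply_eq, hm0]
    set f := (A.sm _ (A.one_ne ⟨x0, hx0⟩))⁻¹ * x0 with hf
    have hfF : f ∈ A.F := by
      refine A.mem_F.2 ⟨?_, ?_⟩
      · show (A.sm _ (A.one_ne ⟨x0, hx0⟩) : Equiv.Perm K).symm ((x0 : Equiv.Perm K) 0) = 0
        rw [show (x0 : Equiv.Perm K) 0 = 0 from hx0, Equiv.symm_apply_eq, A.sm_apply, mul_zero]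
      · show (A.sm _ (A.one_ne ⟨x0, hx0⟩) : Equiv.Perm K).symm ((x0 : Equiv.Perm K) 1) = 1
        rw [Equiv.symm_apply_eq, A.sm_apply, mul_one]
    let π : Γ →* Γ ⧸ M := QuotientGroup.mk' M
    have hπ : ∀ u ∈ M, π u = 1 := fun u hu => (QuotientGroup.eq_one_iff u).2 hu
    have hπg : π g = π f := by
      rw [show g = m * (A.sm _ (A.one_ne ⟨x0, hx0⟩) * f) by rw [hf]; simp [x0], map_mul, map_mul,
        hπ _ hmM, hπ _ (hsm _ _), one_mul, one_mul]
    have hFM : A.F ≤ M := by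
      intro y hy
      have h1 : π y⁻¹ = π y := by
        rw [← hg y hy, map_mul, map_mul, map_inv, hπg, ← map_inv, ← map_mul, ← map_mul, mul_assoc,
          A.comm_F hy hfF, inv_mul_cancel_left]
      have h2 : π y ^ 2 = 1 := by
        rw [pow_two]
        nth_rewrite 1 [← h1]
        rw [map_inv, inv_mul_cancel]
      have h3 : π y ^ ℓ = 1 := by
        rw [← map_pow, show y ^ ℓ = 1 from ?_, map_one]
        have := pow_card_eq_one' (x := (⟨y, hy⟩ : A.F))
        rw [hcF] at this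
        exact congrArg Subtype.val this
      have h4 : π y ^ Nat.gcd 2 ℓ = 1 := pow_gcd_eq_one.2 ⟨h2, h3⟩
      rw [(Nat.coprime_primes Nat.prime_two hℓ).2 (by omega), pow_one] at h4
      exact (QuotientGroup.eq_one_iff y).1 h4
    refine (Subgroup.eq_top_iff' M).2 fun u => ?_
    obtain ⟨m', hm', hm'0⟩ := A.trans_of_normal hq hM hsm ((u : Equiv.Perm K) 0)
    set v := m'⁻¹ * u
    have hv : v ∈ A.G0 := by
      show (m' : Equiv.Perm K).symm ((u : Equiv.Perm K) 0) = 0
      rw [Equiv.symm_apply_eq, hm'0]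
    have hvF : (A.sm _ (A.one_ne ⟨v, hv⟩))⁻¹ * v ∈ A.F := by
      refine A.mem_F.2 ⟨?_, ?_⟩
      · show (A.sm _ (A.one_ne ⟨v, hv⟩) : Equiv.Perm K).symm ((v : Equiv.Perm K) 0) = 0
        rw [show (v : Equiv.Perm K) 0 = 0 from hv, Equiv.symm_apply_eq, A.sm_apply, mul_zero]
      · show (A.sm _ (A.one_ne ⟨v, hv⟩) : Equiv.Perm K).symm ((v : Equiv.Perm K) 1) = 1
        rw [Equiv.symm_apply_eq, A.sm_apply, mul_one]
    have := mul_mem hm' (mul_mem (hsm _ (A.one_ne ⟨v, hv⟩)) (hFM hvF))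
    simpa [v] using this

end Affine

/-- The only example is the affine image of `GL(3, 2)`. -/
theorem main (hq : 2 < Nat.card K) :
    ∀ Γ : Subgroup (Equiv.Perm K), Affine Γ → Nat.card K = 8 ∧ Nat.card Γ = 168 := by
  suffices h : ∀ m, ∀ Γ : Subgroup (Equiv.Perm K), Affine Γ → Nat.card Γ = m →
      Nat.card K = 8 ∧ Nat.card Γ = 168 from fun Γ A => h _ Γ A rfl
  intro m
  induction m using Nat.strong_induction_on with
  | _ m ih =>
    intro Γ A hm
    have hF : Nat.card A.F ≠ 1 := fun h => A.false_of_sharp hq h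
    rcases A.dichotomy hq hF with ⟨M, hM, hsm, hne⟩ | ⟨ℓ, hℓ, hodd, hK, hcF, hfix, g, hg⟩
    · exfalso
      have hcM : Nat.card (M.map Γ.subtype) = Nat.card M :=
        Subgroup.card_map_of_injective Γ.subtype_injective
      have hlt : Nat.card M < Nat.card Γ :=
        lt_of_le_of_ne (Subgroup.card_le_card_group M) fun e => hne (Subgroup.card_eq_iff_eq_top M |>.1 e)
      obtain ⟨h8, h168⟩ := ih _ (hm ▸ hcM ▸ hlt) _ (A.descend hq hM hsm) rfl
      have hc := A.card_eq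
      rw [h8] at hc
      haveI : Finite (K ≃+* K) :=
        Finite.of_injective (fun τ : K ≃+* K => (τ : K → K)) DFunLike.coe_injective
      have h3 : Nat.card A.F ≤ 3 := (Nat.card_le_card_of_injective
        (A.φ.comp (Subgroup.inclusion A.F_le)) fun a b h => Subtype.ext (A.φ_injOn a.2 b.2 h)).trans
          (RingAutFacts.card_ringAut_le (n := 3) (by rw [h8]; norm_num))
      omega
    · have h2 := hℓ.two_le
      obtain ⟨k, hk⟩ := hodd
      by_cases h5 : 5 ≤ ℓ
      · exact (A.false_of_inverted hq hℓ h5 hK hcF hfix hg).elim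
      · obtain rfl : ℓ = 3 := by omega
        refine ⟨by rw [hK]; norm_num, ?_⟩
        rw [A.card_eq, hK, hcF]
        norm_num

end Cfsg.Agent.Lib.TwoTimesPSL.Faithful
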