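import Mathlib
import Cfsg.Agent.Lib.TwoTimesPSL.Action
import Cfsg.Agent.Lib.TwoTimesPSL.Basics

/-!
# The level with linear group `GL(3, 2)`
Owner: helper80.
-/

set_option autoImplicit false
set_option linter.unusedSectionVars false

namespace Cfsg.Agent.Lib.TwoTimesPSL

variable {G : Type*} [Group G] [Finite G] {t : G} {K : Type*} [Field K] [Finite K] [CharP K 2]
  {Fr : Frame t K}

namespace Level

/-- A Sylow `2`-subgroup of the normaliser, with a flag. -/
structure PData (L : Level Fr) where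
  P : Subgroup G
  le_N : P ≤ L.N
  pgroup : IsPGroup 2 P
  R_le : L.R ≤ P
  max : ∀ Q : Subgroup G, IsPGroup 2 Q → P ≤ Q → Q ≤ L.N → Q = P
  ker : ∀ g ∈ P, (∀ v, L.ρ g v = v) → g ∈ L.R
  card : Nat.card P = 8 * Nat.card L.R
  v : K
  w : K
  x0 : K
  v_ne : v ≠ 0
  w_ne : w ≠ 0
  wv_ne : w ≠ v
  span : ∀ x : K, x = 0 ∨ x = v ∨ x = w ∨ x = w + v ∨
    x = x0 ∨ x = x0 + v ∨ x = x0 + w ∨ x = x0 + (w + v)
  fix_v : ∀ g ∈ P, L.ρ g v = v
  act_w : ∀ g ∈ P, L.ρ g w = w ∨ L.ρ g w = w + v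
  not_small : ¬ ∀ x : K, x = 0 ∨ x = v ∨ x = w ∨ x = w + v
  act : ∀ g ∈ P, ∀ x, L.ρ g x = x ∨ L.ρ g x = x + v ∨ L.ρ g x = x + w ∨ L.ρ g x = x + (w + v)

variable {L : Level Fr}

theorem exists_flag (hK : Nat.card K = 8) {P : Subgroup G} (hP : IsPGroup 2 P) (hle : P ≤ L.N) :
    ∃ v w x0 : K, v ≠ 0 ∧ w ≠ 0 ∧ w ≠ v ∧
      (∀ x : K, x = 0 ∨ x = v ∨ x = w ∨ x = w + v ∨
        x = x0 ∨ x = x0 + v ∨ x = x0 + w ∨ x = x0 + (w + v)) ∧
      (∀ g ∈ P, L.ρ g v = v) ∧ (∀ g ∈ P, L.ρ g w = w ∨ L.ρ g w = w + v) ∧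
      ∀ g ∈ P, ∀ x, L.ρ g x = x ∨ L.ρ g x = x + v ∨ L.ρ g x = x + w ∨ L.ρ g x = x + (w + v) := by
  classical
  haveI : Fact (Nat.Prime 2) := ⟨Nat.prime_two⟩
  haveI := Fintype.ofFinite K
  letI act : MulAction P K :=
    { smul := fun g x => L.ρ g x
      one_smul := fun x => L.ρ_of_comm (one_mem _) (by simp)
      mul_smul := fun g h x => L.ρ_mul (hle g.2) (hle h.2) x }
  obtain ⟨v, hv, hv0⟩ := hP.exists_fixed_point_of_prime_dvd_card_of_fixed_point K
    (by rw [hK]; norm_num) (a := 0) (fun g => L.ρ_zero (hle g.2))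
  have hv' : ∀ g ∈ P, L.ρ g v = v := fun g hg => hv ⟨g, hg⟩
  have hv1 : v ≠ 0 := Ne.symm hv0
  let U1 : AddSubgroup K :=
    { carrier := {x | x = 0 ∨ x = v}
      zero_mem' := Or.inl rfl
      add_mem' := by
        rintro a b (rfl | rfl) (rfl | rfl) <;> simp [CharTwo.add_self_eq_zero]
      neg_mem' := by
        rintro a (rfl | rfl) <;> simp [CharTwo.neg_eq] }
  have hU1 : Nat.card U1 = 2 := by
    show Nat.card ({0, v} : Set K) = 2
    rw [Nat.card_coe_set_eq, Set.ncard_pair (Ne.symm hv1)]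
  have hQ : Nat.card (K ⧸ U1) = 4 := by
    have h := AddSubgroup.card_eq_card_quotient_mul_card_addSubgroup U1
    rw [hK, hU1] at h
    omega
  letI actQ : MulAction P (K ⧸ U1) :=
    { smul := fun g => Quotient.map' (fun x => L.ρ g x) fun a b h => by
        rw [QuotientAddGroup.leftRel_apply, CharTwo.neg_eq] at h ⊢
        show L.ρ g a + L.ρ g b = 0 ∨ L.ρ g a + L.ρ g b = v
        rw [← L.ρ_add (hle g.2)]
        rcases h with h | h <;> rw [h]
        · exact Or.inl (L.ρ_zero (hle g.2))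
        · exact Or.inr (hv' g g.2)
      one_smul := fun q => Quotient.inductionOn' q fun x => by
        show Quotient.mk'' (L.ρ (1 : G) x) = Quotient.mk'' x
        rw [L.ρ_of_comm (one_mem _) (by simp)]
      mul_smul := fun g h q => Quotient.inductionOn' q fun x => by
        show Quotient.mk'' (L.ρ ((g : G) * h) x) = Quotient.mk'' (L.ρ g (L.ρ h x))
        rw [L.ρ_mul (hle g.2) (hle h.2)] }
  obtain ⟨q, hq, hq0⟩ := hP.exists_fixed_point_of_prime_dvd_card_of_fixed_point (K ⧸ U1)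
    (by rw [hQ]; norm_num) (a := (QuotientAddGroup.mk 0 : K ⧸ U1)) (fun g => by
      show Quotient.mk'' (L.ρ g 0) = _
      rw [L.ρ_zero (hle g.2)])
  induction q using QuotientAddGroup.induction_on with | _ w => ?_
  have hw : w ≠ 0 ∧ w ≠ v := by
    constructor <;> rintro rfl <;> refine hq0 ?_ <;> rw [QuotientAddGroup.eq] <;> simp [U1]
  have hgw : ∀ g ∈ P, L.ρ g w = w ∨ L.ρ g w = w + v := by
    intro g hg
    have h := Quotient.eq''.1 (hq ⟨g, hg⟩)
    rw [QuotientAddGroup.leftRel_apply, CharTwo.neg_eq] at h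
    rcases h with h | h
    · exact Or.inl (CharTwo.add_eq_zero.1 h)
    · refine Or.inr ?_
      rw [← h, add_left_comm, CharTwo.add_self_eq_zero, add_zero]
  set W : Finset K := {0, v, w, w + v} with hW
  have hWc : W.card ≤ 4 := Finset.card_le_four
  obtain ⟨x0, -, hx0⟩ : ∃ x ∈ (Finset.univ : Finset K), x ∉ W := by
    refine Finset.exists_mem_notMem_of_card_lt_card ?_
    rw [Finset.card_univ, ← Nat.card_eq_fintype_card, hK]
    omega
  simp only [hW, Finset.mem_insert, Finset.mem_singleton, not_or] at hx0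
  obtain ⟨hx00, hx0v, hx0w, hx0wv⟩ := hx0
  have hspan : ∀ x : K, x = 0 ∨ x = v ∨ x = w ∨ x = w + v ∨
      x = x0 ∨ x = x0 + v ∨ x = x0 + w ∨ x = x0 + (w + v) := by
    intro x
    let f : Bool × Bool × Bool → K := fun b =>
      (if b.1 then x0 else 0) + ((if b.2.1 then w else 0) + (if b.2.2 then v else 0))
    have hinj : Function.Injective f := by
      have key : ∀ b : Bool × Bool × Bool, f b = 0 → b = (false, false, false) := by
        rintro ⟨_ | _, _ | _, _ | _⟩ h <;>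
          simp only [f, if_true, Bool.false_eq_true, if_false, zero_add, add_zero,
            CharTwo.add_eq_zero] at h ⊢
        all_goals first
          | exact absurd h hv1
          | exact absurd h hw.1
          | exact absurd h hw.2
          | exact absurd h hx00
          | exact absurd h hx0v
          | exact absurd h hx0w
          | exact absurd h hx0wv
      intro a b h
      have hab : f (xor a.1 b.1, xor a.2.1 b.2.1, xor a.2.2 b.2.2) = f a + f b := by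
        obtain ⟨a1, a2, a3⟩ := a
        obtain ⟨b1, b2, b3⟩ := b
        simp only [f]
        have e : ∀ (p q : Bool) (z : K), (if xor p q then z else 0) =
            (if p then z else 0) + (if q then z else 0) := fun p q z => by
          cases p <;> cases q <;> simp [CharTwo.add_self_eq_zero]
        rw [e, e, e]
        abel
      have h2 := key _ (by rw [hab, h, CharTwo.add_self_eq_zero])
      simp only [Prod.mk.injEq] at h2
      obtain ⟨h3, h4, h5⟩ := h2
      simp only [bne_eq_false_iff_eq] at h3 h4 h5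
      exact Prod.ext h3 (Prod.ext h4 h5)
    obtain ⟨⟨b1, b2, b3⟩, rfl⟩ : ∃ b, f b = x :=
      ((Fintype.bijective_iff_injective_and_card f).2 ⟨hinj, by
        rw [← Nat.card_eq_fintype_card (α := K), hK]; rfl⟩).2 x
    cases b1 <;> cases b2 <;> cases b3 <;> simp [f]
  refine ⟨v, w, x0, hv1, hw.1, hw.2, hspan, hv', hgw, fun g hg => ?_⟩
  -- the image of `x0` avoids the plane
  have h0 : L.ρ g x0 = x0 ∨ L.ρ g x0 = x0 + v ∨ L.ρ g x0 = x0 + w ∨ L.ρ g x0 = x0 + (w + v) := by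
    have hinj := L.ρ_injective (hle hg)
    have hadd := L.ρ_add (hle hg)
    rcases hspan (L.ρ g x0) with h | h | h | h | h | h | h | h
    · exact absurd (hinj (h.trans (L.ρ_zero (hle hg)).symm)) hx00
    · exact absurd (hinj (h.trans (hv' g hg).symm)) hx0v
    · rcases hgw g hg with h' | h'
      · exact absurd (hinj (h.trans h'.symm)) hx0w
      · refine absurd (hinj (h.trans ?_)) hx0wv
        rw [hadd, h', hv' g hg, add_assoc, CharTwo.add_self_eq_zero, add_zero]
    · rcases hgw g hg with h' | h'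
      · refine absurd (hinj (h.trans ?_)) hx0wv
        rw [hadd, h', hv' g hg]
      · exact absurd (hinj (h.trans h'.symm)) hx0w
    · exact Or.inl h
    · exact Or.inr (Or.inl h)
    · exact Or.inr (Or.inr (Or.inl h))
    · exact Or.inr (Or.inr (Or.inr h))
  intro x
  have hadd := L.ρ_add (hle hg)
  have e := L.ρ_zero (hle hg)
  have hvv := hv' g hg
  have vv : ∀ a : K, a + a = 0 := CharTwo.add_self_eq_zero
  rcases hspan x with rfl | rfl | rfl | rfl | rfl | rfl | rfl | rfl <;>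
    rcases hgw g hg with h' | h' <;>
    rcases h0 with h | h | h | h <;>
    simp only [hadd, e, hvv, h', h] <;>
    grind [CharTwo.add_self_eq_zero]

variable (D : Elem Fr) (hconj : ∀ x ∈ L.R, x ∉ L.A → IsConj t x) (hnc : ∀ a ∈ L.A, ¬ IsConj t a)

theorem exists_pdata (hK : Nat.card K = 8)
    (hfaith : ∀ g ∈ L.N, (∀ v, L.ρ g v = v) → L.d g = 0) (hΓ : Nat.card L.Φ.range = 168) :
    Nonempty L.PData := by
  haveI : Fact (Nat.Prime 2) := ⟨Nat.prime_two⟩
  obtain ⟨S, hS⟩ := (L.isPGroup_R.comap_subtype (K := L.N)).exists_le_sylow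
  set P := (S : Subgroup L.N).map L.N.subtype
  have hle : P ≤ L.N := by
    rintro _ ⟨x, -, rfl⟩
    exact x.2
  have hRP : L.R ≤ P := fun x hx => ⟨⟨x, L.R_le_N hx⟩, hS hx, rfl⟩
  have hPp : IsPGroup 2 P := S.isPGroup'.map _
  have hmax : ∀ Q : Subgroup G, IsPGroup 2 Q → P ≤ Q → Q ≤ L.N → Q = P := by
    intro Q hQ hPQ hQN
    have h := S.is_maximal' (hQ.comap_subtype (K := L.N)) fun y hy => hPQ ⟨y, hy, rfl⟩
    exact le_antisymm (fun x hx =>
      ⟨⟨x, hQN hx⟩, show (⟨x, hQN hx⟩ : L.N) ∈ (S : Subgroup L.N) by rw [← h]; exact hx, rfl⟩) hPQ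
  have hker : ∀ g ∈ P, (∀ v, L.ρ g v = v) → g ∈ L.R := by
    intro g hg hρ
    obtain ⟨b, hb, hc⟩ := L.ker_d_N (hle hg) (hfaith g (hle hg) hρ)
    obtain ⟨k, hk⟩ := hPp ⟨_, mul_mem (inv_mem (hRP (L.A_le_R hb))) hg⟩
    have h1 : b⁻¹ * g ∈ L.R := L.frame_mem_R (Fr.cent _ ⟨k, congrArg Subtype.val hk⟩ hc fun v => by
      rw [mul_assoc, L.comm_of_ρ (hle hg) (hρ v), ← mul_assoc,
        (L.comm _ (inv_mem hb) _ (L.ι_mem v)), mul_assoc])
    simpa using mul_mem (L.A_le_R hb) h1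
  let f : (S : Subgroup L.N) →* L.Φ.range :=
    L.Φ.rangeRestrict.comp (S : Subgroup L.N).subtype
  have hfker : Nat.card f.ker = Nat.card L.R := by
    refine Nat.card_congr
      { toFun := fun x => ⟨((x.1 : L.N) : G), ?_⟩
        invFun := fun x => ⟨⟨⟨x.1, L.R_le_N x.2⟩, hS x.2⟩, ?_⟩
        left_inv := fun _ => rfl
        right_inv := fun _ => rfl }
    · have h : L.Φ (x.1 : L.N) = 1 := congrArg Subtype.val (MonoidHom.mem_ker.1 x.2)
      have hd : L.d ((x.1 : L.N) : G) = 0 := by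
        rw [← L.Φ_zero, h, Equiv.Perm.one_apply]
      refine hker _ ⟨_, x.1.2, rfl⟩ fun v => ?_
      have := congrArg (fun e : Equiv.Perm K => e v) h
      simp only [L.Φ_apply, hd, add_zero, Equiv.Perm.one_apply] at this
      exact this
    · refine MonoidHom.mem_ker.2 (Subtype.ext (Equiv.ext fun v => ?_))
      show L.ρ x v + L.d x = v
      rw [L.d_of_mem_R x.2, add_zero,
        L.ρ_of_comm (L.R_le_N x.2) ((L.R_le_W x.2).2.1 v)]
  have hrange : Nat.card f.range = 8 := by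
    have hsurj : Function.Surjective L.Φ.rangeRestrict := MonoidHom.rangeRestrict_surjective _
    have e : f.range = (S : Subgroup L.N).map L.Φ.rangeRestrict := by
      rw [MonoidHom.range_comp, Subgroup.range_subtype]
    have hdvd := Subgroup.index_map_dvd (f := L.Φ.rangeRestrict) (S : Subgroup L.N) hsurj
    have hodd : ((S : Subgroup L.N).map L.Φ.rangeRestrict).index % 2 = 1 := by
      rcases Nat.mod_two_eq_zero_or_one ((S : Subgroup L.N).map L.Φ.rangeRestrict).index with h | h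
      · exact absurd ((Nat.dvd_of_mod_eq_zero h).trans hdvd) S.not_dvd_index
      · exact h
    have hp : IsPGroup 2 ((S : Subgroup L.N).map L.Φ.rangeRestrict) := S.isPGroup'.map _
    obtain ⟨k, hk⟩ := IsPGroup.iff_card.1 hp
    have hmul := Subgroup.card_mul_index ((S : Subgroup L.N).map L.Φ.rangeRestrict)
    rw [hΓ, hk] at hmul
    rw [e, hk]
    have hk8 : k < 8 := by
      by_contra hlt
      have := Nat.pow_le_pow_right two_pos (show 8 ≤ k by omega)
      have := Nat.le_of_dvd (by norm_num) (Dvd.intro _ hmul)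
      omega
    interval_cases k <;> norm_num at hmul ⊢ <;> omega
  have hcard : Nat.card P = 8 * Nat.card L.R := by
    have h := Subgroup.card_mul_index f.ker
    rw [Subgroup.index_ker, hrange, hfker] at h
    rw [Subgroup.card_map_of_injective L.N.subtype_injective, ← h, mul_comm]
  obtain ⟨v, w, x0, h1, h2, h3, h4, h5, h6, h7⟩ := exists_flag hK hPp hle
  refine ⟨⟨P, hle, hPp, hRP, hmax, hker, hcard, v, w, x0, h1, h2, h3, h4, h5, h6, ?_, h7⟩⟩
  classical
  haveI := Fintype.ofFinite K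
  intro h
  have hle4 : (Finset.univ : Finset K).card ≤ ({0, v, w, w + v} : Finset K).card :=
    Finset.card_le_card fun x _ => by simpa using h x
  have hc4 : ({0, v, w, w + v} : Finset K).card ≤ 4 := Finset.card_le_four
  rw [Finset.card_univ, ← Nat.card_eq_fintype_card, hK] at hle4
  omega

namespace PData

variable (p : L.PData)

theorem eq_of_two {g h : G} (hg : g ∈ p.P) (hh : h ∈ p.P) (hw : L.ρ g p.w = L.ρ h p.w) {x : K}
    (hx : x ≠ 0 ∧ x ≠ p.v ∧ x ≠ p.w ∧ x ≠ p.w + p.v) (hxe : L.ρ g x = L.ρ h x) :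
    h⁻¹ * g ∈ L.R := by
  refine p.ker _ (mul_mem (inv_mem hh) hg) fun y => ?_
  have key : L.ρ g y = L.ρ h y := by
    have hg' := L.ρ_add (p.le_N hg)
    have hh' := L.ρ_add (p.le_N hh)
    have hx0 : L.ρ g p.x0 = L.ρ h p.x0 := by
      have h1 := p.fix_v g hg
      have h2 := p.fix_v h hh
      rcases p.span x with e | e | e | e | e | e | e | e
      · exact absurd e hx.1
      · exact absurd e hx.2.1
      · exact absurd e hx.2.2.1
      · exact absurd e hx.2.2.2
      · rwa [e] at hxe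
      all_goals
        rw [e] at hxe
        simp only [hg', hh', h1, h2, hw] at hxe
        exact add_right_cancel hxe
    rcases p.span y with rfl | rfl | rfl | rfl | rfl | rfl | rfl | rfl <;>
      simp only [hg', hh', L.ρ_zero (p.le_N hg), L.ρ_zero (p.le_N hh), p.fix_v g hg, p.fix_v h hh,
        hw, hx0]
  rw [L.ρ_mul (inv_mem (p.le_N hh)) (p.le_N hg), key, ← L.ρ_mul (inv_mem (p.le_N hh)) (p.le_N hh),
    inv_mul_cancel, L.ρ_of_comm (one_mem _) (by simp)]

theorem x0_not : p.x0 ≠ 0 ∧ p.x0 ≠ p.v ∧ p.x0 ≠ p.w ∧ p.x0 ≠ p.w + p.v := by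
  classical
  haveI := Fintype.ofFinite K
  refine ⟨?_, ?_, ?_, ?_⟩ <;> intro e <;>
    exact p.not_small fun x => by
      have h := p.span x
      rw [e] at h
      clear e
      grind [CharTwo.add_self_eq_zero]

include D hconj in
theorem sq_mem_A {x : G} (hx : x ∈ p.P) (h : x * x ∈ L.R) : x * x ∈ L.A := by
  by_contra hA
  have := D.sq_of_mem (hconj _ h hA) p.pgroup hx (mul_assoc x x x).symm
  exact hA (this ▸ one_mem _)

theorem R_conj_mul {k r : G} (hk : k ∈ L.N) (hr : r ∈ L.R) : k⁻¹ * r * k * r ∈ L.A := by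
  have hkk : ∀ a ∈ L.A, k⁻¹ * a * k ∈ L.A := fun a ha => conj_mem_of_forall hk.1 ha
  rcases hr with hr | hr
  · exact mul_mem (hkk r hr) hr
  · have h1 := (inv_mem hk : k⁻¹ ∈ L.N).2
    rw [inv_inv] at h1
    set a := r * t with ha
    have er : r = a * t := by rw [ha, mul_assoc, Fr.t_inv, mul_one]
    have e : k⁻¹ * r * k * r = (k⁻¹ * a * k) * (k⁻¹ * t * k * t) * (t⁻¹ * a * t) := by rw [er]; group
    rw [e, Fr.t_inv', L.inv a hr]
    exact mul_mem (mul_mem (hkk a hr) h1) (inv_mem hr)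

include D hconj in
/-- All squares lie in two cosets of `A`. -/
theorem squares : ∃ z ∈ p.P, t * z⁻¹ ∉ L.A ∧ z * z ∈ L.A ∧
    ∀ h ∈ p.P, h * h ∈ L.A ∨ h * h * z⁻¹ ∈ L.A := by
  by_cases hg : ∃ g ∈ p.P, g * g ∉ L.R
  swap
  · push Not at hg
    exact ⟨1, one_mem _, by simpa using L.t_not_mem, by simp [one_mem],
      fun h hh => Or.inl (p.sq_mem_A D hconj hh (hg h hh))⟩
  obtain ⟨g, hg, hgR⟩ := hg
  have hgN := p.le_N hg
  -- the shape of an element with a nontrivial square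
  have shape : ∀ h ∈ p.P, h * h ∉ L.R → L.ρ h p.w = p.w + p.v ∧
      (L.ρ h p.x0 = p.x0 + p.w ∨ L.ρ h p.x0 = p.x0 + (p.w + p.v)) ∧
      L.ρ (h * h) p.w = p.w ∧ L.ρ (h * h) p.x0 = p.x0 + p.v := by
    intro h hh hsq
    have hN := p.le_N hh
    have hadd := L.ρ_add hN
    have hv := p.fix_v h hh
    have hne : ¬ (L.ρ (h * h) p.w = p.w ∧ L.ρ (h * h) p.x0 = p.x0) := fun ⟨e1, e2⟩ => by
      have h1 := p.eq_of_two (mul_mem hh hh) (one_mem p.P)
        (by rw [e1, L.ρ_of_comm (one_mem _) (by simp)]) p.x0_not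
        (by rw [e2, L.ρ_of_comm (one_mem _) (by simp)])
      exact hsq (by simpa using h1)
    rw [L.ρ_mul hN hN, L.ρ_mul hN hN] at hne ⊢
    rcases p.act_w h hh with ew | ew <;> rcases p.act h hh p.x0 with ex | ex | ex | ex <;>
      simp only [ew, ex, hadd, hv] at hne ⊢ <;>
      grind [CharTwo.add_self_eq_zero]
  obtain ⟨gw, gx, g2w, g2x⟩ := shape g hg hgR
  have hz2 : g * g * (g * g) ∈ L.A := by
    refine p.sq_mem_A D hconj (mul_mem hg hg) ?_
    have h1 := p.eq_of_two (mul_mem (mul_mem hg hg) (mul_mem hg hg)) (one_mem p.P)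
      (by rw [L.ρ_mul (mul_mem hgN hgN) (mul_mem hgN hgN), g2w, g2w,
        L.ρ_of_comm (one_mem _) (by simp)]) p.x0_not
      (by rw [L.ρ_mul (mul_mem hgN hgN) (mul_mem hgN hgN), g2x, L.ρ_add (mul_mem hgN hgN), g2x,
        p.fix_v _ (mul_mem hg hg), add_assoc, CharTwo.add_self_eq_zero, add_zero,
        L.ρ_of_comm (one_mem _) (by simp)])
    simpa using h1
  refine ⟨g * g, mul_mem hg hg, fun h => hgR ?_, hz2, fun h hh => ?_⟩
  · have : g * g = (t * (g * g)⁻¹)⁻¹ * t := by simp [mul_assoc]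
    rw [this]
    exact mul_mem (L.A_le_R (inv_mem h)) L.t_mem_R
  by_cases hR : h * h ∈ L.R
  · exact Or.inl (p.sq_mem_A D hconj hh hR)
  obtain ⟨hw, hx, -, -⟩ := shape h hh hR
  have hgi : g⁻¹ * g⁻¹ ∉ L.R := fun h' => hgR (by simpa using inv_mem h')
  obtain ⟨iw, ix, -, -⟩ := shape g⁻¹ (inv_mem hg) hgi
  have hdiff : L.ρ g⁻¹ p.x0 ≠ L.ρ g p.x0 := by
    intro e
    have e1 : L.ρ g (L.ρ g⁻¹ p.x0) = p.x0 := by
      rw [← L.ρ_mul hgN (inv_mem hgN), mul_inv_cancel, L.ρ_of_comm (one_mem _) (by simp)]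
    rw [e, ← L.ρ_mul hgN hgN, g2x, add_eq_left] at e1
    exact p.v_ne e1
  obtain ⟨k, hk, hkk, hkr⟩ : ∃ k ∈ p.P, k * k * (g * g)⁻¹ ∈ L.A ∧ k⁻¹ * h ∈ L.R := by
    by_cases e : L.ρ h p.x0 = L.ρ g p.x0
    · exact ⟨g, hg, by simp [one_mem], p.eq_of_two hh hg (by rw [hw, gw]) p.x0_not e⟩
    · refine ⟨g⁻¹, inv_mem hg, ?_, p.eq_of_two hh (inv_mem hg) (by rw [hw, iw]) p.x0_not ?_⟩
      · rw [show g⁻¹ * g⁻¹ * (g * g)⁻¹ = (g * g * (g * g))⁻¹ by group]
        exact inv_mem hz2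
      · rcases hx with a | a <;> rcases ix with b | b <;> rcases gx with c | c <;>
          rw [a, b] <;> first | rfl | (exfalso; first
            | exact e (a.trans c.symm)
            | exact hdiff (b.trans c.symm))
  refine Or.inr ?_
  set r := k⁻¹ * h with hr
  have h1 := Level.PData.R_conj_mul (L := L) (p.le_N hk) hkr
  have : h * h * (g * g)⁻¹ =
      k * k * (k⁻¹ * r * k * r) * (k * k)⁻¹ * (k * k * (g * g)⁻¹) := by rw [hr]; group
  rw [this]
  exact mul_mem ((p.le_N (mul_mem hk hk)).1 _ h1) hkk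

include D hconj in
theorem exists_H0 : ∃ (H0 : Subgroup G) (z : G), z ∈ p.P ∧ L.A ≤ H0 ∧ H0 ≤ p.P ∧ t ∉ H0 ∧
    (∀ x ∈ p.P, x * x ∈ H0) ∧ ∀ x ∈ H0, x ∈ L.A ∨ x * z⁻¹ ∈ L.A := by
  obtain ⟨z, hz, htz, hzz, hsq⟩ := p.squares D hconj
  have hzN := p.le_N hz
  refine ⟨{ carrier := {x | x ∈ L.A ∨ x * z⁻¹ ∈ L.A}
            one_mem' := Or.inl (one_mem _)
            mul_mem' := ?_
            inv_mem' := ?_ }, z, hz, fun x hx => Or.inl hx, ?_, ?_, hsq, fun x hx => hx⟩
  · rintro a b (ha | ha) (hb | hb)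
    · exact Or.inl (mul_mem ha hb)
    · exact Or.inr (by rw [mul_assoc]; exact mul_mem ha hb)
    · refine Or.inr ?_
      rw [show a * b * z⁻¹ = a * z⁻¹ * (z * b * z⁻¹) by group]
      exact mul_mem ha (hzN.1 b hb)
    · refine Or.inl ?_
      rw [show a * b = a * z⁻¹ * (z * (b * z⁻¹) * z⁻¹) * (z * z) by group]
      exact mul_mem (mul_mem ha (hzN.1 _ hb)) hzz
  · rintro a (ha | ha)
    · exact Or.inl (inv_mem ha)
    · refine Or.inr ?_
      rw [show a⁻¹ * z⁻¹ = z⁻¹ * (a * z⁻¹)⁻¹ * z * (z * z)⁻¹ by group]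
      exact mul_mem (conj_mem_of_forall hzN.1 (inv_mem ha)) (inv_mem hzz)
  · rintro x (hx | hx)
    · exact p.R_le (L.A_le_R hx)
    · simpa using mul_mem (p.R_le (L.A_le_R hx)) hz
  · rintro (h | h)
    · exact L.t_not_mem h
    · exact htz h

include D hconj in
theorem exists_M : ∃ M : Subgroup G, M ≤ p.P ∧ Nat.card p.P = 2 * Nat.card M ∧
    (∀ x ∈ p.P, ∀ m ∈ M, x * m * x⁻¹ ∈ M) ∧ ∀ x ∈ M, x ∈ L.R → x ∈ L.A := by
  obtain ⟨H0, z, -, hA, hle, ht, hsq, -⟩ := p.exists_H0 D hconj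
  have htP : t ∈ p.P := p.R_le L.t_mem_R
  obtain ⟨M, h0, hMP, htM, hcov, hnorm⟩ :=
    Basics.exists_complement Fr.t_inv htP H0 hle hsq ht
  refine ⟨M, hMP, Basics.card_of_cover Fr.t_inv hMP htP htM hcov, hnorm, fun x hx hxR => ?_⟩
  by_contra hxA
  have h1 := mul_mem (inv_mem hx) (h0 (hA (hxR.resolve_left hxA)))
  exact htM (by simpa using h1)

end PData

end Level

end Cfsg.Agent.Lib.TwoTimesPSL
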