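import Mathlib
import Cfsg.Agent.Lib.TwoTimesPSL.LThree

/-!
# No level has linear group `GL(3, 2)`
Owner: helper80.
-/

set_option autoImplicit false
set_option linter.unusedSectionVars false

namespace Cfsg.Agent.Lib.TwoTimesPSL

universe u_2

variable {G : Type*} [Group G] [Finite G] {t : G} {K : Type u_2} [Field K] [Finite K] [CharP K 2]
  {Fr : Frame t K}

namespace Level

namespace PData

open Count (mT fixCard)

variable {L : Level Fr} (p : L.PData) (D : Elem Fr)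
  (hconj : ∀ x ∈ L.R, x ∉ L.A → IsConj t x) (hnc : ∀ a ∈ L.A, ¬ IsConj t a)

/-- The centraliser of an element in `P`. -/
def cen (x : G) : Subgroup G := p.P ⊓ Subgroup.centralizer ({x} : Set G)

theorem mem_cen {x a : G} : a ∈ p.cen x ↔ a ∈ p.P ∧ a * x = x * a := by
  rw [cen, Subgroup.mem_inf, Subgroup.mem_centralizer_singleton_iff]

theorem t_mem : t ∈ p.P := p.R_le L.t_mem_R

include D in
/-- Everything not in `R` conjugate to `t` is absent above the bottom level. -/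
theorem conj_mem_R (hbig : ∃ a ∈ L.A, ∀ v, a ≠ Fr.ι v) {w : G} (hw : w ∈ p.P) (hc : IsConj t w) :
    w ∈ L.R := by
  have he : 2 ≤ L.expLog := by
    obtain ⟨a, ha, hne⟩ := hbig
    by_contra hlt
    have h1 : L.expLog = 1 := by
      have := L.expLog_pos
      omega
    have := L.pow_expLog ha
    rw [h1, pow_one, pow_two] at this
    obtain ⟨v, hv⟩ := L.sq_eq_one ha this
    exact hne v hv
  refine p.ker w hw fun v => ?_
  obtain ⟨a, ha, hav⟩ := L.exists_sqrt (L.ι_mem v)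
    (L.top_eq_zero_of_pow (L.ι_mem v) (i := 1) he (by rw [pow_one, pow_two, Fr.ι_mul_self]))
  have hw1 := D.sq_of_mem hc p.pgroup hw rfl
  have hwN := p.le_N hw
  set b := w * a * w⁻¹ with hb
  have hbA : b ∈ L.A := hwN.1 a ha
  have hwi : w⁻¹ = w := inv_eq_of_mul_eq_one_right hw1
  have hbw : w * b * w⁻¹ = a := by
    rw [hb, hwi, show w * (w * a * w) * w = (w * w) * a * (w * w) by group, hw1, one_mul, mul_one]
  have hab : a * b * w = w * (a * b) := by
    refine (mul_inv_eq_iff_eq_mul.1 ?_).symm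
    rw [show w * (a * b) * w⁻¹ = (w * a * w⁻¹) * (w * b * w⁻¹) by group, hbw, ← hb]
    exact L.comm b hbA a ha
  have h2 := D.sq_of_mem hc p.pgroup
    (p.R_le (L.A_le_R (mul_mem ha hbA))) hab
  have h3 : a * a * (b * b) = 1 := by
    rw [← h2, mul_assoc a b, ← mul_assoc b a, L.comm b hbA a ha]
    group
  refine Fr.ι_inj ?_
  rw [L.ι_ρ hwN, ← hav]
  calc w * (a * a) * w⁻¹ = b * b := by rw [hb]; group
    _ = (a * a)⁻¹ := eq_inv_of_mul_eq_one_right h3
    _ = _ := by rw [hav, Fr.ι_inv]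

include p D hconj hnc in
/-- No higher level. -/
theorem false_of_big [IsSimpleGroup G] (hG : ¬ IsMulCommutative G)
    (hbig : ∃ a ∈ L.A, ∀ v, a ≠ Fr.ι v) : False := by
  have hodd : p.P.index % 2 = 1 := by
    by_contra h
    obtain ⟨S, n, hS, hPS, hn, hnP, hnorm⟩ := Basics.exists_normalizing p.pgroup (by omega)
    have hR : ∀ x ∈ L.R, x ∉ L.A → n * x * n⁻¹ ∈ L.R := fun x hx hxA =>
      p.conj_mem_R D hbig (hnorm x (p.R_le hx)) ((hconj x hx hxA).trans (isConj_iff.2 ⟨n, rfl⟩))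
    have hall : ∀ x ∈ L.R, n * x * n⁻¹ ∈ L.R := by
      intro x hx
      by_cases hxA : x ∈ L.A
      · have h1 : x * t ∉ L.A := fun h' => L.t_not_mem (by simpa using mul_mem (inv_mem hxA) h')
        have h2 := hR _ (mul_mem hx L.t_mem_R) h1
        have h3 := hR t L.t_mem_R L.t_not_mem
        have : n * x * n⁻¹ = n * (x * t) * n⁻¹ * (n * t * n⁻¹) := by
          rw [show n * (x * t) * n⁻¹ * (n * t * n⁻¹) = n * (x * (t * t)) * n⁻¹ by group, Fr.t_inv,
            mul_one]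
        rw [this]
        exact mul_mem h2 h3
      · exact hR x hx hxA
    have hnN := L.mem_N_of_normalizes hconj hnc hall
    have := p.max (S ⊓ L.N) (hS.to_le inf_le_left) (le_inf hPS p.le_N) inf_le_right
    exact hnP (this ▸ ⟨hn, hnN⟩)
  obtain ⟨M, hMP, hcard, -, hMA⟩ := p.exists_M D hconj
  refine Count.false_of_index_two hG Fr.t_inv (Basics.index_mod_four_of_half hMP hcard hodd) ?_
  rw [mT, Nat.card_eq_zero]
  refine Or.inl ⟨fun x => ?_⟩
  exact hnc _ (hMA _ x.1.2 (p.conj_mem_R D hbig (hMP x.1.2) x.2)) x.2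

/-- Bottom level data. -/
theorem A_eq (h0 : ∀ a ∈ L.A, ∃ v, a = Fr.ι v) : L.A = Fr.U :=
  le_antisymm (fun a ha => by obtain ⟨v, rfl⟩ := h0 a ha; exact ⟨v, rfl⟩)
    (by rintro _ ⟨v, rfl⟩; exact L.ι_mem v)

theorem R_eq (h0 : ∀ a ∈ L.A, ∃ v, a = Fr.ι v) : L.R = Fr.base.R :=
  SetLike.ext fun x => by
    show (x ∈ L.A ∨ x * t ∈ L.A) ↔ (x ∈ Fr.U ∨ x * t ∈ Fr.U)
    rw [A_eq h0]

variable (hK : Nat.card K = 8) (h0 : ∀ a ∈ L.A, ∃ v, a = Fr.ι v)

include hK h0 in
theorem card_R8 : Nat.card L.R = 16 := by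
  rw [R_eq h0, Elem.card_E, hK]

include hK h0 in
theorem card_P : Nat.card p.P = 128 := by
  rw [p.card, card_R8 hK h0]

include D hK h0 in
theorem card_cen_dvd {x : G} (hx : IsConj t x) : Nat.card (p.cen x) ∣ 16 := by
  have := D.card_cent_inf hx p.pgroup
  rwa [hK] at this

include D hconj hK h0 in
theorem cen_R {x : G} (hx : x ∈ L.R) (hxA : x ∉ L.A) : p.cen x = L.R := by
  refine (Subgroup.eq_of_le_of_card_ge (fun y hy => p.mem_cen.2 ⟨p.R_le hy, ?_⟩) ?_).symm
  · have hx' : x ∈ Fr.base.R := R_eq h0 ▸ hx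
    have hy' : y ∈ Fr.base.R := R_eq h0 ▸ hy
    have h1 := Elem.E_sq (mul_mem hy' hx')
    calc y * x = (y * x)⁻¹ := (inv_eq_of_mul_eq_one_right h1).symm
      _ = x⁻¹ * y⁻¹ := _root_.mul_inv_rev y x
      _ = x * y := by
        rw [inv_eq_of_mul_eq_one_right (Elem.E_sq hx'), inv_eq_of_mul_eq_one_right (Elem.E_sq hy')]
  · rw [card_R8 hK h0]
    exact Nat.le_of_dvd (by norm_num) (p.card_cen_dvd D hK h0 (hconj x hx hxA))

/-- An element of `P` with a centraliser of order `16` outside `R`. -/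
def Ext (w : G) : Prop := w ∈ p.P ∧ IsConj t w ∧ w ∉ L.R ∧ Nat.card (p.cen w) = 16

include D in
theorem ext_sq {w a : G} (hw : p.Ext w) (ha : a ∈ p.cen w) : a * a = 1 :=
  D.sq_of_mem hw.2.1 p.pgroup (p.mem_cen.1 ha).1 (p.mem_cen.1 ha).2

include D in
theorem ext_comm {w a b : G} (hw : p.Ext w) (ha : a ∈ p.cen w) (hb : b ∈ p.cen w) :
    a * b = b * a :=
  D.comm_of_cent hw.2.1 p.pgroup (p.mem_cen.1 ha).1 (p.mem_cen.1 hb).1 (p.mem_cen.1 ha).2
    (p.mem_cen.1 hb).2

theorem self_mem {w : G} (hw : w ∈ p.P) : w ∈ p.cen w := p.mem_cen.2 ⟨hw, rfl⟩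

include D hconj hK h0 in
theorem ext_not_tU {w a : G} (hw : p.Ext w) (ha : a ∈ p.cen w) (haR : a ∈ L.R) : a ∈ L.A := by
  by_contra haA
  refine hw.2.2.1 ?_
  rw [← p.cen_R D hconj hK h0 haR haA]
  exact p.mem_cen.2 ⟨hw.1, (p.mem_cen.1 ha).2.symm⟩

open Classical in
include D hconj hK h0 in
/-- The fixed plane of an elementary group of order `16`. -/
theorem ext_plane {w : G} (hw : p.Ext w) :
    Fr.ι p.v ∈ p.cen w ∧ Fr.ι p.w ∈ p.cen w ∧
      ∀ x, Fr.ι x ∈ p.cen w → x = 0 ∨ x = p.v ∨ x = p.w ∨ x = p.w + p.v := by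
  haveI := Fintype.ofFinite G
  haveI := Fintype.ofFinite K
  set E' := p.cen w
  have hEP : ∀ a ∈ E', a ∈ p.P := fun a ha => (p.mem_cen.1 ha).1
  set X : Finset K := Finset.univ.filter fun x => Fr.ι x ∈ E' with hX
  have hfix : ∀ a ∈ E', ∀ x ∈ X, L.ρ a x = x := fun a ha x hx => by
    refine L.ρ_of_comm (p.le_N (hEP a ha)) ?_
    exact p.ext_comm D hw ha (Finset.mem_filter.1 hx).2
  -- a family of codes separating the cosets of `X` bounds the order
  have bound : ∀ {T : Type u_2} [DecidableEq T] (code : E' → T) (s : Finset T),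
      (∀ a, code a ∈ s) → (∀ a b : E', code a = code b → (b : G)⁻¹ * a ∈ L.R) →
      16 ≤ s.card * X.card := by
    intro T _ code s hs hcode
    have hc : Fintype.card E' = 16 := by rw [← Nat.card_eq_fintype_card]; exact hw.2.2.2
    rw [← hc, ← Finset.card_univ, mul_comm]
    refine (Finset.card_le_mul_card_image (f := code) Finset.univ X.card fun y _ => ?_).trans
      (Nat.mul_le_mul_left _ (Finset.card_le_card fun y hy => by
        obtain ⟨a, -, rfl⟩ := Finset.mem_image.1 hy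
        exact hs a))
    rcases (Finset.univ.filter fun a => code a = y).eq_empty_or_nonempty with he | ⟨b, hb⟩
    · rw [he]; simp
    refine (Finset.card_le_card (t := X.image fun x => if h : (b : G) * Fr.ι x ∈ E' then
      (⟨(b : G) * Fr.ι x, h⟩ : E') else b) fun a ha => ?_).trans Finset.card_image_le
    have h1 := hcode a b ((Finset.mem_filter.1 ha).2.trans (Finset.mem_filter.1 hb).2.symm)
    have h2 : (b : G)⁻¹ * a ∈ E' := mul_mem (inv_mem b.2) a.2
    obtain ⟨x, hx⟩ := h0 _ (p.ext_not_tU D hconj hK h0 hw h2 h1)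
    refine Finset.mem_image.2 ⟨x, Finset.mem_filter.2 ⟨Finset.mem_univ _, hx ▸ h2⟩, ?_⟩
    have e : (b : G) * Fr.ι x = a := by rw [← hx, mul_inv_cancel_left]
    rw [dif_pos (e.symm ▸ a.2)]
    exact Subtype.ext e
  -- inside the plane
  have hXW : ∀ x ∈ X, x = 0 ∨ x = p.v ∨ x = p.w ∨ x = p.w + p.v := by
    intro x hx
    by_contra hne
    simp only [not_or] at hne
    have h16 := bound (fun a => L.ρ (a : G) p.w) [p.w, p.w + p.v].toFinset
      (fun a => by simpa using p.act_w _ (hEP a a.2))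
      fun a b h => p.eq_of_two (hEP a a.2) (hEP b b.2) h hne
        (by rw [hfix a a.2 x hx, hfix b b.2 x hx])
    have h2 : [p.w, p.w + p.v].toFinset.card ≤ 2 := List.toFinset_card_le _
    have := Nat.mul_le_mul_right X.card h2
    have h8 : X = Finset.univ := Finset.eq_univ_of_card _ (le_antisymm (Finset.card_le_univ _)
      (by rw [← Nat.card_eq_fintype_card, hK]; omega))
    exact hw.2.2.1 (p.ker w hw.1 fun z =>
      hfix w (p.self_mem hw.1) z (h8 ▸ Finset.mem_univ z))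
  have hsub : X ⊆ {0, p.v, p.w, p.w + p.v} := fun x hx => by simpa using hXW x hx
  have hfour : ({0, p.v, p.w, p.w + p.v} : Finset K).card ≤ 4 := Finset.card_le_four
  -- all four
  have hX4 : X = {0, p.v, p.w, p.w + p.v} := by
    refine Finset.eq_of_subset_of_card_le hsub (hfour.trans ?_)
    by_contra hlt
    push Not at hlt
    -- at most six shapes
    have hnw : ∀ a : E', L.ρ (a : G) p.w ≠ p.w →
        L.ρ (a : G) p.x0 = p.x0 ∨ L.ρ (a : G) p.x0 = p.x0 + p.v := by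
      intro a ha
      have hN := p.le_N (hEP a a.2)
      have hw' := (p.act_w _ (hEP a a.2)).resolve_left ha
      have h1 : L.ρ ((a : G) * a) p.x0 = p.x0 := by
        rw [p.ext_sq D hw a.2, L.ρ_of_comm (one_mem _) (by simp)]
      rw [L.ρ_mul hN hN] at h1
      have hadd := L.ρ_add hN
      have hv := p.fix_v _ (hEP a a.2)
      have := p.v_ne
      rcases p.act _ (hEP a a.2) p.x0 with e | e | e | e <;>
        simp only [e, hadd, hv, hw'] at h1 ⊢ <;> grind [CharTwo.add_self_eq_zero]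
    have h16 := bound (fun a => (L.ρ (a : G) p.w, L.ρ (a : G) p.x0))
      [(p.w, p.x0), (p.w, p.x0 + p.v), (p.w, p.x0 + p.w), (p.w, p.x0 + (p.w + p.v)),
        (p.w + p.v, p.x0), (p.w + p.v, p.x0 + p.v)].toFinset
      (fun a => by
        simp only [List.mem_toFinset, List.mem_cons, Prod.mk.injEq, List.not_mem_nil, or_false]
        have h1 := p.act _ (hEP a a.2) p.x0
        by_cases h : L.ρ (a : G) p.w = p.w
        · tauto
        · have h2 := hnw a h
          have h3 := (p.act_w _ (hEP a a.2)).resolve_left h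
          tauto)
      fun a b h => p.eq_of_two (hEP a a.2) (hEP b b.2) (congrArg Prod.fst h) p.x0_not
        (congrArg Prod.snd h)
    have h6 := List.toFinset_card_le [(p.w, p.x0), (p.w, p.x0 + p.v), (p.w, p.x0 + p.w),
      (p.w, p.x0 + (p.w + p.v)), (p.w + p.v, p.x0), (p.w + p.v, p.x0 + p.v)]
    simp only [List.length_cons, List.length_nil] at h6
    have := Nat.mul_le_mul_right X.card h6
    have : X.card ≤ 3 := by omega
    by_cases h3 : X.card ≤ 2
    · omega
    -- a fixed pair spans the third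
    have hXc : X.card = 3 := by omega
    have hE : 16 = Nat.card E' := hw.2.2.2.symm
    let XS : AddSubgroup K :=
      { carrier := {x | Fr.ι x ∈ E'}
        zero_mem' := by show Fr.ι 0 ∈ E'; rw [Fr.ι_zero]; exact one_mem _
        add_mem' := fun {a b} ha hb => by show Fr.ι (a + b) ∈ E'; rw [Fr.ι_add]; exact mul_mem ha hb
        neg_mem' := fun {a} ha => by show Fr.ι (-a) ∈ E'; rwa [CharTwo.neg_eq] }
    have h2 := XS.card_addSubgroup_dvd_card
    rw [hK, show Nat.card XS = X.card by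
      rw [hX, ← Fintype.card_subtype, ← Nat.card_eq_fintype_card]; rfl, hXc] at h2
    norm_num at h2
  have hmem : ∀ z ∈ X, Fr.ι z ∈ E' := fun z hz => (Finset.mem_filter.1 hz).2
  refine ⟨hmem _ (by rw [hX4]; simp), hmem _ (by rw [hX4]; simp), fun x hx => ?_⟩
  exact hXW x (Finset.mem_filter.2 ⟨Finset.mem_univ _, hx⟩)

/-- The elements fixing the plane. -/
def PW : Subgroup G where
  carrier := {g | g ∈ p.P ∧ g * Fr.ι p.w = Fr.ι p.w * g}
  one_mem' := ⟨one_mem _, by simp⟩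
  mul_mem' := fun ha hb => ⟨mul_mem ha.1 hb.1, (Commute.mul_left ha.2 hb.2).eq⟩
  inv_mem' := fun ha => ⟨inv_mem ha.1, (Commute.inv_left ha.2).eq⟩

include D hconj hK h0 in
theorem cen_le_PW {w : G} (hw : p.Ext w) : p.cen w ≤ p.PW := fun _ ha =>
  ⟨(p.mem_cen.1 ha).1, p.ext_comm D hw ha (p.ext_plane D hconj hK h0 hw).2.1⟩

theorem R_le_PW : L.R ≤ p.PW := fun _ ha => ⟨p.R_le ha, (L.R_le_W ha).2.1 p.w⟩

include hK h0 in
theorem card_PW : Nat.card p.PW ≤ 64 := by
  classical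
  haveI := Fintype.ofFinite G
  let code : p.PW → Fin 4 := fun a =>
    if L.ρ (a : G) p.x0 = p.x0 then 0 else if L.ρ (a : G) p.x0 = p.x0 + p.v then 1
      else if L.ρ (a : G) p.x0 = p.x0 + p.w then 2 else 3
  have hcode : ∀ a b : p.PW, code a = code b → (b : G)⁻¹ * a ∈ L.R := by
    intro a b h
    refine p.eq_of_two a.2.1 b.2.1
      (by rw [L.ρ_of_comm (p.le_N a.2.1) a.2.2, L.ρ_of_comm (p.le_N b.2.1) b.2.2]) p.x0_not ?_
    have ha := p.act _ a.2.1 p.x0
    have hb := p.act _ b.2.1 p.x0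
    simp only [code] at h
    split_ifs at h <;> simp_all
  rw [Nat.card_eq_fintype_card, ← Finset.card_univ]
  refine (Finset.card_le_mul_card_image (f := code) Finset.univ 16 fun y _ => ?_).trans
    (le_trans (Nat.mul_le_mul_left _ (Finset.card_le_univ _)) (by simp))
  rcases (Finset.univ.filter fun a => code a = y).eq_empty_or_nonempty with he | ⟨b, hb⟩
  · rw [he]; simp
  refine (Finset.card_le_card (t := (Finset.univ : Finset L.R).image fun r : L.R =>
    (⟨(b : G) * r, mul_mem b.2 (p.R_le_PW r.2)⟩ : p.PW)) fun a ha => ?_).trans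
    (Finset.card_image_le.trans (by rw [Finset.card_univ, ← Nat.card_eq_fintype_card, card_R8 hK h0]))
  exact Finset.mem_image.2 ⟨⟨_, hcode a b ((Finset.mem_filter.1 ha).2.trans
    (Finset.mem_filter.1 hb).2.symm)⟩, Finset.mem_univ _, Subtype.ext (mul_inv_cancel_left _ _)⟩

include D hconj hK h0 in
/-- `P_W` is the product of `E` and any extremal group. -/
theorem PW_prod {w : G} (hw : p.Ext w) {x : G} (hx : x ∈ p.PW) :
    ∃ e ∈ L.R, ∃ e' ∈ p.cen w, e * e' = x := by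
  classical
  haveI := Fintype.ofFinite G
  let f : L.R × p.cen w → p.PW := fun q =>
    ⟨(q.1 : G) * q.2, mul_mem (p.R_le_PW q.1.2) (p.cen_le_PW D hconj hK h0 hw q.2.2)⟩
  suffices hs : Function.Surjective f by
    obtain ⟨⟨e, e'⟩, h⟩ := hs ⟨x, hx⟩
    exact ⟨e, e.2, e', e'.2, congrArg Subtype.val h⟩
  have hfib : ∀ y, (Finset.univ.filter fun q => f q = y).card ≤ 4 := by
    intro y
    rcases (Finset.univ.filter fun q => f q = y).eq_empty_or_nonempty with he | ⟨b, hb⟩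
    · rw [he]; simp
    obtain ⟨-, hpw, hpl⟩ := p.ext_plane D hconj hK h0 hw
    set W : Finset K := {0, p.v, p.w, p.w + p.v}
    refine (Finset.card_le_card (t := W.image fun z =>
      if h : Fr.ι z ∈ p.cen w then
        ((b.1 * ⟨Fr.ι z, L.A_le_R (L.ι_mem z)⟩, (⟨Fr.ι z, h⟩⁻¹ : p.cen w) * b.2) :
          L.R × p.cen w) else b) fun q hq => ?_).trans
      (Finset.card_image_le.trans Finset.card_le_four)
    have heq : (q.1 : G) * q.2 = b.1 * b.2 :=
      congrArg Subtype.val ((Finset.mem_filter.1 hq).2.trans (Finset.mem_filter.1 hb).2.symm)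
    have h1 : (b.1 : G)⁻¹ * q.1 = b.2 * (q.2 : G)⁻¹ := by
      rw [eq_mul_inv_iff_mul_eq, mul_assoc, heq, inv_mul_cancel_left]
    have h2 : (b.1 : G)⁻¹ * q.1 ∈ p.cen w := h1 ▸ mul_mem b.2.2 (inv_mem q.2.2)
    obtain ⟨z, hz⟩ := h0 _ (p.ext_not_tU D hconj hK h0 hw h2 (mul_mem (inv_mem b.1.2) q.1.2))
    refine Finset.mem_image.2 ⟨z, by simpa [W] using hpl z (hz ▸ h2), ?_⟩
    rw [dif_pos (hz ▸ h2)]
    refine Prod.ext (Subtype.ext ?_) (Subtype.ext ?_)
    · show (b.1 : G) * Fr.ι z = q.1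
      rw [← hz, mul_inv_cancel_left]
    · show (Fr.ι z)⁻¹ * (b.2 : G) = q.2
      rw [← hz, h1]
      group
  have h256 := Finset.card_le_mul_card_image (f := f) Finset.univ 4 fun y _ => hfib y
  rw [Finset.card_univ, Fintype.card_prod, ← Nat.card_eq_fintype_card, ← Nat.card_eq_fintype_card,
    card_R8 hK h0, hw.2.2.2] at h256
  have himg : Finset.univ.image f = Finset.univ := by
    refine Finset.eq_univ_of_card _ (le_antisymm (Finset.card_le_univ _) ?_)
    have := p.card_PW hK h0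
    rw [Nat.card_eq_fintype_card] at this
    omega
  intro y
  obtain ⟨q, -, hq⟩ := Finset.mem_image.1 (himg ▸ Finset.mem_univ y)
  exact ⟨q, hq⟩

include D hconj hK h0 in
theorem involution_PW {w : G} (hw : p.Ext w) {x : G} (hx : x ∈ p.PW) (hxx : x * x = 1) :
    x ∈ L.R ∨ x ∈ p.cen w := by
  obtain ⟨e, he, e', he', rfl⟩ := p.PW_prod D hconj hK h0 hw hx
  have hE : e * e = 1 := Elem.E_sq (R_eq h0 ▸ he : e ∈ Fr.base.R)
  have hcomm : e' * e = e * e' := by
    calc e' * e = e⁻¹ * (e * e' * (e * e')) * e'⁻¹ := by group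
      _ = e⁻¹ * e'⁻¹ := by rw [hxx, mul_one]
      _ = e * e' := by
        rw [inv_eq_of_mul_eq_one_right hE, inv_eq_of_mul_eq_one_right (p.ext_sq D hw he')]
  by_cases heA : e ∈ L.A
  · obtain ⟨z, rfl⟩ := h0 e heA
    by_cases hz : z = 0 ∨ z = p.v ∨ z = p.w ∨ z = p.w + p.v
    · obtain ⟨hv, hw', -⟩ := p.ext_plane D hconj hK h0 hw
      refine Or.inr (mul_mem ?_ he')
      rcases hz with rfl | rfl | rfl | rfl
      · rw [Fr.ι_zero]; exact one_mem _
      · exact hv
      · exact hw'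
      · rw [Fr.ι_add]; exact mul_mem hw' hv
    · simp only [not_or] at hz
      have hP := (p.mem_cen.1 he').1
      have h1 : (1 : G)⁻¹ * e' ∈ L.R := p.eq_of_two hP (one_mem _)
        (by rw [L.ρ_of_comm (p.le_N hP) (p.cen_le_PW D hconj hK h0 hw he').2,
          L.ρ_of_comm (one_mem _) (by simp)]) hz
        (by rw [L.ρ_of_comm (p.le_N hP) hcomm, L.ρ_of_comm (one_mem _) (by simp)])
      rw [inv_one, one_mul] at h1
      exact Or.inl (mul_mem he h1)
  · refine Or.inl (mul_mem he ?_)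
    rw [← p.cen_R D hconj hK h0 he heA]
    exact p.mem_cen.2 ⟨(p.mem_cen.1 he').1, hcomm⟩

include D hconj hK h0 in
/-- There is only one extremal group. -/
theorem ext_unique {w w' : G} (hw : p.Ext w) (hw' : p.Ext w') : p.cen w' = p.cen w := by
  have hmem : ∀ a ∈ p.cen w', a ∈ L.R ∨ a ∈ p.cen w := fun a ha =>
    p.involution_PW D hconj hK h0 hw (p.cen_le_PW D hconj hK h0 hw' ha) (p.ext_sq D hw' ha)
  have hle : p.cen w' ≤ p.cen w := by
    intro a ha
    by_contra hne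
    have haR := (hmem a ha).resolve_right hne
    have hwR : w' ∈ p.cen w := (hmem w' (p.self_mem hw'.1)).resolve_left hw'.2.2.1
    rcases hmem _ (mul_mem ha (p.self_mem hw'.1)) with h | h
    · exact hw'.2.2.1 (by simpa using mul_mem (inv_mem haR) h)
    · exact hne (by simpa using mul_mem h (inv_mem hwR))
  exact Subgroup.eq_of_le_of_card_ge hle (by rw [hw.2.2.2, hw'.2.2.2])

theorem dvd_eight {n : ℕ} (h : n ∣ 16) (hne : n ≠ 16) : n ∣ 8 := by
  have h1 : n ∈ Nat.divisors 16 := Nat.mem_divisors.2 ⟨h, by norm_num⟩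
  have key : ∀ m ∈ Nat.divisors 16, m ≠ 16 → m ∣ 8 := by decide
  exact key n h1 hne

theorem conj_cen {n : G} (hn : ∀ y ∈ p.P, n * y * n⁻¹ ∈ p.P) (x : G) :
    p.cen (n * x * n⁻¹) = (p.cen x).map (MulAut.conj n).toMonoidHom := by
  ext y
  constructor
  · intro hy
    obtain ⟨hy1, hy2⟩ := p.mem_cen.1 hy
    refine ⟨n⁻¹ * y * n, p.mem_cen.2 ⟨?_, ?_⟩, by simp [mul_assoc]⟩
    · exact conj_mem_of_forall hn hy1
    · calc n⁻¹ * y * n * x = n⁻¹ * (y * (n * x * n⁻¹)) * n := by group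
        _ = n⁻¹ * (n * x * n⁻¹ * y) * n := by rw [hy2]
        _ = _ := by group
  · rintro ⟨z, hz, rfl⟩
    obtain ⟨hz1, hz2⟩ := p.mem_cen.1 hz
    refine p.mem_cen.2 ⟨hn z hz1, ?_⟩
    show n * z * n⁻¹ * (n * x * n⁻¹) = n * x * n⁻¹ * (n * z * n⁻¹)
    calc n * z * n⁻¹ * (n * x * n⁻¹) = n * (z * x) * n⁻¹ := by group
      _ = n * (x * z) * n⁻¹ := by rw [hz2]
      _ = _ := by group

include D hconj hnc hK h0 in
/-- An element normalising `P` fixes `E` or moves it to the extremal group. -/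
theorem image_E {n : G} (hn : ∀ y ∈ p.P, n * y * n⁻¹ ∈ p.P) :
    (∀ y ∈ L.R, n * y * n⁻¹ ∈ L.R) ∨
      (p.Ext (n * t * n⁻¹) ∧ L.R.map (MulAut.conj n).toMonoidHom = p.cen (n * t * n⁻¹)) := by
  have ht : p.cen t = L.R := p.cen_R D hconj hK h0 L.t_mem_R L.t_not_mem
  have hw : IsConj t (n * t * n⁻¹) := isConj_iff.2 ⟨n, rfl⟩
  have hmap := p.conj_cen hn t
  rw [ht] at hmap
  by_cases h : n * t * n⁻¹ ∈ L.R
  · left
    intro y hy
    have hA : n * t * n⁻¹ ∉ L.A := fun hA => hnc _ hA hw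
    rw [← p.cen_R D hconj hK h0 h hA, hmap]
    exact ⟨y, hy, rfl⟩
  · refine Or.inr ⟨⟨hn _ p.t_mem, hw, h, ?_⟩, hmap.symm⟩
    rw [hmap, Subgroup.card_map_of_injective (MulAut.conj n).injective, card_R8 hK h0]

set_option maxHeartbeats 4000000 in
include p D hconj hnc hK h0 in
theorem false_of_small [IsSimpleGroup G] (hG : ¬ IsMulCommutative G) : False := by
  classical
  haveI : Fact (Nat.Prime 2) := ⟨Nat.prime_two⟩
  haveI := Fintype.ofFinite G
  obtain ⟨o, ho, hC⟩ := D.card_cent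
  rw [hK] at hC
  by_cases hext : ∃ w, p.Ext w
  swap
  · push Not at hext
    have hodd : p.P.index % 2 = 1 := by
      by_contra h
      obtain ⟨S, n, hS, hPS, hn, hnP, hnorm⟩ := Basics.exists_normalizing p.pgroup (by omega)
      rcases p.image_E D hconj hnc hK h0 hnorm with h1 | ⟨h1, -⟩
      · have hnN := L.mem_N_of_normalizes hconj hnc h1
        have := p.max (S ⊓ L.N) (hS.to_le inf_le_left) (le_inf hPS p.le_N) inf_le_right
        exact hnP (this ▸ ⟨hn, hnN⟩)
      · exact hext _ h1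
    obtain ⟨M, hMP, hcard, hMn, hMA⟩ := p.exists_M D hconj
    have hidx := Basics.index_mod_four_of_half hMP hcard hodd
    have h16 : 16 ∣ Nat.card {x : G // IsConj t x ∧ x ∈ M} := by
      refine Basics.dvd_card_conj_classes (S := p.P) (b := 8) (by rw [p.card_P hK h0]) (by norm_num)
        (· ∈ M) (fun s hs x hx => hMn s hs x hx) fun x hx hxM => ?_
      refine dvd_eight (p.card_cen_dvd D hK h0 hx) fun h16 => ?_
      exact hext x ⟨hMP hxM, hx, fun hR => hnc _ (hMA x hxM hR) hx, h16⟩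
    have hm : mT t M = Nat.card {x : G // IsConj t x ∧ x ∈ M} := Nat.card_congr
      { toFun := fun x => ⟨x.1, x.2, x.1.2⟩
        invFun := fun x => ⟨⟨x.1, x.2.2⟩, x.2.1⟩
        left_inv := fun _ => rfl
        right_inv := fun _ => rfl }
    obtain ⟨k, hk⟩ := h16
    have hfix := Count.fix_mul t M
    rw [hm, hk, hC] at hfix
    have hM64 : Nat.card M = 64 := by
      have := p.card_P hK h0
      omega
    rw [hM64] at hfix
    have h4 := Count.index_mod_four hG Fr.t_inv M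
    have : fixCard t M = 4 * (o * k) := by linarith
    omega
  obtain ⟨w0, hw0⟩ := hext
  set E' := p.cen w0 with hE'
  have huniq : ∀ w, p.Ext w → p.cen w = E' := fun w hw => p.ext_unique D hconj hK h0 hw0 hw
  have hEmap : ∀ n, (∀ y ∈ p.P, n * y * n⁻¹ ∈ p.P) →
      (∀ y ∈ L.R, n * y * n⁻¹ ∈ L.R) ∨ L.R.map (MulAut.conj n).toMonoidHom = E' := fun n hn =>
    (p.image_E D hconj hnc hK h0 hn).imp id fun h => h.2.trans (huniq _ h.1)
  have hPnorm : ∀ s ∈ p.P, ∀ y ∈ p.P, s * y * s⁻¹ ∈ p.P := fun s hs y hy =>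
    mul_mem (mul_mem hs hy) (inv_mem hs)
  have hRnorm : ∀ s ∈ p.P, ∀ y ∈ L.R, s * y * s⁻¹ ∈ L.R := fun s hs y hy =>
    L.conj_mem_R (p.le_N hs) hy
  have hwE : w0 ∈ E' := p.self_mem hw0.1
  have hE'P : ∀ n, (∀ y ∈ p.P, n * y * n⁻¹ ∈ p.P) → (∀ y ∈ L.R, n * y * n⁻¹ ∈ L.R) →
      ∀ y ∈ E', n * y * n⁻¹ ∈ E' := by
    intro n hn hnR y hy
    have hext' : p.Ext (n * w0 * n⁻¹) := by
      refine ⟨hn _ hw0.1, hw0.2.1.trans (isConj_iff.2 ⟨n, rfl⟩), fun h => hw0.2.2.1 ?_, ?_⟩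
      · have := conj_mem_of_forall hnR h
        rwa [show n⁻¹ * (n * w0 * n⁻¹) * n = w0 by group] at this
      · rw [p.conj_cen hn, Subgroup.card_map_of_injective (MulAut.conj n).injective, hw0.2.2.2]
    rw [← huniq _ hext', p.conj_cen hn]
    exact ⟨y, hy, rfl⟩
  -- `P` is not a Sylow subgroup
  have heven : p.P.index % 2 = 0 := by
    by_contra hodd
    obtain ⟨h, -, hhE⟩ := D.conj_E hw0.2.1 (p.pgroup.to_le inf_le_left)
      (fun a ha => (p.mem_cen.1 ha).2) (by rw [hK]; exact hw0.2.2.2)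
    rw [← R_eq h0] at hhE
    replace hhE : L.R.map (MulAut.conj h).toMonoidHom = E' := hhE
    have hsyl : ¬ 2 ∣ p.P.index := by omega
    set PS : Sylow 2 G := p.pgroup.toSylow hsyl
    set NE := Subgroup.normalizer ((E' : Subgroup G) : Set G)
    have h1 : p.P ≤ NE := fun s hs => Subgroup.mem_normalizer_iff.2 fun y =>
      ⟨hE'P s (hPnorm s hs) (hRnorm s hs) y, fun hy => by
        simpa [mul_assoc] using hE'P s⁻¹ (hPnorm _ (inv_mem hs)) (hRnorm _ (inv_mem hs)) _ hy⟩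
    have h2 : p.P.map (MulAut.conj h).toMonoidHom ≤ NE := by
      rintro _ ⟨s, hs, rfl⟩
      refine Subgroup.mem_normalizer_iff.2 fun y => ?_
      have hmem : ∀ s ∈ p.P, ∀ y ∈ E', h * s * h⁻¹ * y * (h * s * h⁻¹)⁻¹ ∈ E' := by
        intro s hs y hy
        rw [← hhE] at hy ⊢
        obtain ⟨z, hz, rfl⟩ := hy
        exact ⟨s * z * s⁻¹, hRnorm s hs z hz, by simp [mul_assoc]⟩
      refine ⟨hmem s hs y, fun hy => ?_⟩
      have := hmem s⁻¹ (inv_mem hs) _ hy
      simpa [mul_assoc] using this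
    obtain ⟨k, hk⟩ := MulAction.exists_smul_eq NE ((h • PS).subtype (by
      rw [Sylow.coe_subgroup_smul]; exact h2)) (PS.subtype h1)
    set n := (k : G) * h
    have hnP : ∀ y ∈ p.P, n * y * n⁻¹ ∈ p.P := by
      intro y hy
      have hm : (⟨h * y * h⁻¹, h2 ⟨y, hy, rfl⟩⟩ : NE) ∈
          (((h • PS).subtype (by rw [Sylow.coe_subgroup_smul]; exact h2) : Sylow 2 NE) : Subgroup NE) := by
        rw [Sylow.coe_subtype, Subgroup.mem_subgroupOf, Sylow.coe_subgroup_smul]
        exact ⟨y, hy, rfl⟩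
      have hm2 := Subgroup.smul_mem_pointwise_smul _ (MulAut.conj k) _ hm
      have hm3 : MulAut.conj k • (⟨h * y * h⁻¹, h2 ⟨y, hy, rfl⟩⟩ : NE) ∈
          ((k • ((h • PS).subtype (by rw [Sylow.coe_subgroup_smul]; exact h2) : Sylow 2 NE) :
            Sylow 2 NE) : Subgroup NE) := by
        rw [Sylow.coe_subgroup_smul]
        exact hm2
      rw [hk] at hm3
      rw [show n * y * n⁻¹ = (k : G) * (h * y * h⁻¹) * (k : G)⁻¹ by simp only [n]; group]
      exact hm3
    have hnE : L.R.map (MulAut.conj n).toMonoidHom = E' := by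
      refine SetLike.ext fun y => ⟨?_, fun hy => ?_⟩
      · rintro ⟨z, hz, rfl⟩
        have hz' : h * z * h⁻¹ ∈ E' := hhE ▸ ⟨z, hz, rfl⟩
        rw [show (MulAut.conj n).toMonoidHom z = (k : G) * (h * z * h⁻¹) * (k : G)⁻¹ by
          simp [n, mul_assoc]]
        exact (Subgroup.mem_normalizer_iff.1 k.2 _).1 hz'
      · have hy' := (Subgroup.mem_normalizer_iff''.1 k.2 y).1 hy
        rw [← hhE] at hy'
        obtain ⟨z, hz, hzy⟩ := hy'
        refine ⟨z, hz, ?_⟩
        have hzy' : h * z * h⁻¹ = (k : G)⁻¹ * y * (k : G) := hzy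
        show n * z * n⁻¹ = y
        rw [show n * z * n⁻¹ = (k : G) * (h * z * h⁻¹) * (k : G)⁻¹ by simp only [n]; group, hzy']
        group
    -- powers of `n` normalise `P` and permute the two groups
    have hpowP : ∀ i : ℕ, ∀ y ∈ p.P, n ^ i * y * (n ^ i)⁻¹ ∈ p.P := by
      intro i
      induction i with
      | zero => intro y hy; simpa using hy
      | succ i ih =>
        intro y hy
        rw [show n ^ (i + 1) * y * (n ^ (i + 1))⁻¹ = n * (n ^ i * y * (n ^ i)⁻¹) * n⁻¹ by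
          rw [pow_succ']; group]
        exact hnP _ (ih y hy)
    have hback : ∀ y ∈ E', n * y * n⁻¹ ∈ L.R := by
      intro y hy
      rw [← hnE] at hy
      obtain ⟨z, hz, rfl⟩ := hy
      rcases hEmap (n ^ 2) (hpowP 2) with h' | h'
      · simpa [pow_two, mul_assoc] using h' z hz
      · exfalso
        have hE2 : L.R.map (MulAut.conj (n ^ 2)).toMonoidHom =
            (L.R.map (MulAut.conj n).toMonoidHom).map (MulAut.conj n).toMonoidHom := by
          rw [Subgroup.map_map]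
          congr 1
          ext u
          simp [pow_two, mul_assoc]
        rw [h', hnE] at hE2
        -- `n` would fix `E'`
        have hfix : L.R = E' := by
          refine Subgroup.map_injective (f := (MulAut.conj n).toMonoidHom) (MulAut.conj n).injective ?_
          rw [hnE]; exact hE2
        exact hw0.2.2.1 (hfix ▸ hwE)
    have hfwd : ∀ y ∈ L.R, n * y * n⁻¹ ∈ E' := fun y hy => hnE ▸ ⟨y, hy, rfl⟩
    have hpar : ∀ i : ℕ, (∀ y ∈ L.R, n ^ (2 * i) * y * (n ^ (2 * i))⁻¹ ∈ L.R) ∧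
        ∀ y ∈ L.R, n ^ (2 * i + 1) * y * (n ^ (2 * i + 1))⁻¹ ∈ E' := by
      intro i
      induction i with
      | zero => exact ⟨fun y hy => by simpa using hy, fun y hy => by simpa using hfwd y hy⟩
      | succ i ih =>
        have e : ∀ y ∈ L.R, n ^ (2 * (i + 1)) * y * (n ^ (2 * (i + 1)))⁻¹ ∈ L.R := fun y hy => by
          rw [show n ^ (2 * (i + 1)) * y * (n ^ (2 * (i + 1)))⁻¹ =
            n * (n ^ (2 * i + 1) * y * (n ^ (2 * i + 1))⁻¹) * n⁻¹ by
              rw [show 2 * (i + 1) = (2 * i + 1) + 1 by ring, pow_succ' n (2 * i + 1)]; group]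
          exact hback _ (ih.2 y hy)
        refine ⟨e, fun y hy => ?_⟩
        rw [show n ^ (2 * (i + 1) + 1) * y * (n ^ (2 * (i + 1) + 1))⁻¹ =
          n * (n ^ (2 * (i + 1)) * y * (n ^ (2 * (i + 1)))⁻¹) * n⁻¹ by
            rw [pow_succ']; group]
        exact hfwd _ (e y hy)
    set m := orderOf n / 2 ^ (orderOf n).factorization 2
    obtain ⟨i, hi⟩ : Odd m := Nat.odd_iff.2 (Nat.two_dvd_ne_zero.1
      (Nat.not_dvd_ordCompl Nat.prime_two (orderOf_pos n).ne'))
    have hQ : IsPGroup 2 (Subgroup.zpowers (n ^ m)) := by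
      refine IsPGroup.of_card (n := (orderOf n).factorization 2) ?_
      have hom : 2 ^ (orderOf n).factorization 2 * m = orderOf n := Nat.ordProj_mul_ordCompl_eq_self _ 2
      rw [Nat.card_zpowers, orderOf_pow' _ (by omega)]
      generalize (orderOf n).factorization 2 = k2 at hom ⊢
      rw [← hom,
        Nat.gcd_eq_right (Dvd.intro_left _ rfl), Nat.mul_div_cancel _ (by omega)]
    have hsup : IsPGroup 2 ↥(p.P ⊔ Subgroup.zpowers (n ^ m)) := by
      refine p.pgroup.to_sup_of_normal_left' hQ ?_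
      rw [Subgroup.zpowers_le, Subgroup.mem_normalizer_iff]
      exact fun y => ⟨hpowP m y, fun hy => by
        simpa [mul_assoc] using conj_mem_of_forall (hpowP m) hy⟩
    have hnm : n ^ m ∈ p.P := by
      have h3 : p.P ⊔ Subgroup.zpowers (n ^ m) = p.P := PS.is_maximal' hsup le_sup_left
      rw [← h3]
      exact Subgroup.mem_sup_right (Subgroup.mem_zpowers _)
    have hsub : E' ≤ L.R := by
      intro y hy
      rw [← hnE] at hy
      obtain ⟨z, hz, rfl⟩ := hy
      have hmR : L.R.map (MulAut.conj (n ^ m)).toMonoidHom = L.R := by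
        refine Subgroup.eq_of_le_of_card_ge ?_ (by
          rw [Subgroup.card_map_of_injective (MulAut.conj (n ^ m)).injective])
        rintro _ ⟨u, hu, rfl⟩
        exact hRnorm _ hnm u hu
      have hle : L.R.map (MulAut.conj (n ^ m)).toMonoidHom ≤ E' := by
        rintro _ ⟨u, hu, rfl⟩
        rw [hi]
        exact (hpar i).2 u hu
      rw [hmR] at hle
      have := Subgroup.eq_of_le_of_card_ge hle (by rw [card_R8 hK h0, hE', hw0.2.2.2])
      exact this.symm ▸ hfwd z hz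
    exact hw0.2.2.1 (hsub hwE)
  -- a Sylow subgroup swaps the two groups
  obtain ⟨S, n, hS, hPS, hn, hnP, hnorm⟩ := Basics.exists_normalizing p.pgroup heven
  have hnotR : ∀ s ∈ S, (∀ y ∈ L.R, s * y * s⁻¹ ∈ L.R) → s ∈ p.P := by
    intro s hs h1
    have := p.max (S ⊓ L.N) (hS.to_le inf_le_left) (le_inf hPS p.le_N) inf_le_right
    exact this ▸ ⟨hs, L.mem_N_of_normalizes hconj hnc h1⟩
  have hnE : L.R.map (MulAut.conj n).toMonoidHom = E' :=
    (hEmap n hnorm).resolve_left fun h => hnP (hnotR n hn h)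
  have hcov : ∀ s ∈ S, (∀ y ∈ p.P, s * y * s⁻¹ ∈ p.P) → s ∈ p.P ∨ n⁻¹ * s ∈ p.P := by
    intro s hs hsP
    rcases hEmap s hsP with h | h
    · exact Or.inl (hnotR s hs h)
    · refine Or.inr (hnotR _ (mul_mem (inv_mem hn) hs) fun y hy => ?_)
      have : s * y * s⁻¹ ∈ L.R.map (MulAut.conj n).toMonoidHom := by
        rw [hnE, ← h]; exact ⟨y, hy, rfl⟩
      obtain ⟨z, hz, hzy⟩ := this
      have hzy' : n * z * n⁻¹ = s * y * s⁻¹ := hzy
      rw [show n⁻¹ * s * y * (n⁻¹ * s)⁻¹ = n⁻¹ * (s * y * s⁻¹) * n by group, ← hzy']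
      simpa [mul_assoc] using hz
  -- the common part
  obtain ⟨hv, hw', hpl⟩ := p.ext_plane D hconj hK h0 hw0
  let Wg : Subgroup G := L.R ⊓ E'
  have hWg : Nat.card Wg ≤ 4 := by
    haveI := Fintype.ofFinite Wg
    rw [Nat.card_eq_fintype_card, ← Finset.card_univ]
    refine le_trans (Finset.card_le_card (t := ({0, p.v, p.w, p.w + p.v} : Finset K).image fun z =>
      if h : Fr.ι z ∈ Wg then (⟨Fr.ι z, h⟩ : Wg) else 1) fun a _ => ?_)
      (Finset.card_image_le.trans Finset.card_le_four)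
    obtain ⟨z, hz⟩ := h0 _ (p.ext_not_tU D hconj hK h0 hw0 a.2.2 a.2.1)
    refine Finset.mem_image.2 ⟨z, by simpa using hpl z (hz ▸ a.2.2), ?_⟩
    rw [dif_pos (hz ▸ a.2)]
    exact Subtype.ext hz.symm
  -- commuting with an element moving `E`
  have small : ∀ y, (∀ u ∈ p.P, y * u * y⁻¹ ∈ p.P) → L.R.map (MulAut.conj y).toMonoidHom = E' →
      ∀ C : Subgroup G, C ≤ p.P → (∀ a ∈ C, a * a = 1) → (∀ a ∈ C, a * y = y * a) →
      (∀ a ∈ C, ∀ b ∈ C, a * b = b * a) → IsPGroup 2 C → Nat.card C ∣ 4 := by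
    intro y hy hyE C hCP hsq hcy hcomm hCp
    have hint : ∀ a ∈ C, a ∈ p.PW → a ∈ Wg := by
      intro a ha hPW
      have hfix : y * a * y⁻¹ = a := by rw [← hcy a ha, mul_inv_cancel_right]
      rcases p.involution_PW D hconj hK h0 hw0 hPW (hsq a ha) with h | h
      · exact ⟨h, by rw [← hfix, ← hyE]; exact ⟨a, h, rfl⟩⟩
      · refine ⟨?_, h⟩
        replace h : a ∈ L.R.map (MulAut.conj y).toMonoidHom := by rw [hyE]; exact h
        obtain ⟨z, hz, hza⟩ := h
        have hza' : y * z * y⁻¹ = a := hza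
        rw [← hfix] at hza'
        rwa [mul_left_cancel (mul_right_cancel hza')] at hz
    obtain ⟨k, hk⟩ := IsPGroup.iff_card.1 hCp
    suffices hle : Nat.card C < 8 by
      rw [hk] at hle ⊢
      have hk3 : k < 3 := by
        by_contra hge
        have := Nat.pow_le_pow_right two_pos (show 3 ≤ k by omega)
        omega
      interval_cases k <;> norm_num
    by_cases hall : ∀ a ∈ C, a ∈ p.PW
    · have := Subgroup.card_le_of_le (fun a ha => hint a ha (hall a ha) : C ≤ Wg)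
      omega
    push Not at hall
    obtain ⟨c, hc, hcPW⟩ := hall
    -- the part inside `P_W` misses something of the plane
    have hI : ∀ a ∈ C ⊓ p.PW, a ∈ Wg := fun a ha => hint a ha.1 ha.2
    have hIlt : Nat.card ↥(C ⊓ p.PW) < 4 := by
      by_contra hge
      push Not at hge
      have heq := Subgroup.eq_of_le_of_card_ge (hI : C ⊓ p.PW ≤ Wg) (hWg.trans hge)
      have hwWg : Fr.ι p.w ∈ Wg := ⟨L.A_le_R (L.ι_mem _), hw'⟩
      rw [← heq] at hwWg
      exact hcPW ⟨hCP hc, hcomm c hc _ hwWg.1⟩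
    -- and has index at most two
    haveI := Fintype.ofFinite C
    haveI := Fintype.ofFinite ↥(C ⊓ p.PW)
    rw [Nat.card_eq_fintype_card] at hIlt ⊢
    have key : ∀ a ∈ C, a ∈ p.PW ∨ c⁻¹ * a ∈ p.PW := by
      intro a ha
      by_cases h : a ∈ p.PW
      · exact Or.inl h
      right
      refine ⟨mul_mem (inv_mem (hCP hc)) (hCP ha), L.comm_of_ρ
        (p.le_N (mul_mem (inv_mem (hCP hc)) (hCP ha))) ?_⟩
      have hmv : ∀ b ∈ C, b ∉ p.PW → L.ρ b p.w = p.w + p.v := fun b hb hbn =>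
        (p.act_w b (hCP hb)).resolve_left fun e => hbn ⟨hCP hb, L.comm_of_ρ (p.le_N (hCP hb)) e⟩
      rw [inv_eq_of_mul_eq_one_right (hsq c hc), L.ρ_mul (p.le_N (hCP hc)) (p.le_N (hCP ha)),
        hmv a ha h, L.ρ_add (p.le_N (hCP hc)), hmv c hc hcPW, p.fix_v c (hCP hc), add_assoc,
        CharTwo.add_self_eq_zero, add_zero]
    have : Fintype.card C ≤ Fintype.card (Bool × ↥(C ⊓ p.PW)) := by
      refine Fintype.card_le_of_surjective (fun q : Bool × ↥(C ⊓ p.PW) =>
        (⟨(if q.1 then c else 1) * (q.2 : G), mul_mem (by split_ifs; exacts [hc, one_mem _])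
          q.2.2.1⟩ : C)) fun a => ?_
      rcases key a a.2 with h | h
      · exact ⟨(false, ⟨a, a.2, h⟩), Subtype.ext (by simp)⟩
      · exact ⟨(true, ⟨c⁻¹ * a, C.mul_mem (C.inv_mem hc) a.2, h⟩), Subtype.ext (by simp)⟩
    rw [Fintype.card_prod, Fintype.card_bool] at this
    omega
  set S1 := S ⊓ Subgroup.normalizer (p.P : Set G) with hS1
  have hS1norm : ∀ s ∈ S1, ∀ y ∈ p.P, s * y * s⁻¹ ∈ p.P := fun s hs y hy =>
    (Subgroup.mem_normalizer_iff.1 hs.2 y).1 hy
  have hPS1 : p.P ≤ S1 := fun s hs => ⟨hPS hs, Subgroup.mem_normalizer_iff.2 fun y =>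
    ⟨hPnorm s hs y, fun hy => by
      simpa [mul_assoc] using hPnorm s⁻¹ (inv_mem hs) _ hy⟩⟩
  have hnS1 : n ∈ S1 := ⟨hn, Subgroup.mem_normalizer_iff.2 fun y =>
    ⟨hnorm y, fun hy => by simpa [mul_assoc] using conj_mem_of_forall hnorm hy⟩⟩
  have hS1p : IsPGroup 2 S1 := hS.to_le inf_le_left
  have houtE : ∀ s ∈ S1, s ∉ p.P → L.R.map (MulAut.conj s).toMonoidHom = E' := fun s hs hsP =>
    (hEmap s (hS1norm s hs)).resolve_left fun h => hsP (hnotR s hs.1 h)
  -- centralisers in `S₁`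
  have hcS : ∀ x ∈ S1, IsConj t x → x ∉ L.R → x ∉ E' →
      Nat.card ↥(S1 ⊓ Subgroup.centralizer ({x} : Set G)) ∣ 8 := by
    intro x hx hc hxR hxE
    set C := S1 ⊓ Subgroup.centralizer ({x} : Set G) with hCdef
    have hC16 : Nat.card C ∣ 16 := by
      have := D.card_cent_inf hc hS1p
      rwa [hK] at this
    refine dvd_eight hC16 fun h16 => ?_
    have hCsq : ∀ a ∈ C, a * a = 1 := fun a ha =>
      D.sq_of_mem hc hS1p ha.1 (Subgroup.mem_centralizer_singleton_iff.1 ha.2)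
    have hCcomm : ∀ a ∈ C, ∀ b ∈ C, a * b = b * a := fun a ha b hb =>
      D.comm_of_cent hc hS1p ha.1 hb.1 (Subgroup.mem_centralizer_singleton_iff.1 ha.2)
        (Subgroup.mem_centralizer_singleton_iff.1 hb.2)
    by_cases hCP : ∀ a ∈ C, a ∈ p.P
    · have hxP : x ∈ p.P := hCP x ⟨hx, Subgroup.mem_centralizer_singleton_iff.2 rfl⟩
      have hce : p.cen x = C := le_antisymm (fun a ha => ⟨hPS1 (p.mem_cen.1 ha).1,
        Subgroup.mem_centralizer_singleton_iff.2 (p.mem_cen.1 ha).2⟩)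
        (fun a ha => p.mem_cen.2 ⟨hCP a ha, Subgroup.mem_centralizer_singleton_iff.1 ha.2⟩)
      refine hxE ?_
      rw [← huniq x ⟨hxP, hc, hxR, by rw [hce]; exact h16⟩]
      exact p.self_mem hxP
    push Not at hCP
    obtain ⟨y, hy, hyP⟩ := hCP
    have hsm := small y (hS1norm y hy.1) (houtE y hy.1 hyP) (C ⊓ p.P) inf_le_right
      (fun a ha => hCsq a ha.1) (fun a ha => hCcomm a ha.1 y hy) (fun a ha b hb => hCcomm a ha.1 b hb.1)
      (p.pgroup.to_le inf_le_right)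
    haveI := Fintype.ofFinite C
    haveI := Fintype.ofFinite ↥(C ⊓ p.P)
    have : Fintype.card C ≤ Fintype.card (Bool × ↥(C ⊓ p.P)) := by
      refine Fintype.card_le_of_surjective (fun q : Bool × ↥(C ⊓ p.P) =>
        (⟨(if q.1 then y else 1) * (q.2 : G), mul_mem (by split_ifs; exacts [hy, one_mem _])
          q.2.2.1⟩ : C)) fun a => ?_
      by_cases ha : (a : G) ∈ p.P
      · exact ⟨(false, ⟨a, a.2, ha⟩), Subtype.ext (by simp)⟩
      refine ⟨(true, ⟨y⁻¹ * a, C.mul_mem (C.inv_mem hy) a.2, ?_⟩), Subtype.ext (by simp)⟩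
      have h1 := (hcov a a.2.1.1 (hS1norm _ a.2.1)).resolve_left ha
      have h2 := (hcov y hy.1.1 (hS1norm _ hy.1)).resolve_left hyP
      simpa [mul_assoc] using mul_mem (inv_mem h2) h1
    rw [Fintype.card_prod, Fintype.card_bool, ← Nat.card_eq_fintype_card,
      ← Nat.card_eq_fintype_card, h16] at this
    have := Nat.le_of_dvd (by norm_num) hsm
    omega
  -- `S₁` is the whole of `S`
  have hSS1 : S ≤ S1 := by
    by_contra hne
    obtain ⟨m, hm, hmS1, hmn⟩ := Basics.exists_normalizing_in hS inf_le_left hne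
    have hcent : Nat.card ↥(S1 ⊓ Subgroup.centralizer ({t} : Set G)) = 16 := by
      rw [D.cent_t_eq_E hS1p (R_eq h0 ▸ p.R_le.trans hPS1), Elem.card_E, hK]
    set x := m * t * m⁻¹ with hx
    have hxS : x ∈ S1 := hmn t (hPS1 p.t_mem)
    have hxc : IsConj t x := isConj_iff.2 ⟨m, rfl⟩
    have h16 : 16 ≤ Nat.card ↥(S1 ⊓ Subgroup.centralizer ({x} : Set G)) := by
      rw [← hcent, ← Nat.card_congr (Subgroup.equivMapOfInjective
        (S1 ⊓ Subgroup.centralizer ({t} : Set G)) (MulAut.conj m).toMonoidHom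
        (MulAut.conj m).injective).toEquiv.symm]
      refine Subgroup.card_le_of_le ?_
      rintro _ ⟨a, ⟨ha1, ha2⟩, rfl⟩
      refine ⟨hmn a ha1, Subgroup.mem_centralizer_singleton_iff.2 ?_⟩
      show m * a * m⁻¹ * (m * t * m⁻¹) = m * t * m⁻¹ * (m * a * m⁻¹)
      calc m * a * m⁻¹ * (m * t * m⁻¹) = m * (a * t) * m⁻¹ := by group
        _ = m * (t * a) * m⁻¹ := by rw [Subgroup.mem_centralizer_singleton_iff.1 ha2]
        _ = _ := by group
    have hor : x ∈ L.R ∨ x ∈ E' := by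
      by_contra h
      push Not at h
      have := Nat.le_of_dvd (by norm_num) (hcS x hxS hxc h.1 h.2)
      omega
    -- conjugation by `m` carries `E` to a group centralising `x`
    have hmR : ∀ y ∈ L.R, m * y * m⁻¹ ∈ S1 ∧ m * y * m⁻¹ * x = x * (m * y * m⁻¹) := fun y hy =>
      ⟨hmn y (hPS1 (p.R_le hy)), by
        have := Elem.E_comm (R_eq h0 ▸ hy : y ∈ Fr.base.R)
        calc m * y * m⁻¹ * x = m * (y * t) * m⁻¹ := by rw [hx]; group
          _ = m * (t * y) * m⁻¹ := by rw [this]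
          _ = _ := by rw [hx]; group⟩
    -- the centraliser of an element of `tU` or `E' ∖ U'` in `S₁` is elementary of order `16`
    have hC16 : Nat.card ↥(S1 ⊓ Subgroup.centralizer ({x} : Set G)) ≤ 16 :=
      Nat.le_of_dvd (by norm_num) (by have := D.card_cent_inf hxc hS1p; rwa [hK] at this)
    rcases hor with h | h
    · have hA : x ∉ L.A := fun hA => hnc _ hA hxc
      have hCeq : L.R = S1 ⊓ Subgroup.centralizer ({x} : Set G) := by
        refine Subgroup.eq_of_le_of_card_ge (fun a ha => ?_) (by rw [card_R8 hK h0]; exact hC16)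
        rw [← p.cen_R D hconj hK h0 h hA] at ha
        exact ⟨hPS1 (p.mem_cen.1 ha).1, Subgroup.mem_centralizer_singleton_iff.2 (p.mem_cen.1 ha).2⟩
      refine hmS1 (hPS1 (hnotR m hm fun y hy => ?_))
      rw [hCeq]
      exact ⟨(hmR y hy).1, Subgroup.mem_centralizer_singleton_iff.2 (hmR y hy).2⟩
    · have hCeq : E' = S1 ⊓ Subgroup.centralizer ({x} : Set G) := by
        refine Subgroup.eq_of_le_of_card_ge (fun a ha => ⟨hPS1 (p.mem_cen.1 ha).1,
          Subgroup.mem_centralizer_singleton_iff.2 (p.ext_comm D hw0 ha h)⟩)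
          (by rw [hE', hw0.2.2.2]; exact hC16)
      have hmem : n⁻¹ * m ∈ p.P := by
        refine hnotR _ (mul_mem (inv_mem hn) hm) fun y hy => ?_
        have : m * y * m⁻¹ ∈ L.R.map (MulAut.conj n).toMonoidHom := by
          rw [hnE, hCeq]
          exact ⟨(hmR y hy).1, Subgroup.mem_centralizer_singleton_iff.2 (hmR y hy).2⟩
        obtain ⟨z, hz, hzy⟩ := this
        have hzy' : n * z * n⁻¹ = m * y * m⁻¹ := hzy
        rw [show n⁻¹ * m * y * (n⁻¹ * m)⁻¹ = n⁻¹ * (m * y * m⁻¹) * n by group, ← hzy']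
        simpa [mul_assoc] using hz
      exact hmS1 (by have := mul_mem hnS1 (hPS1 hmem); rwa [mul_inv_cancel_left] at this)
  -- `S` is twice as large as `P`
  have hSn : ∀ s ∈ S, ∀ y ∈ p.P, s * y * s⁻¹ ∈ p.P := fun s hs => hS1norm s (hSS1 hs)
  have hcv : ∀ s ∈ S, s ∈ p.P ∨ n⁻¹ * s ∈ p.P := fun s hs => hcov s hs (hSn s hs)
  have hncos : ∀ {s : G}, s ∈ S → s ∉ p.P → n⁻¹ * s ∈ p.P := fun hs h => (hcv _ hs).resolve_left h
  have hS256 : Nat.card S = 256 := by
    have hi : (p.P.subgroupOf S).index = 2 := by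
      rw [Subgroup.index_eq_two_iff]
      refine ⟨⟨n⁻¹, inv_mem hn⟩, fun b => ?_⟩
      simp only [Subgroup.mem_subgroupOf, Subgroup.coe_mul]
      by_cases hb : (b : G) ∈ p.P
      · refine Or.inr ⟨hb, fun h => hnP ?_⟩
        simpa [mul_assoc] using inv_mem (mul_mem (inv_mem hb) h)
      · refine Or.inl ⟨?_, hb⟩
        have hb' := hncos b.2 hb
        have := hnorm _ hb'
        rwa [show n * (n⁻¹ * (b : G)) * n⁻¹ = (b : G) * n⁻¹ by group] at this
    have h := Subgroup.card_mul_index (p.P.subgroupOf S)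
    rw [hi, Nat.card_congr (Subgroup.subgroupOfEquivOfLe hPS).toEquiv, p.card_P hK h0] at h
    omega
  have hnn : n * n ∈ p.P := by
    rcases hcv _ (mul_mem hn hn) with h | h
    · exact h
    · exact absurd (by simpa using h) hnP
  -- the squares
  have hA8 : Nat.card L.A = 8 := by rw [A_eq h0, Fr.card_U, hK]
  obtain ⟨H0, z, hz, hAH, hHP, htH, hsq, hcovH⟩ := p.exists_H0 D hconj
  set Q0 := Subgroup.closure {x : G | ∃ y ∈ p.P, y * y = x}
  have hQsq : ∀ y ∈ p.P, y * y ∈ Q0 := fun y hy => Subgroup.subset_closure ⟨y, hy, rfl⟩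
  have hQn : ∀ s ∈ S, ∀ x ∈ Q0, s * x * s⁻¹ ∈ Q0 := by
    intro s hs
    have hle : Q0 ≤ Q0.comap (MulAut.conj s).toMonoidHom := by
      refine (Subgroup.closure_le _).2 ?_
      rintro _ ⟨y, hy, rfl⟩
      show s * (y * y) * s⁻¹ ∈ Q0
      rw [show s * (y * y) * s⁻¹ = s * y * s⁻¹ * (s * y * s⁻¹) by group]
      exact hQsq _ (hSn s hs y hy)
    exact fun x hx => hle hx
  have hQA : ∀ u ∈ L.A, u ∈ Q0 := by
    haveI := Fintype.ofFinite p.P
    haveI := Fintype.ofFinite L.A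
    let f : p.P → L.A := fun x => ⟨(x : G) * t * (x : G)⁻¹ * t, (p.le_N x.2).2⟩
    have hle : Fintype.card p.P ≤ 16 * (Finset.univ.image f).card := by
      rw [← Finset.card_univ]
      refine Finset.card_le_mul_card_image _ 16 fun u _ => ?_
      rcases (Finset.univ.filter fun x => f x = u).eq_empty_or_nonempty with he | ⟨b, hb⟩
      · rw [he]; simp
      refine (Finset.card_le_card (t := (Finset.univ : Finset L.R).image fun r : L.R =>
        (⟨(b : G) * r, mul_mem b.2 (p.R_le r.2)⟩ : p.P)) fun a ha => ?_).trans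
        (Finset.card_image_le.trans (by
          rw [Finset.card_univ, ← Nat.card_eq_fintype_card, card_R8 hK h0]))
      have e : (a : G) * t * (a : G)⁻¹ * t = (b : G) * t * (b : G)⁻¹ * t :=
        congrArg Subtype.val ((Finset.mem_filter.1 ha).2.trans (Finset.mem_filter.1 hb).2.symm)
      have e' := mul_right_cancel e
      have h1 : (b : G)⁻¹ * a ∈ L.R := by
        rw [← p.cen_R D hconj hK h0 L.t_mem_R L.t_not_mem]
        refine p.mem_cen.2 ⟨mul_mem (inv_mem b.2) a.2, ?_⟩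
        calc (b : G)⁻¹ * a * t = (b : G)⁻¹ * ((a : G) * t * (a : G)⁻¹) * a := by group
          _ = (b : G)⁻¹ * ((b : G) * t * (b : G)⁻¹) * a := by rw [e']
          _ = t * ((b : G)⁻¹ * a) := by group
      exact Finset.mem_image.2 ⟨⟨_, h1⟩, Finset.mem_univ _, Subtype.ext (mul_inv_cancel_left _ _)⟩
    rw [← Nat.card_eq_fintype_card, p.card_P hK h0] at hle
    have huniv : Finset.univ.image f = Finset.univ := Finset.eq_univ_of_card _ (le_antisymm
      (Finset.card_le_univ _) (by rw [← Nat.card_eq_fintype_card, hA8]; omega))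
    intro u hu
    obtain ⟨x, -, hx⟩ := Finset.mem_image.1 (huniv ▸ Finset.mem_univ (⟨u, hu⟩ : L.A))
    have hxu : (x : G) * t * (x : G)⁻¹ * t = u := congrArg Subtype.val hx
    have e : (x : G) * t * ((x : G) * t) * (t * (x : G)⁻¹ * t * (t * (x : G)⁻¹ * t)) = u := by
      rw [← hxu]
      calc (x : G) * t * ((x : G) * t) * (t * (x : G)⁻¹ * t * (t * (x : G)⁻¹ * t))
          = (x : G) * t * x * (t * t) * (x : G)⁻¹ * (t * t) * (x : G)⁻¹ * t := by group
        _ = _ := by rw [Fr.t_inv]; group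
    rw [← e]
    exact mul_mem (hQsq _ (mul_mem x.2 p.t_mem))
      (hQsq _ (mul_mem (mul_mem p.t_mem (inv_mem x.2)) p.t_mem))
  have hQH : Q0 ≤ H0 := (Subgroup.closure_le _).2 (by rintro _ ⟨y, hy, rfl⟩; exact hsq y hy)
  obtain ⟨a1, ha1, ha1A⟩ : ∃ a ∈ L.A, n * a * n⁻¹ ∉ L.A := by
    by_contra h
    push Not at h
    obtain ⟨-, -, hpl⟩ := p.ext_plane D hconj hK h0 hw0
    refine p.not_small fun x => hpl x ?_
    have : Fr.ι x ∈ L.A.map (MulAut.conj n).toMonoidHom := by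
      rw [Subgroup.eq_of_le_of_card_ge (by rintro _ ⟨a, ha, rfl⟩; exact h a ha :
        L.A.map (MulAut.conj n).toMonoidHom ≤ L.A)
        (by rw [Subgroup.card_map_of_injective (MulAut.conj n).injective])]
      exact L.ι_mem x
    show Fr.ι x ∈ E'
    rw [← hnE]
    exact Subgroup.map_mono L.A_le_R this
  have ha1Q : n * a1 * n⁻¹ ∈ Q0 := hQn n hn _ (hQA a1 ha1)
  have hHQ : H0 ≤ Q0 := by
    intro x hx
    rcases hcovH x hx with h | h
    · exact hQA x h
    · have h1 := (hcovH _ (hQH ha1Q)).resolve_left ha1A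
      have := mul_mem (hQA _ (mul_mem h (inv_mem h1))) ha1Q
      rwa [show x * z⁻¹ * (n * a1 * n⁻¹ * z⁻¹)⁻¹ * (n * a1 * n⁻¹) = x by group] at this
  have hHn : ∀ s ∈ S, ∀ x ∈ H0, s * x * s⁻¹ ∈ H0 := fun s hs x hx =>
    hQH (hQn s hs x (hHQ hx))
  have hcomH : ∀ x ∈ p.P, ∀ y ∈ p.P, x * y * x⁻¹ * y⁻¹ ∈ H0 := by
    intro x hx y hy
    rw [show x * y * x⁻¹ * y⁻¹ = x * x * (x⁻¹ * y * (x⁻¹ * y)) * (y * y)⁻¹ by group]
    exact mul_mem (mul_mem (hsq x hx) (hsq _ (mul_mem (inv_mem hx) hy))) (inv_mem (hsq y hy))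
  -- `t` is not congruent to its image
  have htw : t * (n * t * n⁻¹) ∉ H0 := by
    intro h
    have hw't : n * t * n⁻¹ * t ∈ H0 := by
      have := hHn t (hPS p.t_mem) _ h
      rwa [Fr.t_inv', show t * (t * (n * t * n⁻¹)) * t = t * t * (n * t * n⁻¹ * t) by group,
        Fr.t_inv, one_mul] at this
    have hHmul : ∀ a b : G, (a ∈ H0 ∨ a * t ∈ H0) → (b ∈ H0 ∨ b * t ∈ H0) →
        (a * b ∈ H0 ∨ a * b * t ∈ H0) := by
      intro a b ha hb
      have ht' : ∀ c ∈ H0, t * c * t ∈ H0 := fun c hc => by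
        have := hHn t (hPS p.t_mem) c hc
        rwa [Fr.t_inv'] at this
      rcases ha with ha | ha <;> rcases hb with hb | hb
      · exact Or.inl (mul_mem ha hb)
      · exact Or.inr (by rw [mul_assoc]; exact mul_mem ha hb)
      · refine Or.inr ?_
        rw [show a * b * t = a * (t * t) * b * t by rw [Fr.t_inv, mul_one],
          show a * (t * t) * b * t = a * t * (t * b * t) by group]
        exact mul_mem ha (ht' b hb)
      · refine Or.inl ?_
        rw [show a * b = a * (t * t) * b * (t * t) by rw [Fr.t_inv, mul_one, mul_one],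
          show a * (t * t) * b * (t * t) = a * t * (t * (b * t) * t) by group]
        exact mul_mem ha (ht' _ hb)
    have hR1 : ∀ y ∈ L.R, y ∈ H0 ∨ y * t ∈ H0 := fun y hy => hy.imp (fun h' => hAH h') (fun h' => hAH h')
    have hE1 : ∀ y ∈ E', y ∈ H0 ∨ y * t ∈ H0 := by
      intro y hy
      rw [← hnE] at hy
      obtain ⟨x, hx, rfl⟩ := hy
      show n * x * n⁻¹ ∈ H0 ∨ n * x * n⁻¹ * t ∈ H0
      rcases hx with hx | hx
      · exact Or.inl (hHn n hn x (hAH hx))
      · refine Or.inr ?_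
        rw [show n * x * n⁻¹ * t = n * (x * t) * n⁻¹ * (n * t⁻¹ * n⁻¹ * t) by group, Fr.t_inv']
        exact mul_mem (hHn n hn _ (hAH hx)) hw't
    haveI := Fintype.ofFinite L.R
    haveI := Fintype.ofFinite E'
    haveI := Fintype.ofFinite Wg
    haveI := Fintype.ofFinite H0
    let f : L.R × E' → {x : G // x ∈ H0 ∨ x * t ∈ H0} := fun q =>
      ⟨(q.1 : G) * q.2, hHmul _ _ (hR1 _ q.1.2) (hE1 _ q.2.2)⟩
    have hle : Fintype.card (L.R × E') ≤ 4 * (Finset.univ.image f).card := by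
      rw [← Finset.card_univ]
      refine Finset.card_le_mul_card_image _ 4 fun v _ => ?_
      rcases (Finset.univ.filter fun q => f q = v).eq_empty_or_nonempty with he | ⟨b, hb⟩
      · rw [he]; simp
      refine (Finset.card_le_card (t := (Finset.univ : Finset Wg).image fun c : Wg =>
        ((⟨(b.1 : G) * c, mul_mem b.1.2 c.2.1⟩, ⟨(c : G)⁻¹ * b.2, mul_mem (inv_mem c.2.2) b.2.2⟩) :
          L.R × E')) fun q hq => ?_).trans
        (Finset.card_image_le.trans (by rw [Finset.card_univ, ← Nat.card_eq_fintype_card]; exact hWg))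
      have heq : (q.1 : G) * q.2 = b.1 * b.2 :=
        congrArg Subtype.val ((Finset.mem_filter.1 hq).2.trans (Finset.mem_filter.1 hb).2.symm)
      have h1 : (b.1 : G)⁻¹ * q.1 = b.2 * (q.2 : G)⁻¹ := by
        rw [eq_mul_inv_iff_mul_eq, mul_assoc, heq, inv_mul_cancel_left]
      refine Finset.mem_image.2 ⟨⟨(b.1 : G)⁻¹ * q.1,
        Subgroup.mem_inf.2 ⟨mul_mem (inv_mem b.1.2) q.1.2, h1 ▸ mul_mem b.2.2 (inv_mem q.2.2)⟩⟩, Finset.mem_univ _, ?_⟩
      refine Prod.ext (Subtype.ext (mul_inv_cancel_left _ _)) (Subtype.ext ?_)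
      show ((b.1 : G)⁻¹ * q.1)⁻¹ * b.2 = q.2
      rw [h1, mul_inv_rev, inv_inv, inv_mul_cancel_right]
    have hH16 : Fintype.card H0 ≤ 16 := by
      refine le_trans (Fintype.card_le_of_injective
        (fun x : H0 => ((if h : (x : G) ∈ L.A then (⟨x, h⟩, true)
          else (⟨(x : G) * z⁻¹, (hcovH x x.2).resolve_left h⟩, false)) : L.A × Bool)) ?_) (by
          rw [← Nat.card_eq_fintype_card, Nat.card_prod, hA8, Nat.card_eq_fintype_card,
            Fintype.card_bool])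
      intro a b hab
      simp only at hab
      split_ifs at hab <;>
        simp only [Prod.mk.injEq, Subtype.mk.injEq, Bool.false_eq_true, Bool.true_eq_false,
          and_false, and_true, mul_left_inj] at hab <;>
        exact Subtype.ext hab
    have h32 : Fintype.card {x : G // x ∈ H0 ∨ x * t ∈ H0} ≤ 32 := by
      refine le_trans (Fintype.card_le_of_injective
        (fun x : {x : G // x ∈ H0 ∨ x * t ∈ H0} => ((if h : (x : G) ∈ H0 then (⟨x, h⟩, true)
          else (⟨(x : G) * t, x.2.resolve_left h⟩, false)) : H0 × Bool)) ?_) (by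
          rw [Fintype.card_prod, Fintype.card_bool]; omega)
      intro a b hab
      simp only at hab
      split_ifs at hab <;>
        simp only [Prod.mk.injEq, Subtype.mk.injEq, Bool.false_eq_true, Bool.true_eq_false,
          and_false, and_true, mul_left_inj] at hab <;>
        exact Subtype.ext hab
    have h1 := hle.trans (Nat.mul_le_mul_left 4 ((Finset.card_le_univ _).trans h32))
    rw [Fintype.card_prod, ← Nat.card_eq_fintype_card, ← Nat.card_eq_fintype_card,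
      card_R8 hK h0, hE', hw0.2.2.2] at h1
    omega
  -- a normal subgroup of index four avoiding `t`
  let Fx : Subgroup G :=
    { carrier := {x | x ∈ p.P ∧ x⁻¹ * (n * x * n⁻¹) ∈ H0}
      one_mem' := ⟨one_mem _, by simp⟩
      mul_mem' := by
        rintro a b ⟨ha, ha'⟩ ⟨hb, hb'⟩
        refine ⟨mul_mem ha hb, ?_⟩
        rw [show (a * b)⁻¹ * (n * (a * b) * n⁻¹) =
          b⁻¹ * (a⁻¹ * (n * a * n⁻¹)) * b⁻¹⁻¹ * (b⁻¹ * (n * b * n⁻¹)) by group]
        exact mul_mem (hHn _ (inv_mem (hPS hb)) _ ha') hb'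
      inv_mem' := by
        rintro a ⟨ha, ha'⟩
        refine ⟨inv_mem ha, ?_⟩
        rw [show a⁻¹⁻¹ * (n * a⁻¹ * n⁻¹) = a * (a⁻¹ * (n * a * n⁻¹))⁻¹ * a⁻¹ by group]
        exact hHn _ (hPS ha) _ (inv_mem ha') }
  set H1 := Subgroup.closure ({x : G | x ∈ H0} ∪ {x : G | ∃ q ∈ p.P, q * (n * q * n⁻¹) = x})
  have hH1 : H1 ≤ Fx := by
    refine (Subgroup.closure_le _).2 ?_
    rintro x (hx | ⟨q, hq, rfl⟩)
    · exact ⟨hHP hx, mul_mem (inv_mem hx) (hHn n hn x hx)⟩
    · refine ⟨mul_mem hq (hnorm q hq), ?_⟩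
      have h1 := hcomH _ (inv_mem (hnorm q hq)) _ (inv_mem hq)
      have h2 := hcomH _ (inv_mem hq) _ hnn
      rw [show (q * (n * q * n⁻¹))⁻¹ * (n * (q * (n * q * n⁻¹)) * n⁻¹) =
        ((n * q * n⁻¹)⁻¹ * q⁻¹ * (n * q * n⁻¹)⁻¹⁻¹ * q⁻¹⁻¹) *
          (q⁻¹ * (n * n) * q⁻¹⁻¹ * (n * n)⁻¹) by group]
      exact mul_mem h1 h2
  have hH0H1 : H0 ≤ H1 := fun x hx => Subgroup.subset_closure (Or.inl hx)
  obtain ⟨M, hH1M, hMP, htM, hcovM, hnormM⟩ := Basics.exists_complement Fr.t_inv p.t_mem H1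
    (fun x hx => (hH1 hx).1) (fun x hx => hH0H1 (hsq x hx))
    (fun h => htw (by have := (hH1 h).2; rwa [Fr.t_inv'] at this))
  have hMn : ∀ s ∈ S, ∀ m ∈ M, s * m * s⁻¹ ∈ M := by
    have hn' : ∀ m ∈ M, n * m * n⁻¹ ∈ M := fun m hm => by
      have := mul_mem (inv_mem hm)
        (hH1M (Subgroup.subset_closure (Or.inr ⟨m, hMP hm, rfl⟩)))
      simpa using this
    intro s hs m hm
    by_cases hsP : s ∈ p.P
    · exact hnormM s hsP m hm
    rw [show s * m * s⁻¹ = n * ((n⁻¹ * s) * m * (n⁻¹ * s)⁻¹) * n⁻¹ by group]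
    exact hn' _ (hnormM _ (hncos hs hsP) m hm)
  haveI hMnormal : (M.subgroupOf S).Normal := ⟨fun m hm s => by
    simpa [Subgroup.mem_subgroupOf] using hMn s s.2 m hm⟩
  have hM64 : Nat.card (M.subgroupOf S) = 64 := by
    rw [Nat.card_congr (Subgroup.subgroupOfEquivOfLe (hMP.trans hPS)).toEquiv]
    have := Basics.card_of_cover Fr.t_inv hMP p.t_mem htM hcovM
    rw [p.card_P hK h0] at this
    omega
  have hQ4 : Nat.card (S ⧸ M.subgroupOf S) = 4 := by
    have := Subgroup.card_eq_card_quotient_mul_card_subgroup (M.subgroupOf S)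
    rw [hS256, hM64] at this
    omega
  letI : CommGroup (S ⧸ M.subgroupOf S) :=
    { (inferInstance : Group (S ⧸ M.subgroupOf S)) with
      mul_comm := IsPGroup.commutative_of_card_eq_prime_sq (p := 2) (by rw [hQ4]; norm_num) }
  letI := Fintype.ofFinite (S ⧸ M.subgroupOf S)
  set φ : S →* S ⧸ M.subgroupOf S := QuotientGroup.mk' (M.subgroupOf S)
  have hφc : ∀ a b : S, φ (a * b * a⁻¹) = φ b := fun a b => by
    rw [map_mul, map_mul, map_inv, mul_comm (φ a) (φ b), mul_inv_cancel_right]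
  obtain ⟨f, hf, hprod⟩ := Count.transfer_values hG Fr.t_inv S φ
  rw [hC] at hf
  simp only [hS256] at hf
  set tS : S := ⟨t, hPS p.t_mem⟩
  have hRS : ∀ x ∈ L.R, x ∈ S := fun x hx => hPS (p.R_le hx)
  have hES : ∀ x ∈ E', x ∈ S := fun x hx => hPS (p.mem_cen.1 hx).1
  -- values on the two groups
  have hval : ∀ (x : G) (hx : x ∈ S), (x ∈ L.R ∨ x ∈ E') → IsConj t x → φ ⟨x, hx⟩ = φ tS := by
    have key : ∀ (x : G) (hx : x ∈ S), x ∈ L.R → IsConj t x → φ ⟨x, hx⟩ = φ tS := by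
      intro x hx hxR hc
      have hxt : x * t ∈ L.A := hxR.resolve_left fun h' => hnc _ h' hc
      refine (QuotientGroup.eq).2 ?_
      rw [Subgroup.mem_subgroupOf]
      show x⁻¹ * t ∈ M
      obtain ⟨g, rfl⟩ := isConj_iff.1 hc
      rw [show (g * t * g⁻¹)⁻¹ = g * t⁻¹ * g⁻¹ by group, Fr.t_inv']
      exact hH1M (hH0H1 (hAH hxt))
    intro x hx hxor hc
    rcases hxor with h | h
    · exact key x hx h hc
    · rw [← hnE] at h
      obtain ⟨y, hy, hyx⟩ := h
      have hyx' : n * y * n⁻¹ = x := hyx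
      rw [show (⟨x, hx⟩ : S) = ⟨n, hn⟩ * ⟨y, hRS y hy⟩ * (⟨n, hn⟩ : S)⁻¹ from
        Subtype.ext hyx'.symm, hφc]
      exact key y _ hy (hc.trans (isConj_iff.2 ⟨n⁻¹, by rw [← hyx']; group⟩))
  have hinv : ∀ s ∈ S, ∀ x, (x ∈ L.R ∨ x ∈ E') → (s * x * s⁻¹ ∈ L.R ∨ s * x * s⁻¹ ∈ E') := by
    have hn2 : ∀ x, (x ∈ L.R ∨ x ∈ E') → (n * x * n⁻¹ ∈ L.R ∨ n * x * n⁻¹ ∈ E') := by
      rintro x (h | h)
      · exact Or.inr (hnE ▸ ⟨x, h, rfl⟩)
      · rw [← hnE] at h
        obtain ⟨y, hy, rfl⟩ := h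
        refine Or.inl ?_
        show n * (n * y * n⁻¹) * n⁻¹ ∈ L.R
        rw [show n * (n * y * n⁻¹) * n⁻¹ = n * n * y * (n * n)⁻¹ by group]
        exact hRnorm _ hnn y hy
    have hP2 : ∀ k ∈ p.P, ∀ x, (x ∈ L.R ∨ x ∈ E') → (k * x * k⁻¹ ∈ L.R ∨ k * x * k⁻¹ ∈ E') :=
      fun k hk x h => h.imp (hRnorm k hk x) (hE'P k (hPnorm k hk) (hRnorm k hk) x)
    intro s hs x hx
    by_cases hsP : s ∈ p.P
    · exact hP2 s hsP x hx
    rw [show s * x * s⁻¹ = n * ((n⁻¹ * s) * x * (n⁻¹ * s)⁻¹) * n⁻¹ by group]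
    exact hn2 _ (hP2 _ (hncos hs hsP) x hx)
  -- conjugates elsewhere
  have hS1eq : S1 = S := le_antisymm inf_le_left hSS1
  have h32 : ∀ v, 32 ∣ Nat.card {x : G // IsConj t x ∧
      ((∃ h : x ∈ S, φ ⟨x, h⟩ = v) ∧ ¬ (x ∈ L.R ∨ x ∈ E'))} := by
    intro v
    refine Basics.dvd_card_conj_classes (S := S) (b := 8) (by rw [hS256]) (by norm_num) _ ?_ ?_
    · rintro s hs x ⟨⟨hx, hv⟩, hne⟩
      refine ⟨⟨mul_mem (mul_mem hs hx) (inv_mem hs), ?_⟩, fun h => hne ?_⟩
      · rw [show (⟨s * x * s⁻¹, _⟩ : S) = ⟨s, hs⟩ * ⟨x, hx⟩ * (⟨s, hs⟩ : S)⁻¹ from rfl, hφc, hv]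
      · have := hinv s⁻¹ (inv_mem hs) _ h
        rwa [show s⁻¹ * (s * x * s⁻¹) * s⁻¹⁻¹ = x by group] at this
    · rintro x hx ⟨⟨hxS, -⟩, hne⟩
      rw [← hS1eq]
      exact hcS x (hS1eq.symm ▸ hxS) hx (fun h => hne (Or.inl h)) (fun h => hne (Or.inr h))
  -- the sixteen conjugates inside
  have h16 : Nat.card {x : G // IsConj t x ∧ (x ∈ L.R ∨ x ∈ E')} = 16 := by
    have hRA : Nat.card {x : G // x ∈ L.R ∧ x ∉ L.A} = 8 := by
      rw [← hA8]
      exact Nat.card_congr
        { toFun := fun x => ⟨x.1 * t, x.2.1.resolve_left x.2.2⟩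
          invFun := fun a => ⟨(a : G) * t, Or.inr (by rw [mul_assoc, Fr.t_inv, mul_one]; exact a.2),
            fun h' => L.t_not_mem (by simpa using mul_mem (inv_mem a.2) h')⟩
          left_inv := fun x => Subtype.ext (by simp [mul_assoc, Fr.t_inv])
          right_inv := fun a => Subtype.ext (by simp [mul_assoc, Fr.t_inv]) }
    have hdis : ∀ x, IsConj t x → x ∈ L.R → x ∈ E' → False := by
      intro x hc hxR hxE
      have h1 := p.cen_R D hconj hK h0 hxR (fun h' => hnc _ h' hc)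
      rw [← hnE] at hxE
      obtain ⟨y, hy, hyx⟩ := hxE
      have hyx' : n * y * n⁻¹ = x := hyx
      have hyc : IsConj t y := hc.trans (isConj_iff.2 ⟨n⁻¹, by rw [← hyx']; group⟩)
      rw [← hyx', p.conj_cen hnorm, p.cen_R D hconj hK h0 hy (fun h' => hnc _ h' hyc), hnE] at h1
      exact hw0.2.2.1 (h1 ▸ hwE)
    let g : {x : G // x ∈ L.R ∧ x ∉ L.A} ⊕ {x : G // x ∈ L.R ∧ x ∉ L.A} →
        {x : G // IsConj t x ∧ (x ∈ L.R ∨ x ∈ E')} := fun q => match q with
      | Sum.inl x => ⟨x.1, hconj _ x.2.1 x.2.2, Or.inl x.2.1⟩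
      | Sum.inr x => ⟨n * x.1 * n⁻¹, (hconj _ x.2.1 x.2.2).trans (isConj_iff.2 ⟨n, rfl⟩),
          Or.inr (hnE ▸ ⟨x.1, x.2.1, rfl⟩)⟩
    have hg : Function.Bijective g := by
      refine ⟨?_, ?_⟩
      · rintro (a | a) (b | b) h <;> have h' := congrArg Subtype.val h <;> simp only [g] at h'
        · exact congrArg Sum.inl (Subtype.ext h')
        · exact (hdis _ (hconj _ a.2.1 a.2.2) a.2.1 (h' ▸ hnE ▸ ⟨b.1, b.2.1, rfl⟩)).elim
        · exact (hdis _ (hconj _ b.2.1 b.2.2) b.2.1 (h'.symm ▸ hnE ▸ ⟨a.1, a.2.1, rfl⟩)).elim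
        · exact congrArg Sum.inr (Subtype.ext (mul_left_cancel (mul_right_cancel h')))
      · rintro ⟨x, hc, h | h⟩
        · exact ⟨Sum.inl ⟨x, h, fun h' => hnc _ h' hc⟩, rfl⟩
        · have h' := h
          rw [← hnE] at h'
          obtain ⟨y, hy, hyx⟩ := h'
          have hyx' : n * y * n⁻¹ = x := hyx
          have hyc : IsConj t y := hc.trans (isConj_iff.2 ⟨n⁻¹, by rw [← hyx']; group⟩)
          exact ⟨Sum.inr ⟨y, hy, fun h' => hnc _ h' hyc⟩, Subtype.ext hyx'⟩
    rw [← Nat.card_eq_of_bijective g hg, Nat.card_sum, hRA]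
  have hsplit : ∀ v, Nat.card {x : S // IsConj t (x : G) ∧ φ x = v} =
      Nat.card {x : G // IsConj t x ∧ ((∃ h : x ∈ S, φ ⟨x, h⟩ = v) ∧ ¬ (x ∈ L.R ∨ x ∈ E'))} +
        if v = φ tS then 16 else 0 := by
    intro v
    set Z := {x : S // IsConj t (x : G) ∧ φ x = v}
    rw [← Nat.card_congr (Equiv.sumCompl fun x : Z => ((x.1 : G) ∈ L.R ∨ (x.1 : G) ∈ E')),
      Nat.card_sum, add_comm]
    congr 1
    · exact Nat.card_congr
        { toFun := fun x => ⟨((x.1.1 : S) : G), x.1.2.1, ⟨x.1.1.2, x.1.2.2⟩, x.2⟩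
          invFun := fun x => ⟨⟨⟨x.1, x.2.2.1.1⟩, x.2.1, x.2.2.1.2⟩, x.2.2.2⟩
          left_inv := fun _ => rfl
          right_inv := fun _ => rfl }
    · split_ifs with hv
      · rw [← h16]
        exact Nat.card_congr
          { toFun := fun x => ⟨((x.1.1 : S) : G), x.1.2.1, x.2⟩
            invFun := fun x => ⟨⟨⟨x.1, x.2.2.elim (hRS _) (hES _)⟩, x.2.1,
              (hval _ _ x.2.2 x.2.1).trans hv.symm⟩, x.2.2⟩
            left_inv := fun _ => rfl
            right_inv := fun _ => rfl }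
      · rw [Nat.card_eq_zero]
        exact Or.inl ⟨fun x => hv (x.1.2.2.symm.trans (hval _ _ x.2 x.1.2.1))⟩
  have hφt : φ tS ≠ 1 := fun h => htM (by
    rw [QuotientGroup.mk'_apply, QuotientGroup.eq_one_iff, Subgroup.mem_subgroupOf] at h
    exact h)
  have hsq1 : φ tS * φ tS = 1 := by
    rw [← map_mul, ← map_one φ]
    exact congrArg φ (Subtype.ext Fr.t_inv)
  have hterm : ∀ v, v ^ f v = if v = φ tS then φ tS else 1 := by
    intro v
    obtain ⟨k, hk⟩ := h32 v
    have hfv := hf v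
    rw [hsplit v, hk] at hfv
    split_ifs at hfv ⊢ with hv
    · have : f v = o * (1 + 2 * k) := by linarith
      have hodd : f v % 2 = 1 := by rw [this, Nat.mul_mod, ho]; omega
      rw [← hv] at hsq1 ⊢
      rw [← Nat.div_add_mod (f v) 2, hodd, pow_succ, pow_mul, pow_two, hsq1, one_pow, one_mul]
    · have hfe : f v = 2 * (o * k) := by linarith
      rcases Nat.eq_zero_or_pos k with rfl | hkpos
      · rw [hfe]; simp
      · haveI : Nonempty {x : G // IsConj t x ∧
            ((∃ h : x ∈ S, φ ⟨x, h⟩ = v) ∧ ¬ (x ∈ L.R ∨ x ∈ E'))} :=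
          (Nat.card_pos_iff.1 (by omega)).1
        obtain ⟨x, hxc, ⟨hxS, hxv⟩, -⟩ := Classical.arbitrary {x : G // IsConj t x ∧
            ((∃ h : x ∈ S, φ ⟨x, h⟩ = v) ∧ ¬ (x ∈ L.R ∨ x ∈ E'))}
        obtain ⟨g, hg⟩ := isConj_iff.1 hxc
        have hxx : x * x = 1 := by
          rw [← hg, show g * t * g⁻¹ * (g * t * g⁻¹) = g * (t * t) * g⁻¹ by group, Fr.t_inv,
            mul_one, mul_inv_cancel]
        rw [hfe, pow_mul, pow_two, ← hxv, ← map_mul]
        rw [show (⟨x, hxS⟩ : S) * ⟨x, hxS⟩ = 1 from Subtype.ext hxx, map_one, one_pow]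
  rw [Finset.prod_congr rfl fun v _ => hterm v, Finset.prod_ite_eq' Finset.univ] at hprod
  exact hφt (by simpa using hprod)

end PData

end Level

end Cfsg.Agent.Lib.TwoTimesPSL
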