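import Mathlib
import Cfsg.Agent.Lib.TwoTimesPSL.Step
import Cfsg.Agent.Lib.TwoTimesPSL.Faithful
import Cfsg.Agent.Lib.TwoTimesPSL.LThreeFalse

/-!
# There is no level when no element of `U` is conjugate to `t`
Owner: helper80.
-/

set_option autoImplicit false
set_option linter.unusedSectionVars false

namespace Cfsg.Agent.Lib.TwoTimesPSL

variable {G : Type*} [Group G] [Finite G] {t : G} {K : Type*} [Field K] [Finite K] [CharP K 2]
  {Fr : Frame t K}

open Count (mT fixCard)

theorem base_R_le {L : Level Fr} : Fr.base.R ≤ L.R := fun _ hx => L.frame_mem_R (Elem.mem_E.1 hx)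

theorem sq_of_isConj {x : G} (h : IsConj t x) (Fr : Frame t K) : x * x = 1 := by
  obtain ⟨g, rfl⟩ := isConj_iff.1 h
  rw [show g * t * g⁻¹ * (g * t * g⁻¹) = g * (t * t) * g⁻¹ by group, Fr.t_inv, mul_one,
    mul_inv_cancel]

theorem ne_one_of_isConj {x : G} (h : IsConj t x) (Fr : Frame t K) : x ≠ 1 := by
  rintro rfl
  have := isConj_one_left.1 h
  exact Fr.t_not 0 (this.trans Fr.ι_zero.symm)

/-- A closed group gives a contradiction. -/
theorem Closed.false [IsSimpleGroup G] (hG : ¬ IsMulCommutative G) (D : Elem Fr) (Q : Closed Fr) :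
    False := by
  have hE : Fr.base.R ≤ Q.P := fun x hx => by
    obtain ⟨a, rfl | rfl⟩ := Elem.mem_E.1 hx
    · exact Q.ι_mem a
    · exact mul_mem Q.t_mem (Q.ι_mem a)
  have hB : ∀ x ∈ Q.B, ¬ IsConj t x := fun x hx hc => by
    have h1 := Q.big x hx (sq_of_isConj hc Fr) (ne_one_of_isConj hc Fr)
    have h2 := Nat.le_of_dvd (Nat.mul_pos two_pos Nat.card_pos) (D.card_cent_inf hc Q.pgroup)
    omega
  set t' : Q.P := ⟨t, Q.t_mem⟩
  have hfib := Count.card_fibre t' fun _ => True
  have h1 : Nat.card (Subgroup.centralizer ({t'} : Set Q.P)) = 2 * Nat.card K := by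
    rw [← Elem.card_E (Fr := Fr), ← D.cent_t_eq_E Q.pgroup hE]
    exact Nat.card_congr
      { toFun := fun x => ⟨x.1.1, x.1.2, Subgroup.mem_centralizer_singleton_iff.2
          (congrArg Subtype.val (Subgroup.mem_centralizer_singleton_iff.1 x.2))⟩
        invFun := fun x => ⟨⟨x.1, x.2.1⟩, Subgroup.mem_centralizer_singleton_iff.2
          (Subtype.ext (Subgroup.mem_centralizer_singleton_iff.1 x.2.2))⟩
        left_inv := fun _ => rfl
        right_inv := fun _ => rfl }
  have h2 : Nat.card {x : Q.P // IsConj t' x ∧ True} = mT t Q.P := by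
    refine Nat.card_congr (Equiv.subtypeEquivRight fun x => ⟨fun h => ?_, fun h => ?_⟩)
    · exact Q.P.subtype.map_isConj h.1
    · refine ⟨?_, trivial⟩
      obtain ⟨p, hp, hpx⟩ := Q.conj x x.2 (fun hx => hB _ hx h) (sq_of_isConj h Fr)
      exact isConj_iff.2 ⟨⟨p, hp⟩, Subtype.ext hpx⟩
  rw [h1, h2, Nat.card_congr (Equiv.subtypeUnivEquiv fun _ => trivial)] at hfib
  obtain ⟨o, ho, hC⟩ := D.card_cent
  have hfix := Count.fix_mul t Q.P
  rw [hC, hfib] at hfix
  have hmpos : 0 < 2 * Nat.card K * mT t Q.P := hfib ▸ Nat.card_pos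
  have hfo : fixCard t Q.P = o :=
    Nat.eq_of_mul_eq_mul_right hmpos (hfix.trans (by ring))
  have hodd := Count.odd_index_of_odd_fix Fr.t_inv (hfo.symm ▸ ho)
  refine Count.false_of_index_two hG Fr.t_inv (Basics.index_mod_four_of_half Q.B_le
    (Basics.card_of_cover Fr.t_inv Q.B_le Q.t_mem Q.t_not Q.cover) hodd) ?_
  rw [mT, Nat.card_eq_zero]
  exact Or.inl ⟨fun x => hB _ x.1.2 x.2⟩

namespace Level

variable (L : Level Fr)

theorem isConj_mul_t {a a' : G} (ha : a ∈ L.A) (ha' : a' ∈ L.A) (h : L.top a = L.top a') :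
    IsConj (a * t) (a' * t) := by
  obtain ⟨b, hb, hbb⟩ := L.exists_sqrt (mul_mem (inv_mem ha) ha') (by
    rw [L.top_mul (inv_mem ha) ha', L.top_inv ha, h, CharTwo.add_self_eq_zero])
  refine isConj_iff.2 ⟨b, ?_⟩
  calc b * (a * t) * b⁻¹ = b * a * b⁻¹ * (b * t * b⁻¹) := by group
    _ = a * (b * b * t) := by rw [L.conj_t hb, L.comm b hb a ha, mul_inv_cancel_right]
    _ = a' * t := by rw [hbb]; group

theorem d_of_comm {g : G} (h : t * g = g * t) : L.d g = 0 := by
  rw [d, ← h, mul_inv_cancel_right, Fr.t_inv, L.top_one]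

theorem Φ_of_mem_R {x : G} (hx : x ∈ L.R) : L.Φ ⟨x, L.R_le_N hx⟩ = 1 :=
  Equiv.ext fun v => by
    rw [L.Φ_apply, L.ρ_of_comm (L.R_le_N hx) ((L.R_le_W hx).2.1 v), L.d_of_mem_R hx, add_zero,
      Equiv.Perm.one_apply]

end Level

theorem no_level [IsSimpleGroup G] (hG : ¬ IsMulCommutative G) (D : Elem Fr)
    (hU : ∀ v, ¬ IsConj t (Fr.ι v)) : ∀ L : Level Fr, False := by
  classical
  suffices h : ∀ n, ∀ L : Level Fr, Nat.card G - Nat.card L.A = n → False from fun L => h _ L rfl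
  intro n
  induction n using Nat.strong_induction_on with
  | _ n ih => ?_
  intro L hL
  obtain ⟨o, ho, hC⟩ := D.card_cent
  have hnc : ∀ a ∈ L.A, ¬ IsConj t a := fun a ha hc => by
    obtain ⟨v, rfl⟩ := L.sq_eq_one ha (sq_of_isConj hc Fr)
    exact hU v hc
  have hRcard := L.card_R
  -- the classes are unions of classes by the top coordinate
  by_cases hT : ∃ a ∈ L.A, L.top a ≠ 0 ∧ IsConj t (a * t)
  swap
  · push Not at hT
    let g : L.A →* Multiplicative K :=
      { toFun := fun a => Multiplicative.ofAdd (L.top (a : G))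
        map_one' := by simp [L.top_one]
        map_mul' := fun a b => by simp [L.top_mul a.2 b.2, ofAdd_add] }
    have hgs : Function.Surjective g := fun v => by
      obtain ⟨b, hb, hv⟩ := L.top_surj (Multiplicative.toAdd v)
      exact ⟨⟨b, hb⟩, by simp [g, hv]⟩
    have hk := Subgroup.card_mul_index g.ker
    rw [Subgroup.index_ker, MonoidHom.range_eq_top.2 hgs, Subgroup.card_top,
      Nat.card_congr (Multiplicative.toAdd (α := K))] at hk
    have hm : mT t L.R = Nat.card g.ker := by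
      refine (Nat.card_congr ?_).symm
      refine
        { toFun := fun a => ⟨⟨(a.1 : G) * t, mul_mem (L.A_le_R a.1.2) L.t_mem_R⟩, ?_⟩
          invFun := fun x => ⟨⟨(x.1 : G) * t, x.1.2.resolve_left fun h => hnc _ h x.2⟩, ?_⟩
          left_inv := fun a => Subtype.ext (Subtype.ext (by simp [mul_assoc, Fr.t_inv]))
          right_inv := fun x => Subtype.ext (Subtype.ext (by simp [mul_assoc, Fr.t_inv])) }
      · have h0 : L.top (a.1 : G) = 0 :=
          congrArg Multiplicative.toAdd (MonoidHom.mem_ker.1 a.2)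
        have := L.isConj_mul_t (one_mem _) a.1.2 (by rw [L.top_one, h0])
        rwa [one_mul] at this
      · have hxA := x.1.2.resolve_left fun h => hnc _ h x.2
        refine MonoidHom.mem_ker.2 (congrArg Multiplicative.ofAdd ?_)
        by_contra h
        refine hT _ hxA h ?_
        rw [mul_assoc, Fr.t_inv, mul_one]
        exact x.2
    have hfix := Count.fix_mul t L.R
    rw [hC, hm, hRcard, ← hk] at hfix
    have hpos : 0 < 2 * (Nat.card g.ker * Nat.card K) := by
      have : 0 < Nat.card g.ker * Nat.card K := Nat.mul_pos Nat.card_pos Nat.card_pos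
      omega
    have hfo : fixCard t L.R = o := Nat.eq_of_mul_eq_mul_right hpos (hfix.trans (by ring))
    refine Count.false_of_index_two hG Fr.t_inv (Basics.index_mod_four_of_half L.A_le_R hRcard
      (Count.odd_index_of_odd_fix Fr.t_inv (hfo.symm ▸ ho))) ?_
    rw [mT, Nat.card_eq_zero]
    exact Or.inl ⟨fun x => hnc _ x.1.2 x.2⟩
  obtain ⟨a0, ha0, ha0t, ha0c⟩ := hT
  have hconj : ∀ x ∈ L.R, x ∉ L.A → IsConj t x := by
    intro x hx hxA
    have hxt := hx.resolve_left hxA
    by_cases h0 : L.top (x * t) = 0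
    · have := L.isConj_mul_t (one_mem _) hxt (by rw [L.top_one, h0])
      rwa [one_mul, mul_assoc, Fr.t_inv, mul_one] at this
    obtain ⟨g, hgt, hgA, hgU⟩ := L.scal (L.top (x * t) * (L.top a0)⁻¹)
      (mul_ne_zero h0 (inv_ne_zero ha0t))
    have h1 := L.isConj_mul_t (hgA a0 ha0) hxt (by
      rw [L.top_scale ha0 (hgA a0 ha0) hgU, mul_assoc, inv_mul_cancel₀ ha0t, mul_one])
    rw [mul_assoc x, Fr.t_inv, mul_one] at h1
    refine (ha0c.trans (isConj_iff.2 ⟨g, ?_⟩)).trans h1
    calc g * (a0 * t) * g⁻¹ = g * a0 * g⁻¹ * (g * t * g⁻¹) := by group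
      _ = g * a0 * g⁻¹ * t := by rw [← hgt, mul_inv_cancel_right]
  -- `R` is not a Sylow subgroup
  have hm : mT t L.R = Nat.card L.A := Nat.card_congr
    { toFun := fun x => ⟨(x.1 : G) * t, x.1.2.resolve_left fun h => hnc _ h x.2⟩
      invFun := fun a => ⟨⟨(a : G) * t, mul_mem (L.A_le_R a.2) L.t_mem_R⟩,
        hconj _ (mul_mem (L.A_le_R a.2) L.t_mem_R)
          fun h => L.t_not_mem (by simpa using mul_mem (inv_mem a.2) h)⟩
      left_inv := fun x => Subtype.ext (Subtype.ext (by simp [mul_assoc, Fr.t_inv]))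
      right_inv := fun a => Subtype.ext (by simp [mul_assoc, Fr.t_inv]) }
  have hfix := Count.fix_mul t L.R
  rw [hC, hm, hRcard] at hfix
  have hfo : fixCard t L.R = Nat.card K * o :=
    Nat.eq_of_mul_eq_mul_right (Nat.mul_pos two_pos Nat.card_pos) (hfix.trans (by ring))
  have hKeven : Nat.card K % 2 = 0 := by
    haveI := Fintype.ofFinite K
    obtain ⟨k, -, hk⟩ := FiniteField.card K 2
    rw [Nat.card_eq_fintype_card, hk, Nat.pow_mod]
    simp
  have heven : L.R.index % 2 = 0 := by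
    rw [Count.index_mod_two Fr.t_inv, hfo, Nat.mul_mod, hKeven]
    simp
  obtain ⟨S, nn, hS, hRS, hn, hnR, hnorm⟩ := Basics.exists_normalizing L.isPGroup_R heven
  have hnN := L.mem_N_of_normalizes hconj hnc hnorm
  have hdn : L.d nn ≠ 0 := by
    intro h0
    obtain ⟨b, hb, hbc⟩ := L.ker_d_N hnN h0
    have : b⁻¹ * nn ∈ Fr.base.R := by
      rw [← D.cent_t_eq_E hS (base_R_le.trans hRS)]
      exact Subgroup.mem_inf.2 ⟨mul_mem (inv_mem (hRS (L.A_le_R hb))) hn,
        Subgroup.mem_centralizer_singleton_iff.2 hbc.symm⟩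
    exact hnR (by simpa using mul_mem (L.A_le_R hb) (base_R_le this))
  -- a translation gives a larger level or a closed group
  by_cases hmove : ∃ w ∈ L.W, L.d w ≠ 0
  · rcases L.step D.big hmove with ⟨L', hL'⟩ | hQ
    · refine ih _ ?_ L' rfl
      have : Nat.card L'.A ≤ Nat.card G := Nat.card_le_card_of_injective _ Subtype.val_injective
      omega
    · obtain ⟨Q⟩ := hQ
      exact Closed.false hG D Q
  push Not at hmove
  have hfaith : ∀ g ∈ L.N, (∀ v, L.ρ g v = v) → L.d g = 0 := fun g hg h =>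
    hmove g ⟨hg.1, fun v => L.comm_of_ρ hg (h v), hg.2⟩
  -- the linear part of an element fixing `0`
  have hpart : ∀ g : L.N, L.Φ g 0 = 0 → ∃ h : L.N, L.Φ h = L.Φ g ∧ t * (h : G) = h * t := by
    intro g h0
    rw [L.Φ_zero] at h0
    obtain ⟨b, hb, hbc⟩ := L.ker_d_N g.2 h0
    refine ⟨⟨b, L.R_le_N (L.A_le_R hb)⟩⁻¹ * g, ?_, hbc⟩
    rw [map_mul, map_inv, L.Φ_of_mem_R (L.A_le_R hb), inv_one, one_mul]
  have hA : Faithful.Affine L.Φ.range := by
    refine ⟨?_, ?_, ?_, fun c hc => ?_, fun v => ?_, ?_⟩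
    · rintro _ ⟨g, rfl⟩ x y
      simp only [L.Φ_apply, L.ρ_add g.2, L.ρ_zero g.2, zero_add]
      abel
    · rintro _ ⟨g, rfl⟩ h
      refine L.Φ_eq_one hfaith g fun v => ?_
      have := h v
      rwa [L.Φ_apply, L.Φ_zero, add_assoc, CharTwo.add_self_eq_zero, add_zero] at this
    · rintro _ ⟨g, rfl⟩ h0
      obtain ⟨h, hh, hht⟩ := hpart g h0
      rw [← hh]
      obtain ⟨c, σ, hσ⟩ := D.semilin h hht fun v => ⟨_, (L.ι_ρ h.2 v).symm⟩
      have hρ : ∀ v, L.ρ (h : G) v = c * σ v := fun v => Fr.ι_inj (by rw [L.ι_ρ h.2, hσ])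
      refine ⟨σ, fun x => ?_⟩
      simp only [L.Φ_apply, L.d_of_comm hht, add_zero, hρ, map_one, mul_one]
    · obtain ⟨g, hgt, hgA, hgU⟩ := L.scal c hc
      refine ⟨_, ⟨⟨g, L.scaler_mem_N ⟨hgt, hgA, hgU⟩⟩, rfl⟩, fun x => ?_⟩
      rw [L.Φ_apply, L.d_of_comm hgt, add_zero]
      exact Fr.ι_inj (by rw [L.ι_ρ (L.scaler_mem_N ⟨hgt, hgA, hgU⟩), hgU])
    · by_cases hv : v = 0
      · exact ⟨1, one_mem _, by rw [hv, Equiv.Perm.one_apply]⟩
      obtain ⟨g, hgt, hgA, hgU⟩ := L.scal (v * (L.d nn)⁻¹) (mul_ne_zero hv (inv_ne_zero hdn))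
      have hgN := L.scaler_mem_N ⟨hgt, hgA, hgU⟩
      refine ⟨_, ⟨⟨g, hgN⟩ * ⟨nn, hnN⟩, rfl⟩, ?_⟩
      rw [L.Φ_zero]
      show L.d (g * nn) = v
      rw [L.d_mul_N hgN hnN, L.d_of_comm hgt, add_zero,
        show L.ρ g (L.d nn) = v * (L.d nn)⁻¹ * L.d nn from Fr.ι_inj (by rw [L.ι_ρ hgN, hgU]),
        mul_assoc, inv_mul_cancel₀ hdn, mul_one]
    · rintro _ ⟨g, rfl⟩ h0 -
      obtain ⟨h, hh, hht⟩ := hpart g h0
      rw [← hh]
      set m := orderOf h / 2 ^ (orderOf h).factorization 2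
      have hmodd : Odd m := Nat.odd_iff.2 (Nat.two_dvd_ne_zero.1
        (Nat.not_dvd_ordCompl Nat.prime_two (orderOf_pos h).ne'))
      set u := h ^ m
      have hupow : (u : G) ^ 2 ^ (orderOf h).factorization 2 = 1 := by
        have : u ^ 2 ^ (orderOf h).factorization 2 = 1 := by
          rw [← pow_mul, mul_comm, Nat.ordProj_mul_ordCompl_eq_self, pow_orderOf_eq_one]
        exact_mod_cast congrArg Subtype.val this
      have hut : (u : G) * t = t * u := by
        rw [show (u : G) = (h : G) ^ m by simp [u]]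
        exact ((show Commute t (h : G) from hht).pow_right m).eq.symm
      have hmap : ∀ x ∈ Fr.base.R, (u : G) * x * (u : G)⁻¹ ∈ Fr.base.R := by
        intro x hx
        obtain ⟨a, rfl | rfl⟩ := Elem.mem_E.1 hx
        · exact Elem.mem_E.2 ⟨L.ρ u a, Or.inl (L.ι_ρ u.2 a).symm⟩
        · refine Elem.mem_E.2 ⟨L.ρ u a, Or.inr ?_⟩
          rw [L.ι_ρ u.2]
          calc (u : G) * (t * Fr.ι a) * (u : G)⁻¹ = (u : G) * t * Fr.ι a * (u : G)⁻¹ := by group
            _ = t * (u : G) * Fr.ι a * (u : G)⁻¹ := by rw [hut]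
            _ = _ := by group
      have hnormE : Subgroup.zpowers (u : G) ≤ Subgroup.normalizer (Fr.base.R : Set G) := by
        rw [Subgroup.zpowers_le, Subgroup.mem_normalizer_iff]
        exact fun y => ⟨hmap y, fun hy => by
          simpa [mul_assoc] using conj_mem_of_forall hmap hy⟩
      have hQ : IsPGroup 2 (Subgroup.zpowers (u : G)) := fun ⟨x, i, hi⟩ =>
        ⟨(orderOf h).factorization 2, Subtype.ext (by
          push_cast
          rw [← hi, ← zpow_natCast, ← zpow_mul, mul_comm, zpow_mul, zpow_natCast, hupow, one_zpow])⟩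
      have hsup := Fr.base.isPGroup_R.to_sup_of_normal_left' hQ hnormE
      have hle : Fr.base.R ⊔ Subgroup.zpowers (u : G) ≤ Subgroup.centralizer ({t} : Set G) :=
        sup_le (fun x hx => Subgroup.mem_centralizer_singleton_iff.2 (Elem.E_comm hx).symm)
          (Subgroup.zpowers_le.2 (Subgroup.mem_centralizer_singleton_iff.2 hut))
      have huR : (u : G) ∈ L.R := by
        refine base_R_le (L := L) ?_
        rw [← D.eq_E hsup le_sup_left fun a ha => Subgroup.mem_centralizer_singleton_iff.1 (hle ha)]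
        exact Subgroup.mem_sup_right (Subgroup.mem_zpowers _)
      have hΦu : L.Φ u = 1 := L.Φ_of_mem_R huR
      exact hmodd.of_dvd_nat (orderOf_dvd_of_pow_eq_one (by rw [← map_pow]; exact hΦu))
  obtain ⟨hK, hcard⟩ := Faithful.main D.big _ hA
  obtain ⟨p⟩ := L.exists_pdata hK hfaith hcard
  by_cases hbig : ∃ a ∈ L.A, ∀ v, a ≠ Fr.ι v
  · exact p.false_of_big D hconj hnc hG hbig
  · push Not at hbig
    exact p.false_of_small D hconj hnc hK hbig hG

end Cfsg.Agent.Lib.TwoTimesPSL
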