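import Mathlib
import Cfsg.Agent.Lib.TwoTimesPSL.Loop

/-!
# The conjugates of `t` in `E = ⟨t⟩ × U`
Owner: helper80.
-/

set_option autoImplicit false
set_option linter.unusedSectionVars false

namespace Cfsg.Agent.Lib.TwoTimesPSL

variable {G : Type*} [Group G] [Finite G] {t : G} {K : Type*} [Field K] [Finite K] [CharP K 2]
  {Fr : Frame t K}

namespace Elem

theorem zmod2_cases : ∀ z : ZMod 2, z = 0 ∨ z = 1 := by decide

variable (D : Elem Fr)

theorem sc_conj_t {c : K} (hc : c ≠ 0) : Fr.sc c * t * (Fr.sc c)⁻¹ = t := by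
  rw [← Fr.sc_comm c hc, mul_inv_cancel_right]

theorem sc_mem_E {c : K} (hc : c ≠ 0) : ∀ x ∈ Fr.base.R, Fr.sc c * x * (Fr.sc c)⁻¹ ∈ Fr.base.R := by
  intro x hx
  obtain ⟨a, rfl | rfl⟩ := mem_E.1 hx
  · exact mem_E.2 ⟨c * a, Or.inl (Fr.sc_act c a hc)⟩
  · refine mem_E.2 ⟨c * a, Or.inr ?_⟩
    rw [← Fr.sc_act c a hc]
    calc Fr.sc c * (t * Fr.ι a) * (Fr.sc c)⁻¹
        = (Fr.sc c * t * (Fr.sc c)⁻¹) * (Fr.sc c * Fr.ι a * (Fr.sc c)⁻¹) := by group
      _ = _ := by rw [sc_conj_t hc]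

theorem sc_conj_tU {c : K} (hc : c ≠ 0) (a : K) :
    Fr.sc c * (t * Fr.ι a) * (Fr.sc c)⁻¹ = t * Fr.ι (c * a) := by
  rw [← Fr.sc_act c a hc]
  calc Fr.sc c * (t * Fr.ι a) * (Fr.sc c)⁻¹
      = (Fr.sc c * t * (Fr.sc c)⁻¹) * (Fr.sc c * Fr.ι a * (Fr.sc c)⁻¹) := by group
    _ = _ := by rw [sc_conj_t hc]

theorem tU_not_mem (a : K) : t * Fr.ι a ∉ Fr.U := by
  rintro ⟨b, hb⟩
  exact Fr.t_not (b + a) (by rw [Fr.ι_add, hb, mul_assoc, Fr.ι_mul_self, mul_one])

include D in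
/-- Fusion in `E` is controlled by its normaliser. -/
theorem exists_mover {x : G} (hx : x ∈ Fr.base.R) (hc : IsConj t x) :
    ∃ h, h * t * h⁻¹ = x ∧ ∀ y ∈ Fr.base.R, h * y * h⁻¹ ∈ Fr.base.R := by
  obtain ⟨h, hh, hE⟩ := D.conj_E hc Fr.base.isPGroup_R (fun a ha => by
    calc a * x = (a * x)⁻¹ := (inv_eq_of_mul_eq_one_right (E_sq (mul_mem ha hx))).symm
      _ = x⁻¹ * a⁻¹ := mul_inv_rev a x
      _ = x * a := by
        rw [inv_eq_of_mul_eq_one_right (E_sq hx), inv_eq_of_mul_eq_one_right (E_sq ha)])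
    card_E
  exact ⟨h, hh, fun y hy => hE.le ⟨y, hy, rfl⟩⟩

include D in
theorem exists_conj_ι [IsSimpleGroup G] (hG : ¬ IsMulCommutative G) {v : K} (hv : v ≠ 0) :
    IsConj t (Fr.ι v) := by
  by_contra hne
  refine no_level hG D (fun u hu => hne ?_) Fr.base
  have hu0 : u ≠ 0 := by
    rintro rfl
    exact ne_one_of_isConj hu Fr Fr.ι_zero
  refine hu.trans (isConj_iff.2 ⟨Fr.sc (v * u⁻¹), ?_⟩)
  rw [Fr.sc_act _ _ (mul_ne_zero hv (inv_ne_zero hu0)), mul_assoc, inv_mul_cancel₀ hu0, mul_one]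

include D in
theorem all_conj [IsSimpleGroup G] (hG : ¬ IsMulCommutative G) {x : G} (hx : x ∈ Fr.base.R)
    (hx1 : x ≠ 1) : IsConj t x := by
  classical
  haveI := Fintype.ofFinite K
  obtain ⟨a, rfl | rfl⟩ := mem_E.1 hx
  · exact D.exists_conj_ι hG (fun h => hx1 (by rw [h, Fr.ι_zero]))
  by_cases ha : a = 0
  · rw [ha, Fr.ι_zero, mul_one]
  by_contra hne
  have hno : ∀ b, b ≠ 0 → ¬ IsConj t (t * Fr.ι b) := fun b hb hc => hne (hc.trans
    (isConj_iff.2 ⟨Fr.sc (a * b⁻¹), by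
      rw [sc_conj_tU (mul_ne_zero ha (inv_ne_zero hb)), mul_assoc, inv_mul_cancel₀ hb, mul_one]⟩))
  obtain ⟨h, hh, hhE⟩ := D.exists_mover (x := Fr.ι 1) (mem_E.2 ⟨1, Or.inl rfl⟩)
    (D.exists_conj_ι hG one_ne_zero)
  have hcl : ∀ u, u ≠ 0 → h * Fr.ι u * h⁻¹ = t ∨ h * Fr.ι u * h⁻¹ ∈ Fr.U := by
    intro u hu
    have hc : IsConj t (h * Fr.ι u * h⁻¹) :=
      (D.exists_conj_ι hG hu).trans (isConj_iff.2 ⟨h, rfl⟩)
    obtain ⟨b, e | e⟩ := mem_E.1 (hhE _ (mem_E.2 ⟨u, Or.inl rfl⟩))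
    · exact Or.inr ⟨b, e.symm⟩
    · by_cases hb : b = 0
      · exact Or.inl (by rw [e, hb, Fr.ι_zero, mul_one])
      · exact absurd (e ▸ hc) (hno b hb)
  by_cases hall : ∀ u, h * Fr.ι u * h⁻¹ ∈ Fr.U
  · have heq : Fr.U.map (MulAut.conj h).toMonoidHom = Fr.U := by
      refine Subgroup.eq_of_le_of_card_ge ?_ (by
        rw [Subgroup.card_map_of_injective (MulAut.conj h).injective])
      rintro _ ⟨_, ⟨u, rfl⟩, rfl⟩
      exact hall u
    have h1 : Fr.ι 1 ∈ Fr.U.map (MulAut.conj h).toMonoidHom := by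
      rw [heq]; exact ⟨1, rfl⟩
    obtain ⟨_, ⟨u, rfl⟩, e⟩ := h1
    have e' : h * Fr.ι u * h⁻¹ = h * t * h⁻¹ := e.trans hh.symm
    exact Fr.t_not u (mul_left_cancel (mul_right_cancel e')).symm
  push Not at hall
  obtain ⟨u, hu⟩ := hall
  have hu0 : u ≠ 0 := fun e => hu (by rw [e, Fr.ι_zero, mul_one, mul_inv_cancel]; exact one_mem _)
  have hut := (hcl u hu0).resolve_right hu
  obtain ⟨w, -, hw⟩ := Finset.exists_mem_notMem_of_card_lt_card
    (t := (Finset.univ : Finset K)) (s := {0, u}) (by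
      have h2 := Finset.card_le_two (a := (0 : K)) (b := u)
      have h3 := D.big
      rw [Nat.card_eq_fintype_card] at h3
      rw [Finset.card_univ]
      omega)
  simp only [Finset.mem_insert, Finset.mem_singleton, not_or] at hw
  rcases hcl w hw.1 with e | e
  · exact hw.2 (Fr.ι_inj (mul_left_cancel (mul_right_cancel (e.trans hut.symm))))
  · obtain ⟨b, hb⟩ := e
    have e2 : h * Fr.ι (u + w) * h⁻¹ = t * Fr.ι b := by
      rw [Fr.ι_add, hb]
      calc h * (Fr.ι u * Fr.ι w) * h⁻¹ = (h * Fr.ι u * h⁻¹) * (h * Fr.ι w * h⁻¹) := by group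
        _ = _ := by rw [hut]
    have hb0 : b ≠ 0 := fun e => hw.1 (Fr.ι_eq_one (conj_eq_one_iff.1 (by
      rw [← hb, e, Fr.ι_zero])))
    exact hno b hb0 (e2 ▸ (D.exists_conj_ι hG (fun e => hw.2 (CharTwo.add_eq_zero.1 e).symm)).trans
      (isConj_iff.2 ⟨h, rfl⟩))

include D in
theorem E_max [IsSimpleGroup G] (hG : ¬ IsMulCommutative G) {S : Subgroup G} (hS : IsPGroup 2 S)
    (hES : Fr.base.R ≤ S) : S = Fr.base.R := by
  classical
  haveI : Fact (Nat.Prime 2) := ⟨Nat.prime_two⟩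
  refine le_antisymm ?_ hES
  by_contra hne
  obtain ⟨n, hn, hnE, hnorm⟩ := Basics.exists_normalizing_in hS hES hne
  set S' := S ⊓ Subgroup.normalizer (Fr.base.R : Set G)
  have hES' : Fr.base.R ≤ S' := fun y hy => Subgroup.mem_inf.2 ⟨hES hy, Subgroup.le_normalizer hy⟩
  have hnS' : n ∈ S' := Subgroup.mem_inf.2 ⟨hn, Subgroup.mem_normalizer_iff.2 fun y =>
    ⟨hnorm y, fun hy => by simpa [mul_assoc] using conj_mem_of_forall hnorm hy⟩⟩
  letI : MulAction S' {x : G // x ∈ Fr.base.R ∧ x ≠ 1} :=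
    { smul := fun s x => ⟨(s : G) * x * (s : G)⁻¹,
        ((Subgroup.mem_normalizer_iff.1 (Subgroup.mem_inf.1 s.2).2) x).1 x.2.1,
        fun h => x.2.2 (conj_eq_one_iff.1 h)⟩
      one_smul := fun x => Subtype.ext (by show ((1 : S') : G) * x * ((1 : S') : G)⁻¹ = x; simp)
      mul_smul := fun a b x => Subtype.ext (by
        show ((a * b : S') : G) * x * ((a * b : S') : G)⁻¹ =
          (a : G) * ((b : G) * x * (b : G)⁻¹) * (a : G)⁻¹
        push_cast; group) }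
  have hcard : Nat.card {x : G // x ∈ Fr.base.R ∧ x ≠ 1} + 1 = 2 * Nat.card K := by
    rw [← card_E (Fr := Fr), ← Nat.card_congr (Equiv.sumCompl fun x : Fr.base.R => (x : G) ≠ 1),
      Nat.card_sum]
    congr 1
    · exact Nat.card_congr
        { toFun := fun x => ⟨⟨x.1, x.2.1⟩, x.2.2⟩
          invFun := fun x => ⟨x.1.1, x.1.2, x.2⟩
          left_inv := fun _ => rfl
          right_inv := fun _ => rfl }
    · haveI : Unique {x : Fr.base.R // ¬ (x : G) ≠ 1} :=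
        { default := ⟨1, by simp⟩
          uniq := fun x => Subtype.ext (Subtype.ext (by simpa using x.2)) }
      simp
  obtain ⟨⟨x, hxE, hx1⟩, hfix⟩ := (hS.to_le inf_le_left :
    IsPGroup 2 S').nonempty_fixed_point_of_prime_not_dvd_card
      {x : G // x ∈ Fr.base.R ∧ x ≠ 1} (by omega)
  have hc : ∀ a ∈ S', a * x = x * a := fun a ha =>
    mul_inv_eq_iff_eq_mul.1 (congrArg Subtype.val (hfix ⟨a, ha⟩))
  have hle := D.card_dvd_conj (D.all_conj hG hxE hx1) (hS.to_le inf_le_left) hc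
  rw [← card_E (Fr := Fr)] at hle
  have heq := Subgroup.eq_of_le_of_card_ge hES' (Nat.le_of_dvd Nat.card_pos hle)
  exact hnE (heq.symm ▸ hnS')

include D in
/-- The order of `K` is four. -/
theorem card_K [IsSimpleGroup G] (hG : ¬ IsMulCommutative G) : Nat.card K = 4 := by
  classical
  haveI : Fact (Nat.Prime 2) := ⟨Nat.prime_two⟩
  have hmov : ∀ x : Fr.base.R, (x : G) ≠ 1 → ∃ h, h * t * h⁻¹ = (x : G) ∧
      ∀ y ∈ Fr.base.R, h * y * h⁻¹ ∈ Fr.base.R :=
    fun x hx => D.exists_mover x.2 (D.all_conj hG x.2 hx)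
  choose hv hvt hvE using hmov
  have hvi : ∀ (a : Fr.base.R) (ha : (a : G) ≠ 1) (y : G), y ∈ Fr.base.R →
      (hv a ha)⁻¹ * y * hv a ha ∈ Fr.base.R := fun a ha y hy => conj_mem_of_forall (hvE a ha) hy
  letI : CommGroup (Fr.base.R : Subgroup G) :=
    { (inferInstance : Group (Fr.base.R : Subgroup G)) with
      mul_comm := fun a b => Subtype.ext (by
        push_cast
        calc (a : G) * b = ((a : G) * b)⁻¹ :=
              (inv_eq_of_mul_eq_one_right (E_sq (mul_mem a.2 b.2))).symm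
          _ = (b : G)⁻¹ * (a : G)⁻¹ := mul_inv_rev _ _
          _ = (b : G) * a := by
            rw [inv_eq_of_mul_eq_one_right (E_sq a.2), inv_eq_of_mul_eq_one_right (E_sq b.2)]) }
  letI : Module (ZMod 2) (Additive (Fr.base.R : Subgroup G)) :=
    AddCommGroup.zmodModule (fun x => by
      rw [two_nsmul]
      exact congrArg Additive.ofMul (Subtype.ext (E_sq (Additive.toMul x).2) :
        Additive.toMul x * Additive.toMul x = 1))
  let χ : Fr.base.R → ZMod 2 := fun y => if (y : G) ∈ Fr.U then 0 else 1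
  have hχ : ∀ y z, χ (y * z) = χ y + χ z := by
    intro y z
    have h2 : ∀ {y z : G}, y ∈ Fr.base.R → y ∉ Fr.U → z ∈ Fr.base.R → z ∉ Fr.U → y * z ∈ Fr.U := by
      intro y z hy hy' hz hz'
      obtain ⟨a, rfl | rfl⟩ := mem_E.1 hy
      · exact absurd ⟨a, rfl⟩ hy'
      obtain ⟨b, rfl | rfl⟩ := mem_E.1 hz
      · exact absurd ⟨b, rfl⟩ hz'
      refine ⟨a + b, ?_⟩
      calc Fr.ι (a + b) = t * t * (Fr.ι a * Fr.ι b) := by rw [Fr.ι_add, Fr.t_inv, one_mul]
        _ = t * (t * Fr.ι a) * Fr.ι b := by group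
        _ = t * (Fr.ι a * t) * Fr.ι b := by rw [Fr.ι_comm]
        _ = _ := by group
    simp only [χ, Subgroup.coe_mul]
    by_cases hy : (y : G) ∈ Fr.U <;> by_cases hz : (z : G) ∈ Fr.U
    · rw [if_pos hy, if_pos hz, if_pos (mul_mem hy hz), add_zero]
    · rw [if_pos hy, if_neg hz, if_neg (fun h => hz (by simpa using mul_mem (inv_mem hy) h)),
        zero_add]
    · rw [if_neg hy, if_pos hz, if_neg (fun h => hy (by simpa using mul_mem h (inv_mem hz))),
        add_zero]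
    · rw [if_neg hy, if_neg hz, if_pos (h2 y.2 hy z.2 hz)]
      exact (CharTwo.add_self_eq_zero (1 : ZMod 2)).symm
  set ι' := {a : Fr.base.R // (a : G) ≠ 1}
  let cj : ι' → Fr.base.R → Fr.base.R := fun a y => ⟨_, hvi a.1 a.2 _ y.2⟩
  let Lf : ι' → Module.Dual (ZMod 2) (Additive (Fr.base.R : Subgroup G)) := fun a =>
    (AddMonoidHom.toZModLinearMap 2 (AddMonoidHom.mk' (fun y => χ (cj a (Additive.toMul y)))
      fun y z => by
        rw [← hχ]
        congr 1
        exact Subtype.ext (by simp only [cj, toMul_add, Subgroup.coe_mul]; group)))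
  have hL : ∀ (a : ι') (y : Fr.base.R), Lf a (Additive.ofMul y) = χ (cj a y) := fun _ _ => rfl
  -- no element exchanges two points
  have hswap : ∀ g, (∀ y ∈ Fr.base.R, g * y * g⁻¹ ∈ Fr.base.R) → ∀ a b : G, a ∈ Fr.base.R →
      g * a * g⁻¹ = b → g * b * g⁻¹ = a → a = b := by
    intro g hg a b ha hab hba
    set m := orderOf g / 2 ^ (orderOf g).factorization 2
    obtain ⟨i, hi⟩ : Odd m := Nat.odd_iff.2 (Nat.two_dvd_ne_zero.1
      (Nat.not_dvd_ordCompl Nat.prime_two (orderOf_pos g).ne'))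
    have hpow : ∀ j : ℕ, g ^ (2 * j) * a * (g ^ (2 * j))⁻¹ = a := by
      intro j
      induction j with
      | zero => simp
      | succ j ih =>
        calc g ^ (2 * (j + 1)) * a * (g ^ (2 * (j + 1)))⁻¹
            = g * (g * (g ^ (2 * j) * a * (g ^ (2 * j))⁻¹) * g⁻¹) * g⁻¹ := by
              rw [show 2 * (j + 1) = 2 * j + 1 + 1 by ring, pow_succ', pow_succ']; group
          _ = a := by rw [ih, hab, hba]
    have hmb : g ^ m * a * (g ^ m)⁻¹ = b := by
      rw [hi, pow_succ']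
      calc g * g ^ (2 * i) * a * (g * g ^ (2 * i))⁻¹
          = g * (g ^ (2 * i) * a * (g ^ (2 * i))⁻¹) * g⁻¹ := by group
        _ = b := by rw [hpow, hab]
    have hgN : g ∈ Subgroup.normalizer (Fr.base.R : Set G) := Subgroup.mem_normalizer_iff.2 fun y =>
      ⟨hg y, fun hy => by simpa [mul_assoc] using conj_mem_of_forall hg hy⟩
    have hQ : IsPGroup 2 (Subgroup.zpowers (g ^ m)) := fun ⟨x, i, hx⟩ =>
      ⟨(orderOf g).factorization 2, Subtype.ext (by
        push_cast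
        rw [← hx, ← zpow_natCast, ← zpow_mul, mul_comm, zpow_mul, zpow_natCast, ← pow_mul,
          mul_comm, Nat.ordProj_mul_ordCompl_eq_self, pow_orderOf_eq_one, one_zpow])⟩
    have hsup := Fr.base.isPGroup_R.to_sup_of_normal_left' hQ
      (Subgroup.zpowers_le.2 (pow_mem hgN m))
    have hgE : g ^ m ∈ Fr.base.R := by
      rw [← D.E_max hG hsup le_sup_left]
      exact Subgroup.mem_sup_right (Subgroup.mem_zpowers _)
    rw [← hmb]
    calc a = a * g ^ m * (g ^ m)⁻¹ := by group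
      _ = g ^ m * a * (g ^ m)⁻¹ := by
        have := inv_eq_of_mul_eq_one_right (E_sq (mul_mem ha hgE))
        rw [mul_inv_rev, inv_eq_of_mul_eq_one_right (E_sq ha),
          inv_eq_of_mul_eq_one_right (E_sq hgE)] at this
        rw [this]
  -- no two points are in relation both ways
  have hrel : ∀ a b : ι', a ≠ b → χ (cj a b.1) = χ (cj b a.1) → False := by
    intro a b hab heq
    set α := hv a.1 a.2
    set β := hv b.1 b.2
    have hne : (a.1 : G) ≠ b.1 := fun e => hab (Subtype.ext (Subtype.ext e))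
    have hmem : ∀ u : G, u ∈ Fr.base.R → u ≠ 1 → u ≠ t →
        ∃ x : K, x ≠ 0 ∧ ((u ∈ Fr.U ∧ u = Fr.ι x) ∨ (u ∉ Fr.U ∧ u = t * Fr.ι x)) := by
      intro u hu h1 hnt
      obtain ⟨x, rfl | rfl⟩ := mem_E.1 hu
      · exact ⟨x, fun e => h1 (by rw [e, Fr.ι_zero]), Or.inl ⟨⟨x, rfl⟩, rfl⟩⟩
      · exact ⟨x, fun e => hnt (by rw [e, Fr.ι_zero, mul_one]), Or.inr ⟨tU_not_mem x, rfl⟩⟩
    have ha' : α * t * α⁻¹ = a.1 := hvt a.1 a.2
    have hb' : β * t * β⁻¹ = b.1 := hvt b.1 b.2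
    obtain ⟨x, hx, hxu⟩ := hmem _ (cj a b.1).2 (fun e => b.2 (by
        have e' : α⁻¹ * (b.1 : G) * α⁻¹⁻¹ = 1 := by rw [inv_inv]; exact e
        exact conj_eq_one_iff.1 e'))
      (fun e => hne (by
        have e' : α⁻¹ * (b.1 : G) * α = t := e
        calc (a.1 : G) = α * t * α⁻¹ := ha'.symm
          _ = α * (α⁻¹ * (b.1 : G) * α) * α⁻¹ := by rw [e']
          _ = b.1 := by group))
    obtain ⟨y, hy, hyu⟩ := hmem _ (cj b a.1).2 (fun e => a.2 (by
        have e' : β⁻¹ * (a.1 : G) * β⁻¹⁻¹ = 1 := by rw [inv_inv]; exact e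
        exact conj_eq_one_iff.1 e'))
      (fun e => hne (by
        have e' : β⁻¹ * (a.1 : G) * β = t := e
        calc (a.1 : G) = β * (β⁻¹ * (a.1 : G) * β) * β⁻¹ := by group
          _ = β * t * β⁻¹ := by rw [e']
          _ = b.1 := hb'))
    have hs : y * x⁻¹ ≠ 0 := mul_ne_zero hy (inv_ne_zero hx)
    set s := Fr.sc (y * x⁻¹)
    have hsu : s * (cj a b.1 : G) * s⁻¹ = (cj b a.1 : G) := by
      simp only [χ] at heq
      rcases hxu with ⟨h1, e1⟩ | ⟨h1, e1⟩ <;> rcases hyu with ⟨h2, e2⟩ | ⟨h2, e2⟩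
      · rw [e1, e2, Fr.sc_act _ _ hs, mul_assoc, inv_mul_cancel₀ hx, mul_one]
      · rw [if_pos h1, if_neg h2] at heq
        exact absurd heq zero_ne_one
      · rw [if_neg h1, if_pos h2] at heq
        exact absurd heq one_ne_zero
      · rw [e1, e2, sc_conj_tU hs, mul_assoc, inv_mul_cancel₀ hx, mul_one]
    have hst : s * t * s⁻¹ = t := sc_conj_t hs
    refine hne (hswap (β * s * α⁻¹) (fun z hz => ?_) a.1 b.1 a.1.2 ?_ ?_)
    · rw [show β * s * α⁻¹ * z * (β * s * α⁻¹)⁻¹ = β * (s * (α⁻¹ * z * α) * s⁻¹) * β⁻¹ by group]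
      exact hvE _ _ _ (sc_mem_E hs _ (hvi _ _ _ hz))
    · rw [show β * s * α⁻¹ * (a.1 : G) * (β * s * α⁻¹)⁻¹ =
        β * (s * (α⁻¹ * (a.1 : G) * α) * s⁻¹) * β⁻¹ by group,
        show α⁻¹ * (a.1 : G) * α = t by rw [← ha']; group, hst, hb']
    · rw [show β * s * α⁻¹ * (b.1 : G) * (β * s * α⁻¹)⁻¹ =
        β * (s * (α⁻¹ * (b.1 : G) * α) * s⁻¹) * β⁻¹ by group,
        show s * (α⁻¹ * (b.1 : G) * α) * s⁻¹ = β⁻¹ * (a.1 : G) * β from hsu]
      group
  have hz := zmod2_cases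
  have hT := Field2.tournament (ι := ι') (fun a => Additive.ofMul a.1) Lf
    (fun a => by
      rw [hL]
      have e : ((cj a a.1 : Fr.base.R) : G) = t := by
        show (hv a.1 a.2)⁻¹ * (a.1 : G) * hv a.1 a.2 = t
        calc (hv a.1 a.2)⁻¹ * (a.1 : G) * hv a.1 a.2
            = (hv a.1 a.2)⁻¹ * (hv a.1 a.2 * t * (hv a.1 a.2)⁻¹) * hv a.1 a.2 := by
              rw [hvt a.1 a.2]
          _ = t := by group
      simp only [χ, e]
      exact if_neg fun ⟨u, hu⟩ => Fr.t_not u hu.symm)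
    (fun a b hab => by
      rw [hL, hL]
      rcases hz (χ (cj a b.1)) with h | h <;> rcases hz (χ (cj b a.1)) with h' | h' <;>
        first
          | exact (hrel a b hab (h.trans h'.symm)).elim
          | (rw [h, h']; simp))
  have hι : Nat.card ι' + 1 = 2 * Nat.card K := by
    rw [← card_E (Fr := Fr), ← Nat.card_congr (Equiv.sumCompl fun x : Fr.base.R => (x : G) ≠ 1),
      Nat.card_sum]
    congr 1
    haveI : Unique {x : Fr.base.R // ¬ (x : G) ≠ 1} :=
      { default := ⟨1, by simp⟩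
        uniq := fun x => Subtype.ext (Subtype.ext (by simpa using x.2)) }
    simp
  have hd := Module.natCard_eq_pow_finrank (K := ZMod 2)
    (V := Additive (Fr.base.R : Subgroup G))
  rw [Nat.card_congr Additive.toMul, card_E, Nat.card_zmod] at hd
  set d := Module.finrank (ZMod 2) (Additive (Fr.base.R : Subgroup G))
  have hb := D.big
  have h2 : 2 ^ d ≤ 2 * d + 2 := by omega
  have hd4 : d < 4 := by
    by_contra hge
    have : ∀ n, 4 ≤ n → 2 * n + 2 < 2 ^ n := by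
      intro n hn
      induction n, hn using Nat.le_induction with
      | base => norm_num
      | succ n hn ih => rw [pow_succ]; omega
    have := this d (by omega)
    omega
  interval_cases d <;> omega

include D in
theorem conclusion [IsSimpleGroup G] (hG : ¬ IsMulCommutative G) (S : Sylow 2 G) :
    Nat.card ↥(S : Subgroup G) = 8 ∧ ∀ x ∈ (S : Subgroup G), x ^ 2 = 1 := by
  haveI : Fact (Nat.Prime 2) := ⟨Nat.prime_two⟩
  obtain ⟨P, hP⟩ := Fr.base.isPGroup_R.exists_le_sylow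
  have hPE := D.E_max hG P.isPGroup' hP
  obtain ⟨g, hg⟩ := MulAction.exists_smul_eq G P S
  have hS : (S : Subgroup G) = Fr.base.R.map (MulAut.conj g).toMonoidHom := by
    rw [← hg, ← hPE, Sylow.coe_subgroup_smul]
    rfl
  refine ⟨?_, ?_⟩
  · rw [hS, Subgroup.card_map_of_injective (MulAut.conj g).injective, card_E, D.card_K hG]
  · rw [hS]
    rintro _ ⟨y, hy, rfl⟩
    rw [← map_pow, pow_two, E_sq hy, map_one]

end Elem

end Cfsg.Agent.Lib.TwoTimesPSL
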