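import Mathlib
import Cfsg.Agent.Lib.Linear.Simple
import Cfsg.Agent.Lib.Linear.Order
import Cfsg.Agent.Lib.Linear.Unipotent
import Cfsg.Agent.Lib.HallPSL.Dihedral
import Cfsg.Agent.Lib.PSLFacts.FourGroups
import Cfsg.Agent.Lib.RecogThree.PSL2Orders
import Cfsg.Agent.Lib.TwoTimesPSL.DihFrame

/-!
# Sylow `2`-subgroups of `PSL(2, q)` and their normalisers
Owner: helper80.
-/

set_option autoImplicit false
set_option linter.unusedSectionVars false

namespace Cfsg.Agent.Lib.TwoTimesPSL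

/-- An elementary Sylow `2`-subgroup whose normaliser acts as the scalars. -/
structure ElemInput (P : Type*) [Group P] (K : Type*) [Field K] where
  η : K → P
  inj : Function.Injective η
  add : ∀ a b, η (a + b) = η a * η b
  T0 : Subgroup P
  mem : ∀ x, x ∈ T0 ↔ ∃ v, η v = x
  odd : T0.index % 2 = 1
  scal : ∀ c : K, c ≠ 0 → ∃ p, ∀ v, p * η v * p⁻¹ = η (c * v)
  norm : ∀ p, (∀ v, ∃ w, p * η v * p⁻¹ = η w) → ∃ c, ∀ v, p * η v * p⁻¹ = η (c * v)

/-- A dihedral Sylow `2`-subgroup with fused involutions. -/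
structure DihInput (P : Type*) [Group P] where
  r : P
  s : P
  h : ℕ
  h_pos : 0 < h
  ord : orderOf r = 4 * h
  s_sq : s * s = 1
  s_inv : s * r * s⁻¹ = r⁻¹
  s_not : s ∉ Subgroup.zpowers r
  T0 : Subgroup P
  mem : ∀ x, x ∈ T0 ↔ ∃ i : ℤ, x = r ^ i ∨ x = r ^ i * s
  pgroup : IsPGroup 2 T0
  odd : T0.index % 2 = 1
  fuse : ∀ i : ℤ, ∃ c, c * r ^ (2 * (h : ℤ)) * c⁻¹ = r ^ i * s
  cycle : ∃ g, g * r ^ (2 * (h : ℤ)) * g⁻¹ = s ∧ g * s * g⁻¹ = r ^ (2 * (h : ℤ)) * s

namespace PSLInput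

open Matrix Cfsg.Agent.Lib Cfsg.Agent.Lib.Linear
open Cfsg.Agent.Lib.PSLTwo.Sylow Cfsg.Agent.Lib.PSLTwo.ClassSize Cfsg.Agent.Lib.PSLFacts.Invol
open Cfsg.Agent.Lib.SL2Tori Cfsg.Agent.Lib.SL2Tori.Products Cfsg.Agent.Lib.PSLFacts.FourCount
open Cfsg.Agent.Lib.PSLFacts.FourGroups

variable {F : Type*} [Field F] [Fintype F]

local notation "SL2" => Matrix.SpecialLinearGroup (Fin 2) F
local notation "M2" => Matrix (Fin 2) (Fin 2) F
local notation "PSL2" => Matrix.ProjectiveSpecialLinearGroup (Fin 2) F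

theorem psl_simple (hF : 3 < Fintype.card F) : IsSimpleGroup PSL2 :=
  Linear.isSimpleGroup_PSL (n := 2) le_rfl fun _ => by rw [Nat.card_eq_fintype_card]; omega

theorem psl_not_comm (hF : 3 < Fintype.card F) : ¬ IsMulCommutative PSL2 := fun h => by
  haveI : Nontrivial (Fin 2) := Fin.nontrivial_iff_two_le.2 le_rfl
  obtain ⟨a, b, hab⟩ := Linear.exists_not_commute_PSL (ι := Fin 2) (F := F)
    (commutator_SL_eq_top le_rfl fun _ => by rw [Nat.card_eq_fintype_card]; omega)
  exact hab (h.is_comm.comm a b)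

/-- The upper unitriangular elements. -/
def up (x : F) : SL2 := mk2 1 x 0 1 (by ring)

theorem even_input [CharP F 2] : Nonempty (ElemInput PSL2 F) := by
  classical
  have h2 : (2 : F) = 0 := CharTwo.two_eq_zero
  have hcen : ∀ {x y : SL2}, (x : PSL2) = (y : PSL2) → x = y := fun {x y} h => by
    have h' : x⁻¹ * y ∈ Subgroup.center SL2 := QuotientGroup.eq.1 h
    exact inv_mul_eq_one.1 (RecogThree.PSL2Orders.center_eq_one h2 h')
  have hadd : ∀ a b : F, up (a + b) = up a * up b := fun a b => by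
    apply slExt <;> simp [up, PSLTwo.Sylow.mul_apply', add_comm]
  let f : Multiplicative F →* PSL2 :=
    { toFun := fun x => ((up (Multiplicative.toAdd x) : SL2) : PSL2)
      map_one' := by
        rw [show up (Multiplicative.toAdd (1 : Multiplicative F)) = 1 by
          apply slExt <;> simp [up, one_apply']]
        rfl
      map_mul' := fun a b => by rw [toAdd_mul, hadd]; rfl }
  have hinj : Function.Injective fun v : F => ((up v : SL2) : PSL2) := fun a b h => by
    have := congrArg (fun g : SL2 => g.1 0 1) (hcen h)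
    simpa [up] using this
  have hconj : ∀ (k : SL2) (c v : F), k.1 1 0 = 0 → c * k.1 1 1 = k.1 0 0 →
      k * up v * k⁻¹ = up (c * v) := by
    intro k c v hk hc
    rw [mul_inv_eq_iff_eq_mul]
    apply slExt <;> simp [up, PSLTwo.Sylow.mul_apply', hk]
    linear_combination (-v) * hc
  refine ⟨{ η := fun v => ((up v : SL2) : PSL2)
            inj := hinj
            add := fun a b => by rw [hadd]; rfl
            T0 := f.range
            mem := fun x => ⟨fun ⟨v, hv⟩ => ⟨Multiplicative.toAdd v, hv⟩,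
              fun ⟨v, hv⟩ => ⟨Multiplicative.ofAdd v, hv⟩⟩
            odd := ?_
            scal := fun c hc => ?_
            norm := fun p hp => ?_ }⟩
  · have hcard : Nat.card f.range = Fintype.card F := by
      rw [← Nat.card_congr (MonoidHom.ofInjective (f := f) fun a b h => hinj h).toEquiv,
        Nat.card_congr (Multiplicative.toAdd (α := F)), Nat.card_eq_fintype_card]
    have he : Even (Fintype.card F) := by
      obtain ⟨n, -, hn⟩ := FiniteField.card F 2
      rw [hn]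
      exact (Nat.even_pow).2 ⟨even_two, n.pos.ne'⟩
    have h := Subgroup.card_mul_index f.range
    rw [hcard, card_PSL_two_of_even he, mul_assoc] at h
    rw [Nat.eq_of_mul_eq_mul_left Fintype.card_pos h]
    obtain ⟨j, hj⟩ := he
    rw [Nat.mul_mod, show (Fintype.card F - 1) % 2 = 1 by have := Fintype.card_pos (α := F); omega,
      show (Fintype.card F + 1) % 2 = 1 by omega]
  · haveI : Fact (Nat.Prime 2) := ⟨Nat.prime_two⟩
    obtain ⟨a, ha⟩ := (Finite.injective_iff_surjective.1 (frobenius_inj F 2)) c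
    have ha' : a ^ 2 = c := ha
    have ha0 : a ≠ 0 := fun e => hc (by rw [← ha', e, zero_pow two_ne_zero])
    refine ⟨((mk2 a 0 0 a⁻¹ (by field_simp; ring) : SL2) : PSL2), fun v => ?_⟩
    rw [← hconj (mk2 a 0 0 a⁻¹ (by field_simp; ring)) c v (by simp) (by
      simp only [mk2_11, mk2_00]
      rw [← ha']
      field_simp)]
    rfl
  · obtain ⟨k, rfl⟩ := QuotientGroup.mk_surjective p
    obtain ⟨w, hw⟩ := hp 1
    have hw' : k * up 1 * k⁻¹ = up w := hcen hw
    rw [mul_inv_eq_iff_eq_mul] at hw'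
    have e00 := congrArg (fun g : SL2 => g.1 1 1) hw'
    simp [up, PSLTwo.Sylow.mul_apply'] at e00
    have hdet := det_eq k
    rw [e00, mul_zero, sub_zero] at hdet
    have h11 : k.1 1 1 ≠ 0 := fun e => by simp [e] at hdet
    refine ⟨k.1 0 0 / k.1 1 1, fun v => ?_⟩
    rw [← hconj k (k.1 0 0 / k.1 1 1) v e00 (div_mul_cancel₀ _ h11)]
    rfl

theorem isPair_iff {u v : PSL2} (hu : u * u = 1) (hu1 : u ≠ 1) (hv : v * v = 1) (hv1 : v ≠ 1)
    (hne : u ≠ v) (hc : u * v = v * u) : IsPair u v :=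
  ⟨orderOf_eq_prime (by rw [pow_two]; exact hu) hu1, orderOf_eq_prime (by rw [pow_two]; exact hv) hv1,
    hne, hc⟩

theorem involutions_conj (h2 : (2 : F) ≠ 0) {u v : PSL2} (hu : orderOf u = 2) (hv : orderOf v = 2) :
    ∃ g, g * u * g⁻¹ = v := by
  have hF2 : Fintype.card F % 2 = 1 := FiniteField.odd_card_of_char_ne_two fun h => h2 (by
    have := ringChar.Nat.cast_ringChar (R := F)
    rw [h] at this
    exact_mod_cast this)
  obtain ⟨x, rfl, hx⟩ := trace_zero_of_involution hu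
  obtain ⟨y, rfl, hy⟩ := trace_zero_of_involution hv
  obtain ⟨g, hg⟩ := exists_conj hF2 h2 (sq_ne_four h2 hx) (hy.trans hx.symm)
  exact ⟨proj g, by rw [← hg, map_mul, map_mul, map_inv]⟩

theorem pair_rotation (h2 : (2 : F) ≠ 0) {u v : PSL2} (h : IsPair u v) :
    ∃ g, g * u * g⁻¹ = v ∧ g * v * g⁻¹ = u * v := by
  obtain ⟨x, y, rfl, rfl, ha⟩ := exists_anti h2 h
  obtain ⟨z, hz1, hz2⟩ := ha.exists_rotation h2
  refine ⟨proj z, ?_, ?_⟩
  · rw [mul_inv_eq_iff_eq_mul, ← map_mul, ← map_mul, hz1]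
  · rw [mul_inv_eq_iff_eq_mul, ← map_mul, ← map_mul, ← map_mul, hz2]

theorem dd_odd (h : Fintype.card F % 2 = 1) : RecogThree.PSL2Orders.dd (Fintype.card F) = 2 :=
  if_neg (fun h' => by omega)

/-- `q ≡ ±1 (mod 8)`. -/
theorem dih_input (h8 : Fintype.card F % 8 = 1 ∨ Fintype.card F % 8 = 7) :
    Nonempty (DihInput PSL2) := by
  classical
  haveI : Fact (Nat.Prime 2) := ⟨Nat.prime_two⟩
  have hodd : Fintype.card F % 2 = 1 := by omega
  have h2 : (2 : F) ≠ 0 := two_ne_zero_of_odd hodd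
  have hone := Fintype.one_lt_card (α := F)
  obtain ⟨p, hp⟩ := CharP.exists F
  haveI : Fact p.Prime := ⟨(CharP.char_is_prime_or_zero F p).resolve_right
    (CharP.char_ne_zero_of_finite F p)⟩
  obtain ⟨⟨y1, hy1⟩, ⟨y2, hy2⟩, -⟩ := RecogThree.PSL2Orders.exists_orders (F := F) p
  rw [dd_odd hodd] at hy1 hy2
  have hPSL := two_mul_card_PSL_two_of_odd (F := F) (Nat.odd_iff.2 hodd)
  obtain ⟨y, m, o, hy, hm4, hoo, hcard⟩ : ∃ (y : PSL2) (m o : ℕ), orderOf y = m ∧ m % 4 = 0 ∧
      o % 2 = 1 ∧ Nat.card PSL2 = 2 * m * o := by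
    rcases h8 with h8 | h8
    · refine ⟨y1, (Fintype.card F - 1) / 2, Fintype.card F * ((Fintype.card F + 1) / 2), hy1,
        by omega, ?_, ?_⟩
      · rw [Nat.mul_mod, hodd, show (Fintype.card F + 1) / 2 % 2 = 1 by omega]
      · have e1 : Fintype.card F - 1 = 2 * ((Fintype.card F - 1) / 2) := by omega
        have e2 : Fintype.card F + 1 = 2 * ((Fintype.card F + 1) / 2) := by omega
        rw [e1, e2] at hPSL
        linarith [hPSL]
    · refine ⟨y2, (Fintype.card F + 1) / 2, Fintype.card F * ((Fintype.card F - 1) / 2), hy2,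
        by omega, ?_, ?_⟩
      · rw [Nat.mul_mod, hodd, show (Fintype.card F - 1) / 2 % 2 = 1 by omega]
      · have e1 : Fintype.card F - 1 = 2 * ((Fintype.card F - 1) / 2) := by omega
        have e2 : Fintype.card F + 1 = 2 * ((Fintype.card F + 1) / 2) := by omega
        rw [e1, e2] at hPSL
        linarith [hPSL]
  have hm0 : m ≠ 0 := hy ▸ (orderOf_pos y).ne'
  obtain ⟨a, b, hb, hab⟩ := Nat.exists_eq_two_pow_mul_odd hm0
  obtain ⟨a', rfl⟩ : ∃ a', a = a' + 2 := by
    refine ⟨a - 2, ?_⟩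
    rcases a with _ | _ | a
    · obtain ⟨j, rfl⟩ := hb; omega
    · obtain ⟨j, rfl⟩ := hb; omega
    · omega
  set r := y ^ b with hrdef
  have hr : orderOf r = 4 * 2 ^ a' := by
    have hb0 : b ≠ 0 := by obtain ⟨j, rfl⟩ := hb; omega
    rw [hrdef, orderOf_pow_of_dvd hb0 (by rw [hy, hab]; exact dvd_mul_left _ _), hy, hab,
      Nat.mul_div_cancel _ (Nat.pos_of_ne_zero hb0), pow_add]
    ring
  obtain ⟨x, hx⟩ := QuotientGroup.mk_surjective r
  have hxpow : ∃ j, x ^ 2 ^ j = 1 := by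
    refine ⟨a' + 2 + 1, ?_⟩
    have h1 : proj (x ^ 2 ^ (a' + 2)) = 1 := by
      rw [map_pow, show proj x = r from hx, show 2 ^ (a' + 2) = orderOf r by rw [hr]; ring,
        pow_orderOf_eq_one]
    rw [pow_succ, pow_mul]
    rcases proj_eq_one_iff.mp h1 with e | e <;> rw [e]
    · exact one_pow _
    · rw [pow_two, negOne_sq]
  obtain ⟨j, hj⟩ := hxpow
  have hxne : x ≠ 1 ∧ x ≠ negOne := by
    constructor <;> intro e
    · have : r = 1 := by rw [← hx, e]; rfl
      rw [this, orderOf_one] at hr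
      have := Nat.two_pow_pos a'
      omega
    · have : r = 1 := by rw [← hx, e]; exact proj_eq_one_iff.mpr (Or.inr rfl)
      rw [this, orderOf_one] at hr
      have := Nat.two_pow_pos a'
      omega
  have htr : Matrix.trace (x : M2) ^ 2 ≠ 4 := by
    rw [← slTr_eq_trace]
    exact tr_sq_ne_four h2 hxne hj
  obtain ⟨w, hw, hwx⟩ := HallPSL.exists_inverter h2 x htr
  rw [← slTr_eq_trace] at hw
  set s := proj w with hsdef
  have hsord : orderOf s = 2 := proj_involution h2 hw
  have hs2 : s * s = 1 := mul_self_of_order hsord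
  have hsr : s * r * s⁻¹ = r⁻¹ := by
    rw [mul_inv_eq_iff_eq_mul, ← hx]
    show proj w * proj x = (proj x)⁻¹ * proj w
    rw [← map_inv, ← map_mul, ← map_mul, hwx]
  have hr2 : r ^ 2 ≠ 1 := fun e => by
    have := Nat.le_of_dvd two_pos (orderOf_dvd_of_pow_eq_one e)
    have := Nat.two_pow_pos a'
    omega
  have hsnot : s ∉ Subgroup.zpowers r := by
    rintro ⟨i, hi⟩
    refine hr2 ?_
    have hi' : r ^ i = s := hi
    rw [← hi', (Commute.zpow_self r i).eq, mul_inv_cancel_right] at hsr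
    rw [pow_two]
    exact mul_eq_one_iff_eq_inv.2 hsr
  have hsp : ∀ i : ℤ, s * r ^ i = r ^ (-i) * s := by
    intro i
    have h := conj_zpow (a := s) (b := r) (i := i)
    rw [hsr, _root_.inv_zpow'] at h
    rw [h, inv_mul_cancel_right]
  have hrr : ∀ i k : ℤ, r ^ i * s * (r ^ k * s) = r ^ (i - k) := fun i k => by
    rw [mul_assoc, ← mul_assoc s, hsp, mul_assoc, hs2, mul_one, ← _root_.zpow_add, sub_eq_add_neg]
  let T : Subgroup PSL2 :=
    { carrier := {g | ∃ i : ℤ, g = r ^ i ∨ g = r ^ i * s}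
      one_mem' := ⟨0, Or.inl (zpow_zero _).symm⟩
      mul_mem' := by
        rintro _ _ ⟨i, rfl | rfl⟩ ⟨k, rfl | rfl⟩
        · exact ⟨i + k, Or.inl (_root_.zpow_add _ _ _).symm⟩
        · exact ⟨i + k, Or.inr (by rw [_root_.zpow_add, mul_assoc])⟩
        · exact ⟨i - k, Or.inr (by rw [mul_assoc, hsp, ← mul_assoc, ← _root_.zpow_add, sub_eq_add_neg])⟩
        · exact ⟨i - k, Or.inl (hrr i k)⟩
      inv_mem' := by
        rintro _ ⟨i, rfl | rfl⟩
        · exact ⟨-i, Or.inl (_root_.zpow_neg _ _).symm⟩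
        · exact ⟨i, Or.inr (inv_eq_of_mul_eq_one_right (by rw [hrr, sub_self, zpow_zero]))⟩ }
  have hTcard : Nat.card T = 2 ^ (a' + 3) := by
    have hle : Subgroup.zpowers r ≤ T := by
      rintro _ ⟨i, rfl⟩
      exact ⟨i, Or.inl rfl⟩
    have hsT : s ∈ T := ⟨0, Or.inr (by simp)⟩
    have hi : ((Subgroup.zpowers r).subgroupOf T).index = 2 := by
      rw [Subgroup.index_eq_two_iff]
      refine ⟨⟨s, hsT⟩, fun b => ?_⟩
      simp only [Subgroup.mem_subgroupOf, Subgroup.coe_mul]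
      obtain ⟨i, hb | hb⟩ := b.2
      · refine Or.inr ⟨⟨i, hb.symm⟩, fun h => hsnot ?_⟩
        rw [hb] at h
        simpa using mul_mem (inv_mem (Subgroup.zpow_mem_zpowers r i)) h
      · refine Or.inl ⟨?_, fun h => hsnot ?_⟩
        · rw [hb, mul_assoc, hs2, mul_one]
          exact Subgroup.zpow_mem_zpowers r i
        · rw [hb] at h
          simpa using mul_mem (inv_mem (Subgroup.zpow_mem_zpowers r i)) h
    have h := Subgroup.card_mul_index ((Subgroup.zpowers r).subgroupOf T)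
    rw [hi, Nat.card_congr (Subgroup.subgroupOfEquivOfLe hle).toEquiv, Nat.card_zpowers, hr] at h
    rw [← h]
    ring
  have hTodd : T.index % 2 = 1 := by
    have h := Subgroup.card_mul_index T
    rw [hTcard, hcard, hab, show 2 * (2 ^ (a' + 2) * b) * o = 2 ^ (a' + 3) * (b * o) by ring] at h
    rw [Nat.eq_of_mul_eq_mul_left (by positivity) h, Nat.mul_mod, Nat.odd_iff.1 hb, hoo]
  set z := r ^ (2 * ((2 ^ a' : ℕ) : ℤ)) with hzdef
  have hz : orderOf z = 2 := by
    rw [hzdef, show (2 * ((2 ^ a' : ℕ) : ℤ)) = ((2 * 2 ^ a' : ℕ) : ℤ) by push_cast; ring, zpow_natCast,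
      orderOf_pow_of_dvd (by positivity) (by rw [hr]; exact ⟨2, by ring⟩), hr,
      show 4 * 2 ^ a' = 2 * (2 * 2 ^ a') by ring, Nat.mul_div_cancel _ (by positivity)]
  have hfuse : ∀ i : ℤ, orderOf (r ^ i * s) = 2 := fun i =>
    orderOf_eq_prime (by rw [pow_two, hrr, sub_self, zpow_zero]) fun e => hsnot (by
      have : s = (r ^ i)⁻¹ := eq_inv_of_mul_eq_one_right e
      rw [this]
      exact inv_mem (Subgroup.zpow_mem_zpowers r i))
  have hz2 : z * z = 1 := mul_self_of_order hz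
  have hzs : z * s = s * z := by
    rw [hsp, _root_.zpow_neg, ← hzdef, inv_eq_of_mul_eq_one_right hz2]
  have hzne : z ≠ s := fun e => hsnot (e ▸ Subgroup.zpow_mem_zpowers r _)
  refine ⟨{ r := r, s := s, h := 2 ^ a', h_pos := Nat.two_pow_pos a', ord := hr, s_sq := hs2
            s_inv := hsr, s_not := hsnot, T0 := T, mem := fun x => Iff.rfl
            pgroup := IsPGroup.of_card hTcard, odd := hTodd
            fuse := fun i => involutions_conj h2 hz (hfuse i)
            cycle := pair_rotation h2 ⟨hz, hsord, hzne, hzs⟩ }⟩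

/-- `q ≡ ±3 (mod 8)`. -/
theorem four_input (h8 : Fintype.card F % 8 = 3 ∨ Fintype.card F % 8 = 5) {K : Type} [Field K]
    [Finite K] [CharP K 2] (hK : Nat.card K = 4) : Nonempty (ElemInput PSL2 K) := by
  classical
  haveI : Fact (Nat.Prime 2) := ⟨Nat.prime_two⟩
  have hodd : Fintype.card F % 2 = 1 := by omega
  have h2 : (2 : F) ≠ 0 := two_ne_zero_of_odd hodd
  have h12 := twelve_mul_card (F := F) h2
  haveI : Nonempty {V : Subgroup PSL2 // IsKleinFour V} :=
    (Nat.card_pos_iff.1 (by have : 0 < Nat.card PSL2 := Nat.card_pos; omega)).1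
  obtain ⟨V, hV⟩ := Classical.arbitrary {V : Subgroup PSL2 // IsKleinFour V}
  obtain ⟨u, v, h, hVe⟩ := exists_pair hV
  have hVodd : V.index % 2 = 1 := by
    have h1 := Subgroup.card_mul_index V
    rw [hV.card_four] at h1
    have hPSL := two_mul_card_PSL_two_of_odd (F := F) (Nat.odd_iff.2 hodd)
    rw [← h1] at hPSL
    have hone := Fintype.one_lt_card (α := F)
    have : ∃ o, o % 2 = 1 ∧ Fintype.card F * (Fintype.card F - 1) * (Fintype.card F + 1) = 8 * o := by
      rcases h8 with h8 | h8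
      · refine ⟨Fintype.card F * ((Fintype.card F - 1) / 2) * ((Fintype.card F + 1) / 4), ?_, ?_⟩
        · rw [Nat.mul_mod, Nat.mul_mod (Fintype.card F), hodd,
            show (Fintype.card F - 1) / 2 % 2 = 1 by omega,
            show (Fintype.card F + 1) / 4 % 2 = 1 by omega]
        · have e1 : Fintype.card F - 1 = 2 * ((Fintype.card F - 1) / 2) := by omega
          have e2 : Fintype.card F + 1 = 4 * ((Fintype.card F + 1) / 4) := by omega
          conv_lhs => rw [e1, e2]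
          ring
      · refine ⟨Fintype.card F * ((Fintype.card F - 1) / 4) * ((Fintype.card F + 1) / 2), ?_, ?_⟩
        · rw [Nat.mul_mod, Nat.mul_mod (Fintype.card F), hodd,
            show (Fintype.card F - 1) / 4 % 2 = 1 by omega,
            show (Fintype.card F + 1) / 2 % 2 = 1 by omega]
        · have e1 : Fintype.card F - 1 = 4 * ((Fintype.card F - 1) / 4) := by omega
          have e2 : Fintype.card F + 1 = 2 * ((Fintype.card F + 1) / 2) := by omega
          conv_lhs => rw [e1, e2]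
          ring
    obtain ⟨o, ho, hoe⟩ := this
    omega
  obtain ⟨f⟩ := exists_four hK
  obtain ⟨g, hg1, hg2⟩ := pair_rotation h2 h
  have hu2 : u * u = 1 := mul_self_of_order h.1
  have hv2 : v * v = 1 := mul_self_of_order h.2.1
  have hu1 : u ≠ 1 := ne_one_of_order h.1
  have hv1 : v ≠ 1 := ne_one_of_order h.2.1
  have huv : u * v = v * u := h.2.2.2
  have huv1 : u * v ≠ 1 := fun e => h.2.2.1 (by
    rw [eq_inv_of_mul_eq_one_left e, inv_eq_of_mul_eq_one_right hv2])
  let η : K → PSL2 := fun x => if x = 0 then 1 else if x = 1 then u else if x = f.ω then v else u * v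
  have η0 : η 0 = 1 := if_pos rfl
  have η1 : η 1 = u := by simp [η]
  have ηω : η f.ω = v := by simp [η, f.ne0, f.ne1]
  have ηω1 : η (f.ω + 1) = u * v := by
    simp only [η]
    rw [if_neg (fun e => f.ne1 (CharTwo.add_eq_zero.1 e)), if_neg (fun e => f.ne0 (by simpa using e))]
    exact if_neg (fun e => one_ne_zero (α := K) (by simpa using e))
  have vv : ∀ x : K, x + x = 0 := CharTwo.add_self_eq_zero
  have e1 : (1 : K) + f.ω = f.ω + 1 := add_comm _ _
  have e2 : (1 : K) + (f.ω + 1) = f.ω := by rw [add_left_comm, vv, add_zero]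
  have e3 : f.ω + (f.ω + 1) = 1 := by rw [← add_assoc, vv, zero_add]
  have e4 : f.ω + 1 + 1 = f.ω := by rw [add_assoc, vv, add_zero]
  have e5 : f.ω + 1 + f.ω = 1 := by rw [add_comm, ← add_assoc, vv, zero_add]
  have hadd : ∀ a b, η (a + b) = η a * η b := by
    intro a b
    have g1 : v * u = u * v := huv.symm
    have g2 : u * (u * v) = v := by rw [← mul_assoc, hu2, one_mul]
    have g3 : v * (u * v) = u := by rw [← mul_assoc, g1, mul_assoc, hv2, mul_one]
    have g4 : u * v * u = v := by rw [mul_assoc, g1, g2]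
    have g5 : u * v * v = u := by rw [mul_assoc, hv2, mul_one]
    have g6 : u * v * (u * v) = 1 := by rw [mul_assoc, g3, hu2]
    rcases f.cases a with rfl | rfl | rfl | rfl <;> rcases f.cases b with rfl | rfl | rfl | rfl <;>
      simp only [zero_add, add_zero, vv, e1, e2, e3, e4, e5, η0, η1, ηω, ηω1, one_mul, mul_one, hu2,
        hv2, g1, g2, g3, g4, g5, g6]
  have hinj : Function.Injective η := by
    intro a b hab
    have h1 := hadd a b
    rw [hab, ← hadd b b, vv, η0] at h1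
    refine CharTwo.add_eq_zero.1 ?_
    rcases f.cases (a + b) with e | e | e | e
    · exact e
    · rw [e, η1] at h1; exact absurd h1 hu1
    · rw [e, ηω] at h1; exact absurd h1 hv1
    · rw [e, ηω1] at h1; exact absurd h1 huv1
  have hmem : ∀ x, x ∈ V ↔ ∃ w, η w = x := by
    intro x
    rw [← hVe, mem_four]
    constructor
    · rintro (rfl | rfl | rfl | rfl)
      exacts [⟨0, η0⟩, ⟨1, η1⟩, ⟨f.ω, ηω⟩, ⟨f.ω + 1, ηω1⟩]
    · rintro ⟨w, rfl⟩
      rcases f.cases w with rfl | rfl | rfl | rfl <;> simp [η0, η1, ηω, ηω1]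
  have hgω : ∀ x, g * η x * g⁻¹ = η (f.ω * x) := by
    intro x
    have e : f.ω * (f.ω + 1) = 1 := by
      rw [mul_add, mul_one, f.sq, add_comm, ← add_assoc, vv, zero_add]
    rcases f.cases x with rfl | rfl | rfl | rfl
    · rw [mul_zero, η0, mul_one, mul_inv_cancel]
    · rw [mul_one, η1, ηω, hg1]
    · rw [f.sq, ηω, ηω1, hg2]
    · rw [e, ηω1, η1, show g * (u * v) * g⁻¹ = (g * u * g⁻¹) * (g * v * g⁻¹) by group, hg1, hg2,
        huv, ← mul_assoc, hv2, one_mul]
  have hscal : ∀ c : K, c ≠ 0 → ∃ p, ∀ x, p * η x * p⁻¹ = η (c * x) := by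
    intro c hc
    rcases f.cases c with rfl | rfl | rfl | rfl
    · exact absurd rfl hc
    · exact ⟨1, fun x => by simp⟩
    · exact ⟨g, hgω⟩
    · refine ⟨g * g, fun x => ?_⟩
      rw [show g * g * η x * (g * g)⁻¹ = g * (g * η x * g⁻¹) * g⁻¹ by group, hgω, hgω, ← mul_assoc,
        f.sq]
  -- a normalising element fixing `u` centralises
  have hfix : ∀ p, (∀ x, ∃ w, p * η x * p⁻¹ = η w) → p * u * p⁻¹ = u → ∀ x, p * η x * p⁻¹ = η x := by
    intro p hp hpu
    by_contra hne
    have hpv : p * v * p⁻¹ = u * v := by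
      obtain ⟨w, hw⟩ := hp f.ω
      rw [ηω] at hw
      rcases f.cases w with rfl | rfl | rfl | rfl
      · rw [η0] at hw; exact absurd (conj_eq_one_iff.1 hw) hv1
      · rw [η1] at hw
        exact absurd (mul_left_cancel (mul_right_cancel (hw.trans hpu.symm))).symm h.2.2.1
      · refine absurd ?_ hne
        rw [ηω] at hw
        intro x
        rcases f.cases x with rfl | rfl | rfl | rfl
        · rw [η0, mul_one, mul_inv_cancel]
        · rw [η1, hpu]
        · rw [ηω, hw]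
        · rw [ηω1, show p * (u * v) * p⁻¹ = (p * u * p⁻¹) * (p * v * p⁻¹) by group, hpu, hw]
      · rwa [ηω1] at hw
    obtain ⟨r, k, hr, hk⟩ := exists_odd_pow p
    have hV' : ∀ y ∈ V, p * y * p⁻¹ ∈ V := fun y hy => by
      obtain ⟨x, rfl⟩ := (hmem y).1 hy
      obtain ⟨w, hw⟩ := hp x
      exact (hmem _).2 ⟨w, hw.symm⟩
    have hsq : p ^ 2 * v * (p ^ 2)⁻¹ = v := by
      rw [show p ^ 2 * v * (p ^ 2)⁻¹ = p * (p * v * p⁻¹) * p⁻¹ by rw [pow_two]; group, hpv,
        show p * (u * v) * p⁻¹ = (p * u * p⁻¹) * (p * v * p⁻¹) by group, hpu, hpv, ← mul_assoc, hu2,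
        one_mul]
    have hrv : p ^ r * v * (p ^ r)⁻¹ = u * v := by
      obtain ⟨l, rfl⟩ : ∃ l, r = 2 * l + 1 := ⟨r / 2, by omega⟩
      have hc : Commute (p ^ (2 * l)) v := by
        rw [pow_mul]
        exact (show Commute (p ^ 2) v from mul_inv_eq_iff_eq_mul.1 hsq).pow_left l
      rw [pow_succ', mul_assoc p, hc.eq]
      calc p * (v * p ^ (2 * l)) * (p * p ^ (2 * l))⁻¹ = p * v * p⁻¹ := by group
        _ = _ := hpv
    have hQ : IsPGroup 2 (Subgroup.zpowers (p ^ r)) := fun ⟨y, i, hy⟩ => ⟨k, Subtype.ext (by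
      push_cast
      rw [← hy, ← zpow_natCast, ← _root_.zpow_mul, mul_comm, _root_.zpow_mul, zpow_natCast, hk,
        _root_.one_zpow])⟩
    have hVp : IsPGroup 2 V := IsPGroup.of_card (n := 2) (by rw [hV.card_four]; norm_num)
    have hsup := hVp.to_sup_of_normal_left' hQ (Subgroup.zpowers_le.2
      (pow_mem (mem_normalizer_of_conj_mem hV') r))
    set VS : Sylow 2 PSL2 := hVp.toSylow (by omega)
    have hprV : p ^ r ∈ V := by
      have heq : V ⊔ Subgroup.zpowers (p ^ r) = V := VS.is_maximal' hsup le_sup_left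
      rw [← heq]
      exact Subgroup.mem_sup_right (Subgroup.mem_zpowers _)
    haveI := hV
    have hcm : p ^ r * v = v * p ^ r := by
      obtain ⟨x, hx⟩ := (hmem _).1 hprV
      rw [← hx, ← ηω, ← hadd, ← hadd, add_comm]
    rw [hcm, mul_inv_cancel_right] at hrv
    exact hu1 (right_eq_mul.1 hrv)
  refine ⟨{ η := η, inj := hinj, add := hadd, T0 := V, mem := hmem, odd := hVodd, scal := hscal
            norm := fun p hp => ?_ }⟩
  obtain ⟨c, hc⟩ := hp 1
  have hc0 : c ≠ 0 := by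
    rintro rfl
    rw [η0, η1] at hc
    exact hu1 (conj_eq_one_iff.1 hc)
  obtain ⟨p', hp'⟩ := hscal c⁻¹ (inv_ne_zero hc0)
  obtain ⟨q, hq⟩ := hscal c hc0
  have h1 : ∀ x, ∃ w, p' * p * η x * (p' * p)⁻¹ = η w := fun x => by
    obtain ⟨w, hw⟩ := hp x
    exact ⟨c⁻¹ * w, by rw [← hp' w, ← hw]; group⟩
  have h2' : p' * p * u * (p' * p)⁻¹ = u := by
    rw [← η1, show p' * p * η 1 * (p' * p)⁻¹ = p' * (p * η 1 * p⁻¹) * p'⁻¹ by group, hc, hp',
      inv_mul_cancel₀ hc0]
  refine ⟨c, fun x => ?_⟩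
  obtain ⟨w, hw⟩ := hp x
  have h3 := hfix _ h1 h2' x
  rw [show p' * p * η x * (p' * p)⁻¹ = p' * (p * η x * p⁻¹) * p'⁻¹ by group, hw, hp'] at h3
  rw [hw, ← hinj h3, mul_inv_cancel_left₀ hc0]

end PSLInput

end Cfsg.Agent.Lib.TwoTimesPSL
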