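import Mathlib
import Cfsg.Agent.Lib.BenderOne20.RankOne
import Cfsg.Agent.Lib.TwoTimesPSL.Count

/-!
# Lifting from `C(t) / O(C(t))` containing `Z₂ × P`
Owner: helper80.
-/

set_option autoImplicit false
set_option linter.unusedSectionVars false

namespace Cfsg.Agent.Lib.TwoTimesPSL

/-- A Sylow `2`-subgroup `⟨t⟩ × T0` of `C(t)` and the fusion coming from `P`. -/
structure Lifts {G : Type*} [Group G] (t : G) {P : Type*} [Group P] (T0 : Subgroup P) where
  ε : T0 →* G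
  inj : Function.Injective ε
  comm : ∀ x, t * ε x = ε x * t
  t_not : ∀ x, t ≠ ε x
  card_cent : ∃ o, o % 2 = 1 ∧
    Nat.card (Subgroup.centralizer ({t} : Set G)) = 2 * Nat.card T0 * o
  S0 : Subgroup G
  mem_S0 : ∀ x, x ∈ S0 ↔ ∃ a, x = ε a ∨ x = t * ε a
  pgroup : IsPGroup 2 S0
  conj : ∀ p : P, ∃ c, t * c = c * t ∧
    ∀ x y : T0, p * (x : P) * p⁻¹ = y → c * ε x * c⁻¹ = ε y
  cent : ∀ x, (∃ k : ℕ, x ^ 2 ^ k = 1) → t * x = x * t → (∀ a, x * ε a = ε a * x) → x ∈ S0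
  back : ∀ g, t * g = g * t → ∀ p : P, ∃ p' : P, ∀ x y x' y' : T0, p * (x : P) * p⁻¹ = y →
    g * ε x * g⁻¹ = ε x' → g * ε y * g⁻¹ = ε y' → p' * (x' : P) * p'⁻¹ = y'
  no_swap : ∀ g, t * g = g * t → ∀ x y : T0, g * ε x * g⁻¹ ≠ t * ε y

namespace Setup

theorem mzmod_two {a b : Multiplicative (ZMod 2)} : a ≠ 1 → b = 1 ∨ b = a := by
  revert a b
  decide

variable {G : Type*} [Group G] [Finite G]

/-- `C(t) / O(C(t))`. -/
abbrev CBar (t : G) := ↥(Subgroup.centralizer ({t} : Set G)) ⧸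
  Cfsg.oddCore ↥(Subgroup.centralizer ({t} : Set G))

/-- The subgroup generated by the `2`-elements. -/
def two (t : G) : Subgroup (CBar t) := Subgroup.closure {x | ∃ k : ℕ, orderOf x = 2 ^ k}

theorem eq_one_of_coprime {H : Type*} [Group H] {K : Subgroup H} (hK : Odd (Nat.card K)) {x : H}
    (hx : x ∈ K) {k : ℕ} (h : x ^ 2 ^ k = 1) : x = 1 := by
  have h1 : orderOf (⟨x, hx⟩ : K) ∣ Nat.card K := orderOf_dvd_natCard _
  rw [← Subgroup.orderOf_coe] at h1
  have h2 : orderOf x ∣ 2 ^ k := orderOf_dvd_of_pow_eq_one h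
  have hc : Nat.Coprime (2 ^ k) (Nat.card K) := (Nat.coprime_two_left.2 hK).pow_left k
  exact orderOf_eq_one_iff.1 (Nat.eq_one_of_dvd_coprimes hc h2 h1)

theorem exists_pow_of_pgroup {H : Type*} [Group H] {Q : Subgroup H} (hQ : IsPGroup 2 Q) {x : H}
    (hx : x ∈ Q) : ∃ k : ℕ, x ^ 2 ^ k = 1 := by
  obtain ⟨k, hk⟩ := hQ ⟨x, hx⟩
  exact ⟨k, congrArg Subtype.val hk⟩

theorem exists_lifts {t : G} (ht : orderOf t = 2) {P : Type*} [Group P] [Finite P] [IsSimpleGroup P]
    (hP : ¬ IsMulCommutative P) (e : two t ≃* Multiplicative (ZMod 2) × P) (T0 : Subgroup P)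
    (hT : IsPGroup 2 T0) (hodd : T0.index % 2 = 1) : Nonempty (Lifts t T0) := by
  classical
  haveI : Fact (Nat.Prime 2) := ⟨Nat.prime_two⟩
  set C := Subgroup.centralizer ({t} : Set G)
  set O := Cfsg.oddCore ↥C
  haveI hON : O.Normal := inferInstance
  have hOodd : Odd (Nat.card O) := BenderOne20.oddCore_odd
  let π : C →* C ⧸ O := QuotientGroup.mk' O
  have hπs : Function.Surjective π := QuotientGroup.mk'_surjective O
  have hker : π.ker = O := QuotientGroup.ker_mk' O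
  have hπinj : ∀ {Q : Subgroup C}, IsPGroup 2 Q → ∀ x ∈ Q, π x = 1 → x = 1 := by
    intro Q hQ x hx h
    obtain ⟨k, hk⟩ := exists_pow_of_pgroup hQ hx
    refine eq_one_of_coprime hOodd ?_ hk
    rw [← hker]
    exact h
  have hπeq : ∀ {Q : Subgroup C}, IsPGroup 2 Q → ∀ x ∈ Q, ∀ y ∈ Q, π x = π y → x = y :=
    fun {Q} hQ x hx y hy h => by
      have := hπinj hQ (x⁻¹ * y) (mul_mem (inv_mem hx) hy) (by rw [map_mul, map_inv, h, inv_mul_cancel])
      exact inv_mul_eq_one.1 this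
  set L := two t
  have hLnorm : L.Normal := ⟨by
    intro x hx g
    induction hx using Subgroup.closure_induction with
    | mem x hx =>
      obtain ⟨k, hk⟩ := hx
      refine Subgroup.subset_closure ⟨k, ?_⟩
      rw [← hk]
      exact (MulEquiv.orderOf_eq (MulAut.conj g) x)
    | one => simp
    | mul a b _ _ ha hb =>
      rw [show g * (a * b) * g⁻¹ = g * a * g⁻¹ * (g * b * g⁻¹) by group]
      exact mul_mem ha hb
    | inv a _ ha =>
      rw [show g * a⁻¹ * g⁻¹ = (g * a * g⁻¹)⁻¹ by group]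
      exact inv_mem ha⟩
  have hLmem : ∀ x : C ⧸ O, (∃ k : ℕ, x ^ 2 ^ k = 1) → x ∈ L := by
    rintro x ⟨k, hk⟩
    obtain ⟨j, -, hj⟩ := (Nat.dvd_prime_pow Nat.prime_two).1 (orderOf_dvd_of_pow_eq_one hk)
    exact Subgroup.subset_closure ⟨j, hj⟩
  have htt : t * t = 1 := by rw [← pow_two, ← ht, pow_orderOf_eq_one]
  set t' : C := ⟨t, Subgroup.mem_centralizer_singleton_iff.2 rfl⟩ with ht'
  have ht'2 : t' * t' = 1 := Subtype.ext htt
  have ht'c : ∀ c : C, t' * c = c * t' := fun c =>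
    Subtype.ext (Subgroup.mem_centralizer_singleton_iff.1 c.2).symm
  have ht'1 : π t' ≠ 1 := fun h => by
    have h1 : t' = 1 := eq_one_of_coprime hOodd (hker ▸ (h : t' ∈ π.ker)) (k := 1)
      (by rw [pow_one, pow_two, ht'2])
    have h2 : t = 1 := congrArg Subtype.val h1
    rw [h2, orderOf_one] at ht
    omega
  have htL : π t' ∈ L := hLmem _ ⟨1, by rw [pow_one, pow_two, ← map_mul, ht'2, map_one]⟩
  set a := (e ⟨π t', htL⟩).1 with ha
  have htp : (e ⟨π t', htL⟩).2 = 1 := by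
    have hc : (e ⟨π t', htL⟩).2 ∈ Subgroup.center P := by
      rw [Subgroup.mem_center_iff]
      intro p
      obtain ⟨c, hc⟩ := hπs (e.symm (1, p) : C ⧸ O)
      have h1 : e.symm (1, p) * ⟨π t', htL⟩ = ⟨π t', htL⟩ * e.symm (1, p) := Subtype.ext (by
        push_cast
        rw [← hc, ← map_mul, ← map_mul, ht'c])
      have h2 := congrArg (fun z => (e z).2) h1
      simpa [map_mul] using h2
    rcases IsSimpleGroup.eq_bot_or_eq_top_of_normal (Subgroup.center P) inferInstance with h | h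
    · rwa [h, Subgroup.mem_bot] at hc
    · exact absurd ⟨⟨fun u v => (Subgroup.mem_center_iff.1 (h ▸ Subgroup.mem_top v) u)⟩⟩ hP
  have ha1 : a ≠ 1 := fun h => by
    have h1 : e ⟨π t', htL⟩ = 1 := Prod.ext h htp
    rw [map_eq_one_iff e e.injective] at h1
    exact ht'1 (congrArg Subtype.val h1)
  let i : P →* C ⧸ O := L.subtype.comp (e.symm.toMonoidHom.comp (MonoidHom.inr _ _))
  have hi : ∀ p, i p = (e.symm (1, p) : C ⧸ O) := fun p => rfl
  have hiinj : Function.Injective i := fun p q h => by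
    have h1 := e.symm.injective (Subtype.ext h : e.symm (1, p) = e.symm (1, q))
    exact congrArg Prod.snd h1
  have hit : ∀ p q, i p ≠ π t' * i q := fun p q h => by
    have h1 : e.symm (1, p) = (⟨π t', htL⟩ : L) * e.symm (1, q) := Subtype.ext h
    have h2 := congrArg (fun z => (e z).1) h1
    simp only [MulEquiv.apply_symm_apply, map_mul, Prod.fst_mul, mul_one] at h2
    exact ha1 h2.symm
  have hdec : ∀ (x : C ⧸ O) (hx : x ∈ L), x = i (e ⟨x, hx⟩).2 ∨ x = π t' * i (e ⟨x, hx⟩).2 := by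
    intro x hx
    rcases mzmod_two (b := (e ⟨x, hx⟩).1) ha1 with h | h
    · left
      have : e ⟨x, hx⟩ = (1, (e ⟨x, hx⟩).2) := Prod.ext h rfl
      rw [hi, ← this, MulEquiv.symm_apply_apply]
    · right
      have : e ⟨x, hx⟩ = e ⟨π t', htL⟩ * (1, (e ⟨x, hx⟩).2) :=
        Prod.ext (by rw [Prod.fst_mul, mul_one]; exact h) (by rw [Prod.snd_mul, htp, one_mul])
      have h2 := congrArg (fun z => (e.symm z : C ⧸ O)) this
      simp only [map_mul, MulEquiv.symm_apply_apply, Subgroup.coe_mul] at h2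
      exact h2
  -- `i P` is invariant
  have hiconj : ∀ (g : C ⧸ O) (p : P), ∃ p', g * i p * g⁻¹ = i p' := by
    intro g
    have hm : ∀ p, g * i p * g⁻¹ ∈ L := fun p => hLnorm.conj_mem _ (e.symm (1, p)).2 g
    let h : P →* Multiplicative (ZMod 2) :=
      { toFun := fun p => (e ⟨_, hm p⟩).1
        map_one' := by
          rw [show (⟨g * i 1 * g⁻¹, hm 1⟩ : L) = 1 from Subtype.ext (by simp), map_one]
          rfl
        map_mul' := fun p q => by
          rw [← Prod.fst_mul, ← map_mul]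
          congr 2
          exact Subtype.ext (by push_cast; rw [map_mul]; group) }
    intro p
    refine ⟨(e ⟨_, hm p⟩).2, ?_⟩
    have h1 : e ⟨_, hm p⟩ = (1, (e ⟨_, hm p⟩).2) := Prod.ext (Count.map_eq_one hP h p) rfl
    exact (congrArg Subtype.val (e.symm_apply_apply ⟨_, hm p⟩)).symm.trans
      (congrArg (fun z => (e.symm z : C ⧸ O)) h1)
  -- the image of the Sylow subgroup
  let Sbar : Subgroup (C ⧸ O) :=
    ((⊤ : Subgroup (Multiplicative (ZMod 2))).prod T0).map (L.subtype.comp e.symm.toMonoidHom)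
  have hSmem : ∀ x, x ∈ Sbar ↔ ∃ y : T0, x = i y ∨ x = π t' * i y := by
    intro x
    constructor
    · rintro ⟨⟨b, p⟩, ⟨-, hp⟩, rfl⟩
      refine ⟨⟨p, hp⟩, ?_⟩
      have h1 := hdec (e.symm (b, p) : C ⧸ O) (e.symm (b, p)).2
      simp only [Subtype.coe_eta, MulEquiv.apply_symm_apply] at h1
      exact h1
    · rintro ⟨y, rfl | rfl⟩
      · exact ⟨(1, (y : P)), ⟨Subgroup.mem_top _, y.2⟩, rfl⟩
      · refine ⟨e ⟨π t', htL⟩ * (1, (y : P)), ⟨Subgroup.mem_top _, ?_⟩, ?_⟩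
        · rw [Prod.snd_mul, htp, one_mul]; exact y.2
        · simp [hi]
  have hScard : Nat.card Sbar = 2 * Nat.card T0 := by
    rw [Subgroup.card_map_of_injective (fun u v h => e.symm.injective (Subtype.ext h)),
      Nat.card_congr (Subgroup.prodEquiv _ _).toEquiv, Nat.card_prod, Subgroup.card_top,
      Nat.card_congr (Multiplicative.toAdd (α := ZMod 2)), Nat.card_zmod]
  obtain ⟨nT, hnT⟩ := IsPGroup.iff_card.1 hT
  have hSp : IsPGroup 2 Sbar := IsPGroup.of_card (n := nT + 1) (by rw [hScard, hnT, pow_succ'])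
  have hLidx : L.index % 2 = 1 := by
    obtain ⟨Q, -⟩ := hSp.exists_le_sylow
    have hQL : (Q : Subgroup (C ⧸ O)) ≤ L := fun x hx => hLmem x (exists_pow_of_pgroup Q.isPGroup' hx)
    have h1 := Subgroup.index_dvd_of_le hQL
    have h2 := Q.not_dvd_index
    rcases Nat.mod_two_eq_zero_or_one L.index with h | h
    · exact absurd ((Nat.dvd_of_mod_eq_zero h).trans h1) h2
    · exact h
  have hSodd : Sbar.index % 2 = 1 := by
    have h1 := Subgroup.card_mul_index Sbar
    have h2 := Subgroup.card_mul_index L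
    have h3 : Nat.card L = 2 * Nat.card P := by
      rw [Nat.card_congr e.toEquiv, Nat.card_prod, Nat.card_congr (Multiplicative.toAdd (α := ZMod 2)),
        Nat.card_zmod]
    rw [← h2, hScard, h3, ← Subgroup.card_mul_index T0,
      show 2 * (Nat.card T0 * T0.index) * L.index = 2 * Nat.card T0 * (T0.index * L.index) by ring] at h1
    rw [Nat.eq_of_mul_eq_mul_left (Nat.mul_pos two_pos Nat.card_pos) h1, Nat.mul_mod, hodd, hLidx]
  -- a Sylow subgroup of `C` over it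
  obtain ⟨P1⟩ : Nonempty (Sylow 2 C) := inferInstance
  have hP1idx : ¬ 2 ∣ ((P1 : Subgroup C).map π).index := fun h =>
    P1.not_dvd_index (h.trans (Subgroup.index_map_dvd (f := π) _ hπs))
  set P1b : Sylow 2 (C ⧸ O) := (P1.isPGroup'.map π).toSylow hP1idx
  set SS : Sylow 2 (C ⧸ O) := hSp.toSylow (by omega)
  obtain ⟨cb, hcb⟩ := MulAction.exists_smul_eq (C ⧸ O) P1b SS
  obtain ⟨c0, rfl⟩ := hπs cb
  set PC : Sylow 2 C := c0 • P1
  have hPCmap : (PC : Subgroup C).map π = Sbar := by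
    have h1 : (SS : Subgroup (C ⧸ O)) = Sbar := rfl
    have h2 : (P1b : Subgroup (C ⧸ O)) = (P1 : Subgroup C).map π := rfl
    rw [← h1, ← hcb, Sylow.coe_subgroup_smul, Sylow.coe_subgroup_smul, h2]
    ext x
    simp only [Subgroup.mem_map, Subgroup.mem_smul_pointwise_iff_exists, MulAut.smul_def,
      MulAut.conj_apply]
    constructor
    · rintro ⟨_, ⟨y, hy, rfl⟩, rfl⟩
      exact ⟨π y, ⟨y, hy, rfl⟩, by simp⟩
    · rintro ⟨_, ⟨y, hy, rfl⟩, rfl⟩
      exact ⟨_, ⟨y, hy, rfl⟩, by simp⟩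
  have hPp : IsPGroup 2 (PC : Subgroup C) := PC.isPGroup'
  have hlift : ∀ y : T0, ∃ c ∈ (PC : Subgroup C), π c = i y := fun y => by
    have h : i y ∈ Sbar := (hSmem _).2 ⟨y, Or.inl rfl⟩
    rw [← hPCmap] at h
    exact h
  choose lf hlfP hlfπ using hlift
  let ε : T0 →* G := C.subtype.comp
    { toFun := lf
      map_one' := hπeq hPp _ (hlfP 1) _ (one_mem _) (by rw [hlfπ, map_one]; simp)
      map_mul' := fun x y => hπeq hPp _ (hlfP _) _ (mul_mem (hlfP x) (hlfP y)) (by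
        rw [map_mul, hlfπ, hlfπ, hlfπ, Subgroup.coe_mul, map_mul]) }
  have hεv : ∀ x, ε x = (lf x : G) := fun x => rfl
  have htP : t' ∈ (PC : Subgroup C) := by
    have h1 : π t' ∈ Sbar := (hSmem _).2 ⟨1, Or.inr (by simp)⟩
    rw [← hPCmap] at h1
    obtain ⟨y, hy, hyt⟩ := h1
    obtain ⟨k, hk⟩ := exists_pow_of_pgroup hPp hy
    have hm : t'⁻¹ * y ∈ O := by
      rw [← hker, MonoidHom.mem_ker, map_mul, map_inv, hyt, inv_mul_cancel]
    have h2 : t'⁻¹ * y = 1 := eq_one_of_coprime hOodd hm (k := k + 1) (by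
      rw [(show Commute t'⁻¹ y from (Commute.inv_left (ht'c y))).mul_pow,
        show (t'⁻¹) ^ 2 ^ (k + 1) = 1 by
          rw [pow_succ', pow_mul, pow_two t'⁻¹, ← mul_inv_rev, ht'2, inv_one, one_pow],
        one_mul, pow_succ, pow_mul, hk, one_pow])
    rw [inv_mul_eq_one.1 h2]
    exact hy
  have hPmem : ∀ c ∈ (PC : Subgroup C), ∃ y : T0, (c : G) = ε y ∨ (c : G) = t * ε y := by
    intro c hc
    have h1 : π c ∈ Sbar := hPCmap ▸ ⟨c, hc, rfl⟩
    obtain ⟨y, h | h⟩ := (hSmem _).1 h1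
    · exact ⟨y, Or.inl (congrArg Subtype.val (hπeq hPp c hc _ (hlfP y) (h.trans (hlfπ y).symm)))⟩
    · exact ⟨y, Or.inr (congrArg Subtype.val (hπeq hPp c hc _ (mul_mem htP (hlfP y))
        (by rw [h, map_mul, hlfπ])))⟩
  -- lifting conjugations
  have hkey : ∀ (p : P) (Q : Subgroup T0), (∀ x ∈ Q, p * (x : P) * p⁻¹ ∈ T0) →
      ∃ k : C, ∀ x ∈ Q, k * lf x * k⁻¹ ∈ (PC : Subgroup C) ∧ π (k * lf x * k⁻¹) = i (p * (x : P) * p⁻¹) := by
    intro p Q hQ
    obtain ⟨c, hc⟩ := hπs (i p)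
    set QC : Subgroup C := Q.map
      ({ toFun := lf
         map_one' := hπeq hPp _ (hlfP 1) _ (one_mem _) (by rw [hlfπ, map_one]; simp)
         map_mul' := fun x y => hπeq hPp _ (hlfP _) _ (mul_mem (hlfP x) (hlfP y)) (by
           rw [map_mul, hlfπ, hlfπ, hlfπ, Subgroup.coe_mul, map_mul]) } : T0 →* C)
    have hQCle : QC ≤ (PC : Subgroup C) := by
      rintro _ ⟨x, -, rfl⟩
      exact hlfP x
    set Q1 := QC.map (MulAut.conj c).toMonoidHom
    have hQ1p : IsPGroup 2 Q1 := (hPp.to_le hQCle).map _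
    set Qb := Q1.map π
    set X := Qb.comap π
    have hQ1X : Q1 ≤ X := fun x hx => ⟨x, hx, rfl⟩
    set Q' := (PC : Subgroup C) ⊓ X
    have hQ'p : IsPGroup 2 Q' := hPp.to_le inf_le_left
    have hQbS : ∀ y ∈ Qb, ∃ x : T0, x ∈ Q ∧ y = i (p * (x : P) * p⁻¹) := by
      rintro _ ⟨_, ⟨_, ⟨x, hx, rfl⟩, rfl⟩, rfl⟩
      refine ⟨x, hx, ?_⟩
      show π (c * lf x * c⁻¹) = _
      rw [map_mul, map_mul, map_inv, hc, hlfπ, ← map_inv i, ← map_mul, ← map_mul]
    have hQ'map : Q'.map π = Qb := by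
      refine le_antisymm (Subgroup.map_le_iff_le_comap.2 inf_le_right) fun y hy => ?_
      obtain ⟨x, hx, hyx⟩ := hQbS y hy
      refine ⟨lf ⟨_, hQ x hx⟩, Subgroup.mem_inf.2 ⟨hlfP _, ?_⟩, (hlfπ _).trans hyx.symm⟩
      show π _ ∈ Qb
      rw [hlfπ, ← hyx]
      exact hy
    have hcardinj : ∀ {R : Subgroup C}, IsPGroup 2 R → Nat.card (R.map π) = Nat.card R := by
      intro R hR
      refine (Nat.card_congr (Equiv.ofBijective (fun r : R => (⟨π r, r, r.2, rfl⟩ : R.map π)) ⟨?_, ?_⟩)).symm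
      · exact fun u v h => Subtype.ext (hπeq hR u u.2 v v.2 (congrArg Subtype.val h))
      · rintro ⟨_, r, hr, rfl⟩
        exact ⟨⟨r, hr⟩, rfl⟩
    have hXcard : Nat.card X = Nat.card Qb * Nat.card O := by
      have h1 := Subgroup.card_mul_index X
      rw [Subgroup.index_comap_of_surjective _ hπs] at h1
      have h2 := Subgroup.card_mul_index Qb
      have h3 := Subgroup.card_eq_card_quotient_mul_card_subgroup O
      rw [← h2] at h3
      have hpos : 0 < Qb.index := Nat.pos_of_ne_zero Subgroup.index_ne_zero_of_finite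
      exact Nat.eq_of_mul_eq_mul_right hpos (by linarith)
    have hsyl : ∀ {R : Subgroup C}, R ≤ X → IsPGroup 2 R → R.map π = Qb →
        ∃ S : Sylow 2 X, ∀ x, x ∈ (S : Subgroup X) ↔ (x : C) ∈ R := by
      intro R hRX hR hmap
      have h1 := Subgroup.card_mul_index (R.subgroupOf X)
      rw [Nat.card_congr (Subgroup.subgroupOfEquivOfLe hRX).toEquiv, ← hcardinj hR, hmap, hXcard] at h1
      have h2 := Nat.eq_of_mul_eq_mul_left Nat.card_pos h1
      refine ⟨(hR.comap_subtype (K := X)).toSylow ?_, fun x => ?_⟩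
      · rw [show R.comap X.subtype = R.subgroupOf X from rfl, h2]
        exact fun h => Nat.not_even_iff_odd.2 hOodd (even_iff_two_dvd.2 h)
      · exact Iff.rfl
    obtain ⟨S1, hS1⟩ := hsyl hQ1X hQ1p rfl
    obtain ⟨S2, hS2⟩ := hsyl inf_le_right hQ'p hQ'map
    obtain ⟨m, hm⟩ := MulAction.exists_smul_eq X S1 S2
    have hmX : π (m : C) ∈ Q'.map π := hQ'map ▸ m.2
    obtain ⟨q, hq, hqm⟩ := hmX
    refine ⟨q⁻¹ * m * c, fun x hx => ?_⟩
    have h1 : c * lf x * c⁻¹ ∈ Q1 := ⟨_, ⟨x, hx, rfl⟩, rfl⟩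
    have h2 : (⟨c * lf x * c⁻¹, hQ1X h1⟩ : X) ∈ (S1 : Subgroup X) := (hS1 _).2 h1
    have h3 := Subgroup.smul_mem_pointwise_smul _ (MulAut.conj m) _ h2
    have h4 : MulAut.conj m • (⟨c * lf x * c⁻¹, hQ1X h1⟩ : X) ∈ (S2 : Subgroup X) := by
      rw [← hm, Sylow.coe_subgroup_smul]; exact h3
    have h5 : (m : C) * (c * lf x * c⁻¹) * (m : C)⁻¹ ∈ Q' := (hS2 _).1 h4
    have e1 : q⁻¹ * m * c * lf x * (q⁻¹ * m * c)⁻¹ = q⁻¹ * ((m : C) * (c * lf x * c⁻¹) * (m : C)⁻¹) * q := by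
      group
    refine ⟨?_, ?_⟩
    · rw [e1]
      exact mul_mem (mul_mem (inv_mem hq.1) h5.1) hq.1
    · simp only [map_mul, map_inv, hqm, inv_mul_cancel, one_mul, hc, hlfπ]
  have hεinj : Function.Injective ε := fun x y h => by
    have h1 : π (lf x) = π (lf y) := congrArg π (Subtype.ext h)
    rw [hlfπ, hlfπ] at h1
    exact Subtype.ext (hiinj h1)
  refine ⟨{ ε := ε
            inj := hεinj
            comm := fun x => congrArg Subtype.val (ht'c (lf x))
            t_not := fun x h => hit (x : P) 1 ?_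
            card_cent := ?_
            S0 := (PC : Subgroup C).map C.subtype
            mem_S0 := ?_
            pgroup := hPp.map _
            conj := fun p => ?_
            cent := fun x hx hxt hxa => ?_
            back := fun g hg p => ?_
            no_swap := fun g hg x y h => ?_ }⟩
  · have h1 : lf x = t' := Subtype.ext h.symm
    rw [map_one, mul_one, ← hlfπ x, h1]
  · refine ⟨(PC : Subgroup C).index, ?_, ?_⟩
    · have := PC.not_dvd_index
      omega
    · rw [← hScard, ← hPCmap]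
      have hinj : Nat.card ((PC : Subgroup C).map π) = Nat.card (PC : Subgroup C) := by
        refine (Nat.card_congr (Equiv.ofBijective
          (fun r : (PC : Subgroup C) => (⟨π r, r, r.2, rfl⟩ : (PC : Subgroup C).map π)) ⟨?_, ?_⟩)).symm
        · exact fun u v h => Subtype.ext (hπeq hPp u u.2 v v.2 (congrArg Subtype.val h))
        · rintro ⟨_, r, hr, rfl⟩
          exact ⟨⟨r, hr⟩, rfl⟩
      rw [hinj, Subgroup.card_mul_index]
  · intro x
    constructor
    · rintro ⟨c, hc, rfl⟩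
      exact hPmem c hc
    · rintro ⟨a', rfl | rfl⟩
      · exact ⟨lf a', hlfP a', rfl⟩
      · exact ⟨t' * lf a', mul_mem htP (hlfP a'), rfl⟩
  · obtain ⟨k, hk⟩ := hkey p ((T0 ⊓ T0.comap (MulAut.conj p).toMonoidHom).subgroupOf T0)
      fun x hx => (Subgroup.mem_inf.1 hx).2
    refine ⟨k, (Subgroup.mem_centralizer_singleton_iff.1 k.2).symm, fun x y hxy => ?_⟩
    have hx : x ∈ (T0 ⊓ T0.comap (MulAut.conj p).toMonoidHom).subgroupOf T0 :=
      Subgroup.mem_inf.2 ⟨x.2, by show p * (x : P) * p⁻¹ ∈ T0; rw [hxy]; exact y.2⟩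
    obtain ⟨h1, h2⟩ := hk x hx
    exact congrArg Subtype.val (hπeq hPp _ h1 _ (hlfP y) (by rw [h2, hxy, hlfπ]))
  · set xc : C := ⟨x, Subgroup.mem_centralizer_singleton_iff.2 hxt.symm⟩
    obtain ⟨k, hk⟩ := hx
    have hQ : IsPGroup 2 (Subgroup.zpowers xc) := fun ⟨u, j, hu⟩ => ⟨k, Subtype.ext (by
      push_cast
      rw [← hu, ← zpow_natCast, ← zpow_mul, mul_comm, zpow_mul, zpow_natCast,
        show xc ^ 2 ^ k = 1 from Subtype.ext hk, one_zpow])⟩
    have hcen : Subgroup.zpowers xc ≤ Subgroup.centralizer ((PC : Subgroup C) : Set C) := by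
      rw [Subgroup.zpowers_le, Subgroup.mem_centralizer_iff]
      intro c hc
      refine Subtype.ext ?_
      show (c : G) * x = x * c
      obtain ⟨y, h | h⟩ := hPmem c hc
      · rw [h, hxa]
      · rw [h, mul_assoc, ← hxa, ← mul_assoc, hxt, mul_assoc]
    have hsup := hPp.to_sup_of_normal_left' hQ (hcen.trans (Subgroup.centralizer_le_normalizer _))
    have hxP : xc ∈ (PC : Subgroup C) := by
      have heq : (PC : Subgroup C) ⊔ Subgroup.zpowers xc = PC := PC.is_maximal' hsup le_sup_left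
      rw [← heq]
      exact Subgroup.mem_sup_right (Subgroup.mem_zpowers _)
    exact ⟨xc, hxP, rfl⟩
  · set gc : C := ⟨g, Subgroup.mem_centralizer_singleton_iff.2 hg.symm⟩
    obtain ⟨p', hp'⟩ := hiconj (π gc) p
    refine ⟨p', fun x y x' y' hxy hx hy => hiinj ?_⟩
    have ex : gc * lf x * gc⁻¹ = lf x' := Subtype.ext hx
    have ey : gc * lf y * gc⁻¹ = lf y' := Subtype.ext hy
    have hX : i (x' : P) = π gc * i (x : P) * (π gc)⁻¹ := by
      rw [← hlfπ x', ← ex, map_mul, map_mul, map_inv, hlfπ]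
    have hY : i (y' : P) = π gc * i (y : P) * (π gc)⁻¹ := by
      rw [← hlfπ y', ← ey, map_mul, map_mul, map_inv, hlfπ]
    rw [map_mul, map_mul, map_inv, ← hp', hX, hY, ← hxy, map_mul, map_mul, map_inv]
    group
  · set gc : C := ⟨g, Subgroup.mem_centralizer_singleton_iff.2 hg.symm⟩
    obtain ⟨p', hp'⟩ := hiconj (π gc) (x : P)
    have e1 : gc * lf x * gc⁻¹ = t' * lf y := Subtype.ext h
    refine hit p' (y : P) ?_
    rw [← hp', ← hlfπ x, ← map_inv π, ← map_mul, ← map_mul, e1, map_mul, hlfπ]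

end Setup

end Cfsg.Agent.Lib.TwoTimesPSL
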