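import Mathlib
import Cfsg.Agent.Lib.TwoTimesPSL.Setup
import Cfsg.Agent.Lib.TwoTimesPSL.PSLInput
import Cfsg.Agent.Lib.TwoTimesPSL.Orbit
import Cfsg.Agent.Lib.TwoTimesPSL.Dihedral

/-!
# From the lifted Sylow subgroup to the two cases
Owner: helper80.
-/

set_option autoImplicit false
set_option linter.unusedSectionVars false

namespace Cfsg.Agent.Lib.TwoTimesPSL

variable {G : Type*} [Group G] [Finite G] {t : G} {P : Type*} [Group P] [Finite P]

theorem Lifts.t_sq {T0 : Subgroup P} (_Λ : Lifts t T0) (ht : orderOf t = 2) : t * t = 1 := by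
  rw [← pow_two, ← ht, pow_orderOf_eq_one]

theorem elem_case [IsSimpleGroup G] (hG : ¬ IsMulCommutative G) (ht : orderOf t = 2) {K : Type*}
    [Field K] [Finite K] [CharP K 2] (hK : 2 < Nat.card K) (I : ElemInput P K) (Λ : Lifts t I.T0)
    (S : Sylow 2 G) : Nat.card ↥(S : Subgroup G) = 8 ∧ ∀ x ∈ (S : Subgroup G), x ^ 2 = 1 := by
  classical
  have hη : ∀ v, I.η v ∈ I.T0 := fun v => (I.mem _).2 ⟨v, rfl⟩
  let e : K → I.T0 := fun v => ⟨I.η v, hη v⟩
  have he : Function.Injective e := fun a b h => I.inj (congrArg Subtype.val h)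
  have hes : Function.Surjective e := fun y => by
    obtain ⟨v, hv⟩ := (I.mem _).1 y.2
    exact ⟨v, Subtype.ext hv⟩
  let ι : K → G := fun v => Λ.ε (e v)
  have hsc : ∀ c : K, c ≠ 0 → ∃ g, t * g = g * t ∧ ∀ v, g * ι v * g⁻¹ = ι (c * v) := by
    intro c hc
    obtain ⟨p, hp⟩ := I.scal c hc
    obtain ⟨g, hgt, hg⟩ := Λ.conj p
    exact ⟨g, hgt, fun v => hg _ _ (hp v)⟩
  choose! sc hsc1 hsc2 using hsc
  let Fr : Frame t K :=
    { ι := ι
      ι_inj := fun a b h => he (Λ.inj h)
      ι_add := fun a b => by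
        show Λ.ε (e (a + b)) = Λ.ε (e a) * Λ.ε (e b)
        rw [← map_mul]
        exact congrArg Λ.ε (Subtype.ext (I.add a b))
      ι_comm := fun a => Λ.comm _
      sc := sc
      sc_comm := fun a ha => hsc1 a ha
      sc_act := fun a x ha => hsc2 a ha x
      t_inv := Λ.t_sq ht
      t_not := fun a => Λ.t_not _
      cent := fun x hx hxt hxι => by
        obtain ⟨y, hy⟩ := (Λ.mem_S0 x).1 (Λ.cent x hx hxt fun a => by
          obtain ⟨v, rfl⟩ := hes a
          exact hxι v)
        obtain ⟨v, rfl⟩ := hes y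
        exact ⟨v, hy⟩ }
  have hcardT : Nat.card I.T0 = Nat.card K :=
    (Nat.card_congr (Equiv.ofBijective e ⟨he, hes⟩)).symm
  have D : Elem Fr :=
    { big := hK
      card_cent := by rw [← hcardT]; exact Λ.card_cent
      semilin := by
        intro g hg hgU
        choose φ hφ using hgU
        have hφadd : ∀ a b, φ (a + b) = φ a + φ b := fun a b => by
          refine Fr.ι_inj ?_
          rw [← hφ, Fr.ι_add, Fr.ι_add, ← hφ, ← hφ]
          group
        have hφ0 : φ 0 = 0 := by
          have := hφadd 0 0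
          rw [add_zero] at this
          exact left_eq_add.1 this
        have hφinj : Function.Injective φ := fun a b h => by
          have := (hφ a).trans ((congrArg Fr.ι h).trans (hφ b).symm)
          exact Fr.ι_inj (mul_left_cancel (mul_right_cancel this))
        have hφs : Function.Surjective φ := Finite.injective_iff_surjective.1 hφinj
        have key : ∀ c, c ≠ 0 → ∃ c', ∀ v, φ (c * v) = c' * φ v := by
          intro c hc
          obtain ⟨p, hp⟩ := I.scal c hc
          obtain ⟨p', hp'⟩ := Λ.back g hg p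
          have h1 : ∀ v, p' * I.η (φ v) * p'⁻¹ = I.η (φ (c * v)) := fun v =>
            hp' (e v) (e (c * v)) (e (φ v)) (e (φ (c * v))) (hp v) (hφ v) (hφ (c * v))
          obtain ⟨c', hc'⟩ := I.norm p' fun w => by
            obtain ⟨v, rfl⟩ := hφs w
            exact ⟨_, h1 v⟩
          exact ⟨c', fun v => I.inj ((h1 v).symm.trans (hc' _))⟩
        choose! m hm using key
        set a := φ 1
        have ha : a ≠ 0 := fun h => one_ne_zero (α := K) (hφinj (h.trans hφ0.symm))
        let σf : K → K := fun c => φ c * a⁻¹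
        have hmeq : ∀ c, c ≠ 0 → m c = σf c := fun c hc => by
          have := hm c hc 1
          rw [mul_one] at this
          show m c = φ c * a⁻¹
          rw [this, mul_inv_cancel_right₀ ha]
        have hσmul : ∀ c d, σf (c * d) = σf c * σf d := fun c d => by
          by_cases hc : c = 0
          · simp [σf, hc, hφ0]
          show φ (c * d) * a⁻¹ = σf c * σf d
          rw [hm c hc d, hmeq c hc, mul_assoc]
        have hσbij : Function.Bijective σf := Finite.injective_iff_bijective.1 fun c d h =>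
          hφinj (mul_right_cancel₀ (inv_ne_zero ha) h)
        let σ : K ≃+* K :=
          { Equiv.ofBijective σf hσbij with
            map_mul' := hσmul
            map_add' := fun c d => by
              show φ (c + d) * a⁻¹ = φ c * a⁻¹ + φ d * a⁻¹
              rw [hφadd, add_mul] }
        refine ⟨a, σ, fun v => ?_⟩
        rw [hφ v]
        congr 1
        show φ v = a * (φ v * a⁻¹)
        rw [mul_comm (φ v), mul_inv_cancel_left₀ ha]
      U_inv := fun g hg v hv => by
        obtain ⟨w, hw | hw⟩ := Elem.mem_E.1 hv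
        · exact ⟨w, hw⟩
        · exact absurd hw (Λ.no_swap g hg (e v) (e w)) }
  exact D.conclusion hG S

theorem dih_case [IsSimpleGroup G] (hG : ¬ IsMulCommutative G) (ht : orderOf t = 2)
    (I : DihInput P) (Λ : Lifts t I.T0) {K : Type} [Field K] [Finite K] [CharP K 2]
    (hK : Nat.card K = 4) : False := by
  classical
  have hr : I.r ∈ I.T0 := (I.mem _).2 ⟨1, Or.inl (zpow_one _).symm⟩
  have hs : I.s ∈ I.T0 := (I.mem _).2 ⟨0, Or.inr (by simp)⟩
  set R : I.T0 := ⟨I.r, hr⟩
  set S' : I.T0 := ⟨I.s, hs⟩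
  have hS2 : S' * S' = 1 := Subtype.ext I.s_sq
  have hel : ∀ y : I.T0, ∃ i : ℤ, y = R ^ i ∨ y = R ^ i * S' := fun y => by
    obtain ⟨i, h | h⟩ := (I.mem _).1 y.2
    · exact ⟨i, Or.inl (Subtype.ext (by push_cast; exact h))⟩
    · exact ⟨i, Or.inr (Subtype.ext (by push_cast; exact h))⟩
  have hcyc : ∃ g, t * g = g * t ∧ g * Λ.ε R ^ (2 * (I.h : ℤ)) * g⁻¹ = Λ.ε S' ∧
      g * Λ.ε S' * g⁻¹ = Λ.ε R ^ (2 * (I.h : ℤ)) * Λ.ε S' := by
    obtain ⟨p, hp1, hp2⟩ := I.cycle
    obtain ⟨g, hgt, hg⟩ := Λ.conj p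
    refine ⟨g, hgt, ?_, ?_⟩
    · rw [← map_zpow]
      exact hg _ _ (by push_cast; exact hp1)
    · rw [← map_zpow, ← map_mul]
      exact hg _ _ (by push_cast; exact hp2)
  let d : Dih t :=
    { S0 := Λ.S0
      r := Λ.ε R
      s := Λ.ε S'
      h := I.h
      h_pos := I.h_pos
      ord := by rw [orderOf_injective Λ.ε Λ.inj, ← Subgroup.orderOf_coe]; exact I.ord
      t_inv := Λ.t_sq ht
      s_sq := by rw [← map_mul, hS2, map_one]
      s_inv := by
        rw [← map_inv, ← map_inv, ← map_mul, ← map_mul]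
        exact congrArg Λ.ε (Subtype.ext I.s_inv)
      s_not := fun h => by
        obtain ⟨i, hi⟩ := h
        have hi' : Λ.ε (R ^ i) = Λ.ε S' := (map_zpow Λ.ε R i).trans hi
        exact I.s_not ⟨i, by
          have := congrArg Subtype.val (Λ.inj hi')
          push_cast at this
          exact this⟩
      tr := Λ.comm _
      ts := Λ.comm _
      t_not := fun i => ⟨by rw [← map_zpow]; exact Λ.t_not _,
        by rw [← map_zpow, ← map_mul]; exact Λ.t_not _⟩
      mem_S0 := fun x => by
        rw [Λ.mem_S0]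
        constructor
        · rintro ⟨y, hy⟩
          obtain ⟨i, rfl | rfl⟩ := hel y
          · rw [map_zpow] at hy
            exact ⟨i, hy.elim Or.inl fun h => Or.inr (Or.inr (Or.inl h))⟩
          · rw [map_mul, map_zpow] at hy
            exact ⟨i, hy.elim (fun h => Or.inr (Or.inl h)) fun h => Or.inr (Or.inr (Or.inr h))⟩
        · rintro ⟨i, h | h | h | h⟩
          · exact ⟨R ^ i, Or.inl (by rw [map_zpow]; exact h)⟩
          · exact ⟨R ^ i * S', Or.inl (by rw [map_mul, map_zpow]; exact h)⟩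
          · exact ⟨R ^ i, Or.inr (by rw [map_zpow]; exact h)⟩
          · exact ⟨R ^ i * S', Or.inr (by rw [map_mul, map_zpow]; exact h)⟩
      pgroup := Λ.pgroup
      card_cent := by
        obtain ⟨o, ho, hC⟩ := Λ.card_cent
        refine ⟨o, ho, ?_⟩
        have hcov : Nat.card Λ.S0 = 2 * Nat.card (Λ.ε.range) := by
          refine Basics.card_of_cover (Λ.t_sq ht) ?_ ((Λ.mem_S0 t).2 ⟨1, Or.inr (by simp)⟩) ?_ ?_
          · rintro _ ⟨a, rfl⟩
            exact (Λ.mem_S0 _).2 ⟨a, Or.inl rfl⟩
          · rintro ⟨a, ha⟩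
            exact Λ.t_not a ha.symm
          · intro x hx
            obtain ⟨a, rfl | rfl⟩ := (Λ.mem_S0 x).1 hx
            · exact Or.inl ⟨a, rfl⟩
            · refine Or.inr ⟨a, ?_⟩
              rw [Λ.comm, mul_assoc, Λ.t_sq ht, mul_one]
        rw [hcov, ← Nat.card_congr (MonoidHom.ofInjective Λ.inj).toEquiv]
        exact hC
      fuse := fun i => by
        obtain ⟨p, hp⟩ := I.fuse i
        obtain ⟨g, hgt, hg⟩ := Λ.conj p
        refine ⟨g, hgt, ?_⟩
        rw [← map_zpow, ← map_zpow, ← map_mul]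
        exact hg _ _ (by push_cast; exact hp)
      cycle := hcyc }
  exact d.false_of_four hG hK

end Cfsg.Agent.Lib.TwoTimesPSL
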